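import Mathlib
import Groth.Prelude.Def_W4c5adicflatcomplDec

/-!
Helper lemmas (helper8): modules of adically decaying functions.
-/

set_option autoImplicit false
universe u v w

namespace Groth.Agent.Lib.helper8
open W4c5adicflatcompl

theorem helper8_exists_sum_of_mem_smul {A : Type u} [CommRing A] {C : Type w} [AddCommGroup C]
    [Module A C] (J : Ideal A) {s : ℕ} (r : Fin s → A) (hr : Submodule.span A (Set.range r) = J)
    (N : Submodule A C) (x : C) (hx : x ∈ J • N) :
    ∃ c : Fin s → C, (∀ j, c j ∈ N) ∧ x = ∑ j, r j • c j := by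
  refine Submodule.smul_induction_on hx ?_ ?_
  · intro a ha y hy
    rw [← hr] at ha
    obtain ⟨b, rfl⟩ := (Submodule.mem_span_range_iff_exists_fun A).mp ha
    refine ⟨fun j => b j • y, fun j => N.smul_mem _ hy, ?_⟩
    rw [Finset.sum_smul]
    apply Finset.sum_congr rfl
    intro j _
    rw [smul_eq_mul, mul_smul, smul_comm]
  · rintro x y ⟨c, hc, rfl⟩ ⟨c', hc', rfl⟩
    refine ⟨fun j => c j + c' j, fun j => N.add_mem (hc j) (hc' j), ?_⟩
    rw [← Finset.sum_add_distrib]
    apply Finset.sum_congr rfl
    intro j _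
    rw [smul_add]

theorem helper8_mem_pow_smul_top_decaying_iff {A : Type u} [CommRing A] (I : Ideal A) (hI : I.FG)
    (Z : Type v) (C : Type w) [AddCommGroup C] [Module A C] [IsHausdorff I C] (n : ℕ)
    (f : decaying I Z C) :
    f ∈ (I ^ n • ⊤ : Submodule A (decaying I Z C)) ↔
      ∀ z, (f : Z → C) z ∈ (I ^ n • ⊤ : Submodule A C) := by
  classical
  constructor
  · intro hf
    refine Submodule.smul_induction_on hf ?_ ?_
    · intro a ha h _ z
      exact Submodule.smul_mem_smul ha Submodule.mem_top
    · intro x y hx hy z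
      exact Submodule.add_mem _ (hx z) (hy z)
  · intro hf
    obtain ⟨s, r, hr⟩ := Submodule.fg_iff_exists_fin_generating_family.mp (hI.pow (n := n))
    have hanti : ∀ {a b : ℕ}, a ≤ b → (I ^ b • ⊤ : Submodule A C) ≤ I ^ a • ⊤ :=
      fun h => Submodule.smul_mono (Ideal.pow_le_pow_right h) le_rfl
    have hex : ∀ z, ∃ c : Fin s → C, (f : Z → C) z = ∑ j, r j • c j ∧
        ∀ m, (f : Z → C) z ∈ (I ^ (n + m) • ⊤ : Submodule A C) →
          ∀ j, c j ∈ (I ^ m • ⊤ : Submodule A C) := by
      intro z
      by_cases h : ∀ m, (f : Z → C) z ∈ (I ^ (n + m) • ⊤ : Submodule A C)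
      · have h0 : (f : Z → C) z = 0 := by
          apply IsHausdorff.haus (inferInstance : IsHausdorff I C)
          intro m
          rw [SModEq.sub_mem, sub_zero]
          exact hanti (Nat.le_add_left m n) (h m)
        exact ⟨fun _ => 0, by simp [h0], fun m _ j => Submodule.zero_mem _⟩
      · push Not at h
        have hn0 : Nat.find h ≠ 0 := by
          intro h0
          have := Nat.find_spec h
          rw [h0, add_zero] at this
          exact this (hf z)
        have hmem : (f : Z → C) z ∈ (I ^ (n + (Nat.find h - 1)) • ⊤ : Submodule A C) := by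
          by_contra hc
          have := Nat.find_min' h hc
          omega
        rw [pow_add, Submodule.mul_smul] at hmem
        obtain ⟨c, hc, hsum⟩ := helper8_exists_sum_of_mem_smul (I ^ n) r hr _ _ hmem
        refine ⟨c, hsum, fun m hm j => ?_⟩
        have hlt : m < Nat.find h := by
          by_contra hge
          push Not at hge
          exact Nat.find_spec h (hanti (Nat.add_le_add_left hge n) hm)
        exact hanti (by omega : m ≤ Nat.find h - 1) (hc j)
    choose c hc1 hc2 using hex
    have hh : ∀ j, (fun z => c z j) ∈ decaying I Z C := by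
      intro j m
      refine (f.2 (n + m)).subset ?_
      intro z hz hmem
      exact hz (hc2 z m hmem j)
    have hsum : f = ∑ j, r j • (⟨fun z => c z j, hh j⟩ : decaying I Z C) := by
      apply Subtype.ext
      funext z
      rw [Submodule.coe_sum, Finset.sum_apply, hc1 z]
      rfl
    rw [hsum]
    have hrmem : ∀ j, r j ∈ I ^ n := fun j => by
      rw [← hr]; exact Submodule.subset_span ⟨j, rfl⟩
    exact Submodule.sum_mem _ (fun j _ => Submodule.smul_mem_smul (hrmem j) Submodule.mem_top)

theorem helper8_decaying_isAdicComplete {A : Type u} [CommRing A] (I : Ideal A) (hI : I.FG)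
    (Z : Type v) (C : Type w) [AddCommGroup C] [Module A C] [IsAdicComplete I C] :
    IsAdicComplete I (decaying I Z C) := by
  have hcrit := fun n f => helper8_mem_pow_smul_top_decaying_iff I hI Z C n f
  have hH : IsHausdorff I (decaying I Z C) := by
    refine ⟨fun f hf => ?_⟩
    apply Subtype.ext
    funext z
    change (f : Z → C) z = 0
    apply IsHausdorff.haus (inferInstance : IsHausdorff I C)
    intro n
    rw [SModEq.sub_mem, sub_zero]
    have := hf n
    rw [SModEq.sub_mem, sub_zero, hcrit] at this
    exact this z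
  have hP : IsPrecomplete I (decaying I Z C) := by
    refine ⟨fun f hf => ?_⟩
    have hz : ∀ z, ∃ L : C, ∀ n, (f n : Z → C) z ≡ L [SMOD (I ^ n • ⊤ : Submodule A C)] := by
      intro z
      apply IsPrecomplete.prec (inferInstance : IsPrecomplete I C)
      intro m n hmn
      have := hf hmn
      rw [SModEq.sub_mem, hcrit] at this
      rw [SModEq.sub_mem]
      exact this z
    choose L hL using hz
    have hLdec : L ∈ decaying I Z C := by
      intro n
      refine ((f n).2 n).subset ?_
      intro z hz hmem
      apply hz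
      have h1 := hL z n
      rw [SModEq.sub_mem] at h1
      have : L z = (f n : Z → C) z - ((f n : Z → C) z - L z) := by abel
      rw [this]
      exact Submodule.sub_mem _ hmem h1
    refine ⟨⟨L, hLdec⟩, fun n => ?_⟩
    rw [SModEq.sub_mem, hcrit]
    intro z
    have h1 := hL z n
    rw [SModEq.sub_mem] at h1
    exact h1
  exact { toIsHausdorff := hH, toIsPrecomplete := hP }

theorem helper8_map_mem_pow_smul_top {A : Type u} [CommRing A] (I : Ideal A) {X : Type*}
    {Y : Type*} [AddCommGroup X] [Module A X] [AddCommGroup Y] [Module A Y] (h : X →ₗ[A] Y)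
    (n : ℕ) (x : X) (hx : x ∈ (I ^ n • ⊤ : Submodule A X)) :
    h x ∈ (I ^ n • ⊤ : Submodule A Y) := by
  have h1 : h x ∈ Submodule.map h (I ^ n • ⊤ : Submodule A X) := ⟨x, hx, rfl⟩
  rw [Submodule.map_smul''] at h1
  exact Submodule.smul_mono le_rfl le_top h1

/-- `single` as a linear map. -/
def helper8_singleL {A : Type u} [CommRing A] (I : Ideal A) (Z : Type v) [DecidableEq Z]
    (C : Type w) [AddCommGroup C] [Module A C] (z : Z) : C →ₗ[A] decaying I Z C :=
  LinearMap.codRestrict (decaying I Z C) (LinearMap.single A (fun _ : Z => C) z)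
    (fun c => (single I z c).2)

theorem helper8_singleL_apply {A : Type u} [CommRing A] (I : Ideal A) (Z : Type v) [DecidableEq Z]
    (C : Type w) [AddCommGroup C] [Module A C] (z : Z) (c : C) :
    helper8_singleL I Z C z c = single I z c := rfl

theorem helper8_exists_lift_decaying {A : Type u} [CommRing A] (I : Ideal A) (Z : Type v)
    [DecidableEq Z] (C : Type w) [AddCommGroup C] [Module A C] (M : Type*) [AddCommGroup M]
    [Module A M] [IsAdicComplete I M] (μ : Z → (C →ₗ[A] M)) :
    ∃ φ : decaying I Z C →ₗ[A] M, ∀ z c, φ (single I z c) = μ z c := by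
  have hsupp : ∀ (n : ℕ) (g : decaying I Z C),
      Function.support (fun z => Submodule.mkQ (I ^ n • ⊤ : Submodule A M) (μ z ((g : Z → C) z)))
        ⊆ {z | (g : Z → C) z ∉ (I ^ n • ⊤ : Submodule A C)} := by
    intro n g z hz
    rw [Function.mem_support] at hz
    intro hmem
    apply hz
    rw [Submodule.mkQ_apply, Submodule.Quotient.mk_eq_zero]
    exact helper8_map_mem_pow_smul_top I (μ z) n _ hmem
  have hfin : ∀ (n : ℕ) (g : decaying I Z C), Function.HasFiniteSupport
      (fun z => Submodule.mkQ (I ^ n • ⊤ : Submodule A M) (μ z ((g : Z → C) z))) :=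
    fun n g => (g.2 n).subset (hsupp n g)
  let φn : ∀ n : ℕ, decaying I Z C →ₗ[A] M ⧸ (I ^ n • ⊤ : Submodule A M) := fun n =>
    { toFun := fun g => ∑ᶠ z, Submodule.mkQ (I ^ n • ⊤ : Submodule A M) (μ z ((g : Z → C) z))
      map_add' := by
        intro g g'
        rw [← finsum_add_distrib (hfin n g) (hfin n g')]
        apply finsum_congr
        intro z
        simp only [Submodule.coe_add, Pi.add_apply, map_add]
      map_smul' := by
        intro a g
        rw [RingHom.id_apply, smul_finsum' a (hfin n g)]
        apply finsum_congr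
        intro z
        simp only [Submodule.coe_smul, Pi.smul_apply, map_smul] }
  have hcompat : ∀ {m n : ℕ} (hle : m ≤ n), Submodule.factorPow I M hle ∘ₗ φn n = φn m := by
    intro m n hle
    ext g
    change Submodule.factorPow I M hle (∑ᶠ z, _) = ∑ᶠ z, _
    rw [map_finsum _ (hfin n g)]
    apply finsum_congr
    intro z
    rfl
  refine ⟨IsAdicComplete.lift I φn (@hcompat), ?_⟩
  intro z c
  rw [IsHausdorff.eq_iff_smodEq (I := I)]
  intro n
  rw [SModEq.def, IsAdicComplete.mk_lift I (@hcompat) n]
  change ∑ᶠ z', _ = _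
  have h1 : ((single I z c : decaying I Z C) : Z → C) z = c := by
    rw [coe_single, Pi.single_eq_same]
  have h2 : ∀ z', z' ≠ z → ((single I z c : decaying I Z C) : Z → C) z' = 0 := fun z' h => by
    rw [coe_single, Pi.single_eq_of_ne h]
  rw [finsum_eq_single _ z]
  · rw [h1]; rfl
  · intro z' hz'
    rw [h2 z' hz', map_zero, map_zero]

theorem helper8_eq_zero_of_single {A : Type u} [CommRing A] (I : Ideal A) (hI : I.FG) (Z : Type v)
    [DecidableEq Z] (C : Type w) [AddCommGroup C] [Module A C] [IsHausdorff I C] (M : Type*)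
    [AddCommGroup M] [Module A M] [IsHausdorff I M]
    (δ : decaying I Z C →ₗ[A] M) (hδ : ∀ z c, δ (single I z c) = 0) : δ = 0 := by
  ext g
  rw [LinearMap.zero_apply, IsHausdorff.eq_iff_smodEq (I := I)]
  intro n
  rw [SModEq.sub_mem, sub_zero]
  have hg'ex : ∃ g' : decaying I Z C,
      g' = g - ∑ z ∈ (g.2 n).toFinset, single I z ((g : Z → C) z) := ⟨_, rfl⟩
  obtain ⟨g', hg'⟩ := hg'ex
  have hval : ∀ z', (g' : Z → C) z' ∈ (I ^ n • ⊤ : Submodule A C) := by
    intro z'
    have : (g' : Z → C) z' = (g : Z → C) z' -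
        (if z' ∈ (g.2 n).toFinset then (g : Z → C) z' else 0) := by
      rw [hg', Submodule.coe_sub, Pi.sub_apply, Submodule.coe_sum, Finset.sum_apply]
      congr 1
      simp only [coe_single]
      exact Finset.sum_pi_single z' (fun z => (g : Z → C) z) _
    rw [this]
    split_ifs with h
    · rw [sub_self]; exact Submodule.zero_mem _
    · rw [sub_zero]
      rw [Set.Finite.mem_toFinset] at h
      simpa using h
  have hg'mem : g' ∈ (I ^ n • ⊤ : Submodule A (decaying I Z C)) :=
    (helper8_mem_pow_smul_top_decaying_iff I hI Z C n g').mpr hval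
  have hg : g = g' + ∑ z ∈ (g.2 n).toFinset, single I z ((g : Z → C) z) := by rw [hg']; abel
  have hδg : δ g = δ g' := by
    conv_lhs => rw [hg]
    rw [map_add, map_sum, Finset.sum_eq_zero (fun z _ => hδ z _), add_zero]
  rw [hδg]
  exact helper8_map_mem_pow_smul_top I δ n g' hg'mem

theorem helper8_adicCompletion_linearMap_eq_zero {A : Type u} [CommRing A] (I : Ideal A)
    (hI : I.FG) (M : Type*) [AddCommGroup M] [Module A M] [IsHausdorff I M]
    (h : AdicCompletion I A →ₗ[A] M) (h1 : h 1 = 0) : h = 0 := by
  have hof : ∀ a : A, h (AdicCompletion.of I A a) = 0 := by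
    intro a
    have : AdicCompletion.of I A a = a • (1 : AdicCompletion I A) := by
      rw [← Algebra.algebraMap_eq_smul_one]; rfl
    rw [this, map_smul, h1, smul_zero]
  apply LinearMap.ext
  intro a
  rw [LinearMap.zero_apply, IsHausdorff.eq_iff_smodEq (I := I)]
  intro n
  rw [SModEq.sub_mem, sub_zero]
  obtain ⟨a₀, ha₀⟩ := Submodule.mkQ_surjective _ (a.val n)
  have hker : a - AdicCompletion.of I A a₀ ∈ (I ^ n • ⊤ : Submodule A (AdicCompletion I A)) := by
    rw [AdicCompletion.pow_smul_top_eq_ker_eval hI, LinearMap.mem_ker, map_sub, sub_eq_zero,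
      AdicCompletion.eval_apply, AdicCompletion.eval_of, ha₀]
  have : h a = h (a - AdicCompletion.of I A a₀) := by rw [map_sub, hof, sub_zero]
  rw [this]
  exact helper8_map_mem_pow_smul_top I h n _ hker

/-- Action of the completion on a complete module: `a ↦ a • m`. -/
noncomputable def helper8_mu {A : Type u} [CommRing A] (I : Ideal A) (M : Type*) [AddCommGroup M]
    [Module A M] [IsAdicComplete I M] (m : M) : AdicCompletion I A →ₗ[A] M :=
  (AdicCompletion.ofLinearEquiv I M).symm.toLinearMap ∘ₗ
    ((AdicCompletion.map I (LinearMap.toSpanSingleton A M m)).restrictScalars A)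

theorem helper8_mu_one {A : Type u} [CommRing A] (I : Ideal A) (M : Type*) [AddCommGroup M]
    [Module A M] [IsAdicComplete I M] (m : M) : helper8_mu I M m 1 = m := by
  have h1 : (1 : AdicCompletion I A) = AdicCompletion.of I A 1 := by
    rw [← map_one (algebraMap A (AdicCompletion I A))]; rfl
  change (AdicCompletion.ofLinearEquiv I M).symm
    (AdicCompletion.map I (LinearMap.toSpanSingleton A M m) 1) = m
  rw [h1, AdicCompletion.map_of, LinearMap.toSpanSingleton_apply, one_smul,
    AdicCompletion.ofLinearEquiv_symm_of]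

/-- Universe-polymorphic version of the lifting of decaying functions along a surjection. -/
theorem helper8_exists_decaying_lift {A : Type u} [CommRing A] [IsNoetherianRing A] (I : Ideal A)
    [IsAdicComplete I A] (Z : Type v) {M : Type*} {M'' : Type*} [AddCommGroup M] [Module A M]
    [Module.Finite A M] [AddCommGroup M''] [Module A M''] (φ : M →ₗ[A] M'')
    (hφ : Function.Surjective φ) (g : Z → M'') (hg : g ∈ decaying I Z M'') :
    ∃ f : Z → M, f ∈ decaying I Z M ∧ ∀ z, φ (f z) = g z := by
  classical
  haveI : Module.Finite A M'' := Module.Finite.of_surjective φ hφ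
  have hmap : ∀ n : ℕ, Submodule.map φ (I ^ n • ⊤ : Submodule A M)
      = (I ^ n • ⊤ : Submodule A M'') := by
    intro n
    rw [Submodule.map_smul'', Submodule.map_top, LinearMap.range_eq_top.mpr hφ]
  have hanti : ∀ {a b : ℕ}, a ≤ b → (I ^ b • ⊤ : Submodule A M'') ≤ I ^ a • ⊤ :=
    fun h => Submodule.smul_mono (Ideal.pow_le_pow_right h) le_rfl
  have hanti' : ∀ {a b : ℕ}, a ≤ b → (I ^ b • ⊤ : Submodule A M) ≤ I ^ a • ⊤ :=
    fun h => Submodule.smul_mono (Ideal.pow_le_pow_right h) le_rfl
  have hkrull : (⨅ i : ℕ, (I ^ i • ⊤ : Submodule A M'')) = ⊥ :=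
    Ideal.iInf_pow_smul_eq_bot_of_le_jacobson I (IsAdicComplete.le_jacobson_bot I)
  have hex : ∀ z, ∃ m : M, φ m = g z ∧
      ∀ n, g z ∈ (I ^ n • ⊤ : Submodule A M'') → m ∈ (I ^ n • ⊤ : Submodule A M) := by
    intro z
    by_cases h : ∀ n, g z ∈ (I ^ n • ⊤ : Submodule A M'')
    · have : g z ∈ (⨅ i : ℕ, (I ^ i • ⊤ : Submodule A M'')) := (Submodule.mem_iInf _).mpr h
      rw [hkrull, Submodule.mem_bot] at this
      exact ⟨0, by rw [map_zero, this], fun n _ => Submodule.zero_mem _⟩
    · push Not at h
      have hn0 : Nat.find h ≠ 0 := by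
        intro h0
        have := Nat.find_spec h
        rw [h0, pow_zero, Ideal.one_eq_top, Submodule.top_smul] at this
        exact this Submodule.mem_top
      have hmem : g z ∈ (I ^ (Nat.find h - 1) • ⊤ : Submodule A M'') := by
        by_contra hc
        have := Nat.find_min' h hc
        omega
      rw [← hmap] at hmem
      obtain ⟨m, hm, hmz⟩ := hmem
      refine ⟨m, hmz, fun n hn => ?_⟩
      have hlt : n < Nat.find h := by
        by_contra hge
        push Not at hge
        exact Nat.find_spec h (hanti hge hn)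
      exact hanti' (by omega : n ≤ Nat.find h - 1) hm
  choose f hf1 hf2 using hex
  refine ⟨f, ?_, hf1⟩
  intro n
  refine (hg n).subset ?_
  intro z hz hmem
  exact hz (hf2 z n hmem)


theorem helper8_tensor_eq_sum {A : Type u} [CommRing A] {M : Type*} {N : Type*} [AddCommGroup M]
    [Module A M] [AddCommGroup N] [Module A N] {s : ℕ} (m : Fin s → M)
    (hm : Submodule.span A (Set.range m) = ⊤) (t : TensorProduct A M N) :
    ∃ n : Fin s → N, t = ∑ j, TensorProduct.tmul A (m j) (n j) := by
  induction t using TensorProduct.induction_on with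
  | zero => exact ⟨fun _ => 0, by simp⟩
  | tmul x y =>
    have hx : x ∈ Submodule.span A (Set.range m) := by rw [hm]; exact Submodule.mem_top
    obtain ⟨c, rfl⟩ := (Submodule.mem_span_range_iff_exists_fun A).mp hx
    refine ⟨fun j => c j • y, ?_⟩
    rw [TensorProduct.sum_tmul]
    apply Finset.sum_congr rfl
    intro j _
    rw [TensorProduct.smul_tmul]
  | add t t' ht ht' =>
    obtain ⟨n, rfl⟩ := ht
    obtain ⟨n', rfl⟩ := ht'
    refine ⟨fun j => n j + n' j, ?_⟩
    rw [← Finset.sum_add_distrib]
    apply Finset.sum_congr rfl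
    intro j _
    rw [TensorProduct.tmul_add]

theorem helper8_coord_mem {A : Type u} [CommRing A] (I : Ideal A) (k n : ℕ) (v : Fin k → A)
    (hv : v ∈ (I ^ n • ⊤ : Submodule A (Fin k → A))) (j : Fin k) : v j ∈ I ^ n := by
  revert j
  refine Submodule.smul_induction_on hv ?_ ?_
  · intro r hr y _ j
    exact Ideal.mul_mem_right _ _ hr
  · intro v w hv hw j
    exact Ideal.add_mem _ (hv j) (hw j)

theorem helper8_coord_decaying {A : Type u} [CommRing A] (I : Ideal A) (Z : Type v) (k : ℕ)
    (Y : Z → Fin k → A) (hY : Y ∈ decaying I Z (Fin k → A)) (j : Fin k) :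
    (fun z => Y z j) ∈ decaying I Z A := by
  intro m
  refine (hY m).subset ?_
  intro z hz hmem
  apply hz
  have := helper8_coord_mem I k m (Y z) hmem j
  rw [smul_eq_mul, Ideal.mul_top]; exact this

theorem helper8_vec_decaying {A : Type u} [CommRing A] (I : Ideal A) (Z : Type v) (k : ℕ)
    (G : Fin k → decaying I Z A) :
    (fun z => fun j => ((G j : decaying I Z A) : Z → A) z) ∈ decaying I Z (Fin k → A) := by
  classical
  intro n
  refine (Set.finite_iUnion (fun i : Fin k => (G i).2 n)).subset ?_
  intro z hz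
  by_contra hcon
  apply hz
  have hall : ∀ i, ((G i : decaying I Z A) : Z → A) z ∈ I ^ n := by
    intro i
    by_contra hi
    apply hcon
    rw [Set.mem_iUnion]
    refine ⟨i, ?_⟩
    intro hmem
    rw [smul_eq_mul, Ideal.mul_top] at hmem
    exact hi hmem
  change (fun i => ((G i : decaying I Z A) : Z → A) z) ∈ (I ^ n • ⊤ : Submodule A (Fin k → A))
  rw [pi_eq_sum_univ (fun i => ((G i : decaying I Z A) : Z → A) z)]
  exact Submodule.sum_mem _ (fun i _ => Submodule.smul_mem_smul (hall i) Submodule.mem_top)

end Groth.Agent.Lib.helper8
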