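import Mathlib
import Groth.Prelude.Def_W4c5adicflatcomplDec
import Groth.Agent.Lib.helper8.Decaying

/-!
Helper lemmas (helper8): adically free modules, bases modulo a maximal ideal, towers.
-/

set_option autoImplicit false
universe u v w

namespace Groth.Agent.Lib.helper8
open W4c5adicflatcompl

/-- Lifts of a basis of `M / I M` over the field `A / I`: they span modulo `I M` and are linearly
independent modulo `I M`. -/
theorem helper8_exists_basis_mod {A : Type u} [CommRing A] (I : Ideal A) [I.IsMaximal]
    (M : Type u) [AddCommGroup M] [Module A M] :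
    ∃ (Z : Type u) (m : Z → M),
      (∀ y : M, ∃ (S : Finset Z) (c : Z → A),
        y - ∑ z ∈ S, c z • m z ∈ (I • ⊤ : Submodule A M)) ∧
      (∀ (S : Finset Z) (c : Z → A),
        ∑ z ∈ S, c z • m z ∈ (I • ⊤ : Submodule A M) → ∀ z ∈ S, c z ∈ I) := by
  classical
  letI : Field (A ⧸ I) := Ideal.Quotient.field I
  let b := Module.Basis.ofVectorSpace (A ⧸ I) (M ⧸ (I • ⊤ : Submodule A M))
  let Z : Type u := ↥(Module.Basis.ofVectorSpaceIndex (A ⧸ I) (M ⧸ (I • ⊤ : Submodule A M)))
  choose m hm using fun z : Z => Submodule.Quotient.mk_surjective (I • ⊤ : Submodule A M) (b z)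
  refine ⟨Z, m, ?_, ?_⟩
  · intro y
    let r := b.repr (Submodule.Quotient.mk y)
    choose lift hlift using fun q : A ⧸ I => Ideal.Quotient.mk_surjective q
    refine ⟨r.support, fun z => lift (r z), ?_⟩
    have hy : (Submodule.Quotient.mk y : M ⧸ (I • ⊤ : Submodule A M)) =
        ∑ z ∈ r.support, r z • b z := by
      have := b.linearCombination_repr (Submodule.Quotient.mk y)
      rw [Finsupp.linearCombination_apply, Finsupp.sum] at this
      exact this.symm
    rw [← Submodule.Quotient.mk_eq_zero, ← Submodule.mkQ_apply, map_sub, map_sum,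
      Submodule.mkQ_apply, hy, sub_eq_zero]
    apply Finset.sum_congr rfl
    intro z _
    rw [map_smul, Submodule.mkQ_apply, hm z]
    conv_lhs => rw [← hlift (r z)]
    rfl
  · intro S c hsum z hz
    have hli := b.linearIndependent
    rw [linearIndependent_iff'] at hli
    have h0 : ∑ z ∈ S, (Ideal.Quotient.mk I (c z)) • b z = 0 := by
      have h1 : (Submodule.mkQ (I • ⊤ : Submodule A M)) (∑ z ∈ S, c z • m z) = 0 := by
        rw [Submodule.mkQ_apply, Submodule.Quotient.mk_eq_zero]; exact hsum
      rw [map_sum] at h1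
      refine Eq.trans ?_ h1
      apply Finset.sum_congr rfl
      intro z _
      rw [← hm z]
      rfl
    have := hli S (fun z => Ideal.Quotient.mk I (c z)) h0 z hz
    exact Ideal.Quotient.eq_zero_iff_mem.mp this

theorem helper8_of_eq_smul_one {A : Type u} [CommRing A] (I : Ideal A) (a : A) :
    AdicCompletion.of I A a = a • (1 : AdicCompletion I A) := by
  rw [← Algebra.algebraMap_eq_smul_one]
  rfl

theorem helper8_sum_single_coord {A : Type u} [CommRing A] (I : Ideal A) (Z : Type v)
    [DecidableEq Z] (S : Finset Z) (c : Z → A) (w : Z) :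
    ((∑ z ∈ S, c z • single I z (1 : AdicCompletion I A) :
      decaying I Z (AdicCompletion I A)) : Z → AdicCompletion I A) w =
      if w ∈ S then c w • (1 : AdicCompletion I A) else 0 := by
  rw [Submodule.coe_sum, Finset.sum_apply]
  simp only [Submodule.coe_smul, Pi.smul_apply, coe_single, Pi.single_apply, smul_ite, smul_zero]
  exact Finset.sum_ite_eq S w (fun z => c z • (1 : AdicCompletion I A))

theorem helper8_map_sum_single {A : Type u} [CommRing A] (I : Ideal A) (Z : Type v)
    [DecidableEq Z] {M : Type w} [AddCommGroup M] [Module A M] (m : Z → M)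
    (φ : decaying I Z (AdicCompletion I A) →ₗ[A] M)
    (hφ : ∀ z, φ (single I z (1 : AdicCompletion I A)) = m z) (S : Finset Z) (c : Z → A) :
    φ (∑ z ∈ S, c z • single I z (1 : AdicCompletion I A)) = ∑ z ∈ S, c z • m z := by
  rw [map_sum]
  apply Finset.sum_congr rfl
  intro z _
  rw [map_smul, hφ]

/-- If the `m z` are independent modulo `I M` and `φ` sends the `z`-th unit vector to `m z`, then
`φ d ∈ I M` forces `d ∈ I D`. -/
theorem helper8_mem_smul_of_map_mem {A : Type u} [CommRing A] [IsNoetherianRing A] (I : Ideal A)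
    [IsAdicComplete I A] (Z : Type v) [DecidableEq Z] {M : Type w} [AddCommGroup M] [Module A M]
    (m : Z → M)
    (hP2 : ∀ (S : Finset Z) (c : Z → A),
      ∑ z ∈ S, c z • m z ∈ (I • ⊤ : Submodule A M) → ∀ z ∈ S, c z ∈ I)
    (φ : decaying I Z (AdicCompletion I A) →ₗ[A] M)
    (hφ : ∀ z, φ (single I z (1 : AdicCompletion I A)) = m z)
    (d : decaying I Z (AdicCompletion I A)) (hd : φ d ∈ (I • ⊤ : Submodule A M)) :
    d ∈ (I • ⊤ : Submodule A (decaying I Z (AdicCompletion I A))) := by
  have hIfg : I.FG := IsNoetherian.noetherian I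
  have hcrit := fun n (f : decaying I Z (AdicCompletion I A)) =>
    helper8_mem_pow_smul_top_decaying_iff I hIfg Z (AdicCompletion I A) n f
  have hfin := d.2 1
  set S := hfin.toFinset with hSdef
  choose c hc using fun z => AdicCompletion.of_surjective I A ((d : Z → AdicCompletion I A) z)
  have hd' : d - ∑ z ∈ S, c z • single I z (1 : AdicCompletion I A) ∈
      (I ^ 1 • ⊤ : Submodule A (decaying I Z (AdicCompletion I A))) := by
    rw [hcrit]
    intro w
    rw [Submodule.coe_sub, Pi.sub_apply, helper8_sum_single_coord]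
    by_cases hw : w ∈ S
    · rw [if_pos hw, ← helper8_of_eq_smul_one, hc, sub_self]
      exact Submodule.zero_mem _
    · rw [if_neg hw, sub_zero]
      by_contra hnot
      exact hw (hfin.mem_toFinset.mpr hnot)
  have h1 : φ d = ∑ z ∈ S, c z • m z +
      φ (d - ∑ z ∈ S, c z • single I z (1 : AdicCompletion I A)) := by
    rw [← helper8_map_sum_single I Z m φ hφ, ← map_add]
    congr 1
    abel
  have h2 : ∑ z ∈ S, c z • m z ∈ (I • ⊤ : Submodule A M) := by
    have h3 := helper8_map_mem_pow_smul_top I φ 1 _ hd'
    rw [pow_one] at h3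
    have : ∑ z ∈ S, c z • m z =
        φ d - φ (d - ∑ z ∈ S, c z • single I z (1 : AdicCompletion I A)) := by
      rw [h1]; abel
    rw [this]
    exact Submodule.sub_mem _ hd h3
  have h4 := hP2 S c h2
  have h5 : d ∈ (I ^ 1 • ⊤ : Submodule A (decaying I Z (AdicCompletion I A))) := by
    rw [hcrit]
    intro w
    by_cases hw : w ∈ S
    · rw [← hc w, helper8_of_eq_smul_one, pow_one]
      exact Submodule.smul_mem_smul (h4 w hw) Submodule.mem_top
    · by_contra hnot
      exact hw (hfin.mem_toFinset.mpr hnot)
  rwa [pow_one] at h5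

/-- A module killed by a power of `I` is `I`-adically complete. -/
theorem helper8_isAdicComplete_of_pow_smul_eq_bot {A : Type u} [CommRing A] (I : Ideal A)
    (M : Type w) [AddCommGroup M] [Module A M] (N : ℕ)
    (h : (I ^ N • ⊤ : Submodule A M) = ⊥) : IsAdicComplete I M := by
  have hH : IsHausdorff I M := by
    refine ⟨fun x hx => ?_⟩
    have := hx N
    rw [SModEq.sub_mem, sub_zero, h, Submodule.mem_bot] at this
    exact this
  have hP : IsPrecomplete I M := by
    refine ⟨fun f hf => ⟨f N, fun n => ?_⟩⟩
    rcases le_total n N with hn | hn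
    · exact hf hn
    · have := hf hn
      rw [SModEq.sub_mem, h, Submodule.mem_bot, sub_eq_zero] at this
      rw [this]
  exact { toIsHausdorff := hH, toIsPrecomplete := hP }

/-- In a tower of surjections every element of a level lifts to a compatible family. -/
theorem helper8_tower_surj : ∀ (n : ℕ) (M : ℕ → Type u) (ψ : ∀ n, M (n + 1) → M n)
    (_ : ∀ n, Function.Surjective (ψ n)) (y : M n),
    ∃ x : ∀ j, M j, (∀ j, ψ j (x (j + 1)) = x j) ∧ x n = y := by
  intro n
  induction n with
  | zero =>
    intro M ψ hψ y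
    refine ⟨fun j => Nat.rec (motive := M) y (fun k xk => Classical.choose (hψ k xk)) j, ?_, rfl⟩
    intro j
    exact Classical.choose_spec (hψ j _)
  | succ n ih =>
    intro M ψ hψ y
    obtain ⟨x', hx', hx'n⟩ := ih (fun k => M (k + 1)) (fun k => ψ (k + 1)) (fun k => hψ (k + 1)) y
    refine ⟨fun j => match j with
      | 0 => ψ 0 (x' 0)
      | k + 1 => x' k, ?_, hx'n⟩
    intro j
    cases j with
    | zero => rfl
    | succ k => exact hx' k

end Groth.Agent.Lib.helper8
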