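import Mathlib

/-!
# Small lemmas on adic (pre)completeness in successor form (helper8)
-/

set_option autoImplicit false

namespace H8Adic

theorem prec_succ {R : Type*} [CommRing R] (I : Ideal R) [IsPrecomplete I R] (f : ℕ → R)
    (hf : ∀ k, f (k + 1) - f k ∈ I ^ k) : ∃ L, ∀ k, L - f k ∈ I ^ k := by
  have hmn : ∀ m n : ℕ, m ≤ n → f n - f m ∈ I ^ m := by
    intro m n hmn
    induction n, hmn using Nat.le_induction with
    | base => rw [sub_self]; exact Ideal.zero_mem _
    | succ n hmn ih =>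
      have e : f (n + 1) - f m = (f (n + 1) - f n) + (f n - f m) := by ring
      rw [e]
      exact Ideal.add_mem _ (Ideal.pow_le_pow_right hmn (hf n)) ih
  obtain ⟨L, hL⟩ := IsPrecomplete.prec (I := I) inferInstance (f := f) (by
    intro m n hmn'
    rw [SModEq.sub_mem, smul_eq_mul, Ideal.mul_top]
    have := hmn m n hmn'
    rw [← neg_sub]; exact (Ideal.neg_mem_iff _).mpr this)
  refine ⟨L, fun k => ?_⟩
  have := hL k
  rw [SModEq.sub_mem, smul_eq_mul, Ideal.mul_top] at this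
  rw [← neg_sub]; exact (Ideal.neg_mem_iff _).mpr this

theorem haus_of_forall_mem {R : Type*} [CommRing R] (I : Ideal R) [IsHausdorff I R] (x : R)
    (hx : ∀ k, x ∈ I ^ k) : x = 0 :=
  IsHausdorff.haus (I := I) inferInstance x (fun k => by
    rw [SModEq.zero, smul_eq_mul, Ideal.mul_top]; exact hx k)

theorem prec_succ_shift {R : Type*} [CommRing R] (I : Ideal R) [IsPrecomplete I R] (c : ℕ)
    (f : ℕ → R) (hf : ∀ k, f (k + 1) - f k ∈ I ^ (k - c)) : ∃ L, ∀ k, L - f k ∈ I ^ (k - c) := by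
  obtain ⟨L, hL⟩ := prec_succ I (fun k => f (k + c)) (fun k => by
    have := hf (k + c)
    rw [Nat.add_sub_cancel] at this
    have e : k + 1 + c = k + c + 1 := by omega
    show f (k + 1 + c) - f (k + c) ∈ I ^ k
    rw [e]; exact this)
  refine ⟨L, fun k => ?_⟩
  by_cases hk : c ≤ k
  · have h3 : L - f (k - c + c) ∈ I ^ (k - c) := hL (k - c)
    rwa [Nat.sub_add_cancel hk] at h3
  · have : k - c = 0 := by omega
    rw [this, pow_zero, Ideal.one_eq_top]; exact Submodule.mem_top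

theorem tower_vec {R : Type*} [CommRing R] (I : Ideal R) [IsPrecomplete I R] {ι : Type*}
    (c : ι → ℕ) (S : ℕ → Set (ι → R))
    (hS : ∀ n, ∀ s ∈ S n, ∃ s' ∈ S (n + 1), ∀ i, s' i - s i ∈ I ^ (n - c i))
    (s₀ : ι → R) (h0 : s₀ ∈ S 0) :
    ∃ L : ι → R, ∀ n, ∃ s ∈ S n, ∀ i, L i - s i ∈ I ^ (n - c i) := by
  classical
  let g : (n : ℕ) → {s : ι → R // s ∈ S n} := fun n =>
    Nat.rec (motive := fun n => {s : ι → R // s ∈ S n}) ⟨s₀, h0⟩
      (fun n s => ⟨Classical.choose (hS n s.1 s.2), (Classical.choose_spec (hS n s.1 s.2)).1⟩) n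
  have hg : ∀ n i, (g (n + 1)).1 i - (g n).1 i ∈ I ^ (n - c i) := fun n =>
    (Classical.choose_spec (hS n (g n).1 (g n).2)).2
  choose L hL using fun i => prec_succ_shift I (c i) (fun n => (g n).1 i) (fun n => hg n i)
  exact ⟨L, fun n => ⟨(g n).1, (g n).2, fun i => hL i n⟩⟩

end H8Adic
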