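import Mathlib
import Groth.Prelude.Def_AssocGrMod
import Groth.Agent.Lib.helper8.AdicLib

/-!
# Generation of a filtered module from generators of its associated graded module (helper8)
-/

set_option autoImplicit false

namespace H8Adic

open AssocGr

universe u

variable {A : Type u} [CommRing A] {I : Ideal A} {M : Type u} [AddCommGroup M] [Module A M]
  (F : I.Filtration M)

theorem sum_antidiag_ite (c : ℕ → A) (x : M) (d n : ℕ) :
    ∑ p ∈ Finset.HasAntidiagonal.antidiagonal n, c p.1 • (if d = p.2 then x else 0)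
      = (if d ≤ n then c (n - d) else 0) • x := by
  split_ifs with h
  · rw [Finset.sum_eq_single (n - d, d)]
    · rw [if_pos rfl]
    · rintro ⟨i, j⟩ hij hne
      rw [Finset.HasAntidiagonal.mem_antidiagonal] at hij
      have hdj : d ≠ j := by
        intro hdj
        apply hne
        have hij' : i + j = n := hij
        exact Prod.ext (show i = n - d by omega) hdj.symm
      rw [if_neg hdj, smul_zero]
    · intro hnot
      exact absurd (Finset.HasAntidiagonal.mem_antidiagonal.mpr (Nat.sub_add_cancel h)) hnot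
  · rw [zero_smul]
    refine Finset.sum_eq_zero fun p hp => ?_
    rw [Finset.HasAntidiagonal.mem_antidiagonal] at hp
    rw [if_neg (by omega), smul_zero]

theorem step_of_mem_span {ι : Type*} [Fintype ι] (d : ι → ℕ) (x : (i : ι) → ↥(F.N (d i)))
    (n : ℕ) (y : M) (hy : y ∈ F.N n)
    (hmem : (inDegM F n ⟨y, hy⟩ : GrMod F) ∈
      Submodule.span (GrRing (FiltBl.IdealFiltration.adic I))
        (Set.range fun i => (inDegM F (d i) (x i) : GrMod F))) :
    ∃ a : ι → A, (∀ i, a i ∈ I ^ (n - d i)) ∧ y - ∑ i, a i • (x i : M) ∈ F.N (n + 1) := by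
  classical
  obtain ⟨g, hg⟩ := (Submodule.mem_span_range_iff_exists_fun _).mp hmem
  choose f hf using fun i => mkG_surjective (FiltBl.IdealFiltration.adic I) (g i)
  have h1 : mkGM F (monomM F n ⟨y, hy⟩ - ∑ i, f i • monomM F (d i) (x i)) = 0 := by
    rw [map_sub, map_sum, sub_eq_zero, ← coe_inDegM, ← hg]
    refine Finset.sum_congr rfl fun i _ => ?_
    rw [← hf i, coe_inDegM, mkG_smul_mkGM]
  rw [mkGM_eq_zero_iff] at h1
  have h2 := h1 n
  rw [← ReesM.coeffHom_apply, map_sub, map_sum] at h2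
  simp only [ReesM.coeffHom_apply, ReesM.coeff_smul, ReesM.coeff_monomM, if_true] at h2
  refine ⟨fun i => if d i ≤ n then ((f i : Polynomial A)).coeff (n - d i) else 0,
    fun i => ?_, ?_⟩
  · show (if d i ≤ n then ((f i : Polynomial A)).coeff (n - d i) else 0) ∈ I ^ (n - d i)
    split_ifs with h
    · exact (f i).2 (n - d i)
    · exact Ideal.zero_mem _
  · have e : ∀ i, ∑ p ∈ Finset.HasAntidiagonal.antidiagonal n,
        ((f i : Polynomial A)).coeff p.1 • (if d i = p.2 then (x i : M) else 0)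
          = (if d i ≤ n then ((f i : Polynomial A)).coeff (n - d i) else 0) • (x i : M) :=
      fun i => sum_antidiag_ite _ _ _ _
    simp only [e] at h2
    exact h2

theorem le_span_of_symbols {ι : Type*} [Fintype ι] [IsPrecomplete I A]
    (hsep : ⨅ n, F.N n = ⊥)
    (d : ι → ℕ) (x : (i : ι) → ↥(F.N (d i))) (M' : Submodule A M) (hx : ∀ i, (x i : M) ∈ M')
    (hsym : ∀ (n : ℕ) (y : M) (hy : y ∈ F.N n), y ∈ M' →
      (inDegM F n ⟨y, hy⟩ : GrMod F) ∈
        Submodule.span (GrRing (FiltBl.IdealFiltration.adic I))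
          (Set.range fun i => (inDegM F (d i) (x i) : GrMod F)))
    (n₀ : ℕ) (y : M) (hy : y ∈ F.N n₀) (hyM : y ∈ M') :
    ∃ L : ι → A, (∀ i, L i ∈ I ^ (n₀ - d i)) ∧ y = ∑ i, L i • (x i : M) := by
  classical
  obtain ⟨S, hSdef⟩ : ∃ S : ℕ → Set (ι → A), ∀ m s, s ∈ S m ↔
      ((∀ i, s i ∈ I ^ (n₀ - d i)) ∧ y - ∑ i, s i • (x i : M) ∈ F.N (n₀ + m)) :=
    ⟨fun m => {s | (∀ i, s i ∈ I ^ (n₀ - d i)) ∧ y - ∑ i, s i • (x i : M) ∈ F.N (n₀ + m)},
      fun _ _ => Iff.rfl⟩
  have hS : ∀ m, ∀ s ∈ S m, ∃ s' ∈ S (m + 1), ∀ i, s' i - s i ∈ I ^ (m - d i) := by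
    intro m s hs
    obtain ⟨hs1, hs2⟩ := (hSdef m s).mp hs
    have hM' : y - ∑ i, s i • (x i : M) ∈ M' :=
      M'.sub_mem hyM (M'.sum_mem fun i _ => M'.smul_mem _ (hx i))
    obtain ⟨a, ha, hay⟩ := step_of_mem_span F d x (n₀ + m) _ hs2 (hsym _ _ hs2 hM')
    refine ⟨fun i => s i + a i, (hSdef _ _).mpr ⟨fun i => Ideal.add_mem _ (hs1 i)
      (Ideal.pow_le_pow_right (by omega) (ha i)), ?_⟩, fun i => ?_⟩
    · have e : y - ∑ i, (s i + a i) • (x i : M)
          = (y - ∑ i, s i • (x i : M)) - ∑ i, a i • (x i : M) := by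
        simp only [add_smul, Finset.sum_add_distrib]; abel
      rw [e]; exact hay
    · show s i + a i - s i ∈ _
      rw [add_sub_cancel_left]
      exact Ideal.pow_le_pow_right (by omega) (ha i)
  have h0 : (fun _ => (0 : A)) ∈ S 0 :=
    (hSdef _ _).mpr ⟨fun i => Ideal.zero_mem _, by simpa using hy⟩
  obtain ⟨L, hL⟩ := tower_vec I d S hS _ h0
  refine ⟨L, fun i => ?_, ?_⟩
  · obtain ⟨s, hs, hLs⟩ := hL n₀
    have := Ideal.add_mem _ (hLs i) (((hSdef _ _).mp hs).1 i)
    rwa [sub_add_cancel] at this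
  · have hz : ∀ m, y - ∑ i, L i • (x i : M) ∈ F.N m := by
      intro m
      obtain ⟨s, hs, hLs⟩ := hL (m + ∑ j, d j)
      obtain ⟨-, hs2⟩ := (hSdef _ _).mp hs
      have e : y - ∑ i, L i • (x i : M)
          = (y - ∑ i, s i • (x i : M)) - ∑ i, (L i - s i) • (x i : M) := by
        simp only [sub_smul, Finset.sum_sub_distrib]; abel
      rw [e]
      refine Submodule.sub_mem _ (F.antitone (by omega) hs2)
        (Submodule.sum_mem _ fun i _ => ?_)
      have hdi : d i ≤ m + ∑ j, d j :=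
        le_trans (Finset.single_le_sum (fun j _ => Nat.zero_le (d j)) (Finset.mem_univ i))
          (Nat.le_add_left _ _)
      have h3 := F.pow_smul_le (m + ∑ j, d j - d i) (d i)
        (Submodule.smul_mem_smul (hLs i) (x i).2)
      rw [Nat.sub_add_cancel hdi] at h3
      exact F.antitone (Nat.le_add_right _ _) h3
    have : y - ∑ i, L i • (x i : M) ∈ ⨅ n, F.N n := (Submodule.mem_iInf _).mpr hz
    rw [hsep, Submodule.mem_bot] at this
    exact sub_eq_zero.mp this

end H8Adic
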