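import Mathlib
import Groth.Prelude.Def_AlphaP
import Groth.Prelude.Def_Versch

/-! helper8: computations in the Hopf algebra of α_p. -/

universe u
open Polynomial TensorProduct

namespace H8AlphaP

theorem nontriv (p : ℕ) [hp : Fact p.Prime] (R : Type u) [CommRing R] [CharP R p] : Nontrivial R :=
  CharP.nontrivial_of_char_ne_one (R := R) (v := p) hp.out.ne_one

variable (p : ℕ) [hp : Fact p.Prime] (R : Type u) [CommRing R] [CharP R p]

theorem comul_x_pow (j : ℕ) :
    Coalgebra.comul (R := R) (AlphaP.x p R ^ j) =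
      ∑ i ∈ Finset.range (j + 1),
        (j.choose i) • ((AlphaP.x p R ^ i) ⊗ₜ[R] (AlphaP.x p R ^ (j - i))) := by
  have h : Coalgebra.comul (R := R) (AlphaP.x p R ^ j) =
      (Bialgebra.comulAlgHom R (AlphaP.A p R)) (AlphaP.x p R ^ j) := rfl
  have h2 : Bialgebra.comulAlgHom R (AlphaP.A p R) (AlphaP.x p R) =
      AlphaP.x p R ⊗ₜ[R] 1 + 1 ⊗ₜ[R] AlphaP.x p R := AlphaP.comul_x p R
  rw [h, map_pow, h2, add_pow]
  refine Finset.sum_congr rfl fun i _ => ?_
  rw [Algebra.TensorProduct.tmul_pow, Algebra.TensorProduct.tmul_pow, one_pow, one_pow,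
    Algebra.TensorProduct.tmul_mul_tmul, mul_one, one_mul, nsmul_eq_mul, mul_comm]

omit hp [CharP R p] in
theorem repr_x_pow [Nontrivial R] (l : ℕ) (hl : l < p) (m : Fin p) :
    (AlphaP.basis p R).repr (AlphaP.x p R ^ l) m = if l = (m : ℕ) then 1 else 0 := by
  have : AlphaP.x p R ^ l = AlphaP.basis p R ⟨l, hl⟩ := by rw [AlphaP.basis_apply]
  rw [this, Module.Basis.repr_self, Finsupp.single_apply]
  simp [Fin.ext_iff]

theorem counit_x_pow (j : ℕ) :
    Coalgebra.counit (R := R) (AlphaP.x p R ^ j) = if j = 0 then 1 else 0 := by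
  have h : Coalgebra.counit (R := R) (AlphaP.x p R ^ j) =
      (Bialgebra.counitAlgHom R (AlphaP.A p R)) (AlphaP.x p R ^ j) := rfl
  have h2 : Bialgebra.counitAlgHom R (AlphaP.A p R) (AlphaP.x p R) = 0 := AlphaP.counit_x p R
  rw [h, map_pow, h2]
  split_ifs with hj
  · rw [hj, pow_zero]
  · rw [zero_pow hj]

section dual

abbrev D := CartDual.D R (AlphaP.A p R)

def Supp (d : ℕ) (ψ : D p R) : Prop := ∀ j, j < d → ψ (AlphaP.x p R ^ j) = 0

theorem conv_x_pow (ψ χ : D p R) (j : ℕ) :
    (ψ * χ) (AlphaP.x p R ^ j) = ∑ i ∈ Finset.range (j + 1),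
      (j.choose i : R) * (ψ (AlphaP.x p R ^ i) * χ (AlphaP.x p R ^ (j - i))) := by
  rw [LinearMap.convMul_apply, comul_x_pow, map_sum, map_sum]
  refine Finset.sum_congr rfl fun i _ => ?_
  rw [map_nsmul, map_nsmul, TensorProduct.map_tmul, LinearMap.mul'_apply, nsmul_eq_mul]

theorem supp_mul {d e : ℕ} {ψ χ : D p R} (hψ : Supp p R d ψ) (hχ : Supp p R e χ) :
    Supp p R (d + e) (ψ * χ) := by
  intro j hj
  rw [conv_x_pow]
  apply Finset.sum_eq_zero
  intro i hi
  by_cases h : i < d
  · rw [hψ i h, zero_mul, mul_zero]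
  · have hi' := Finset.mem_range.mp hi
    have : j - i < e := by omega
    rw [hχ _ this, mul_zero, mul_zero]

theorem supp_pow {ψ : D p R} (hψ : Supp p R 1 ψ) (n : ℕ) : Supp p R n (ψ ^ n) := by
  induction n with
  | zero => intro j hj; omega
  | succ n ih => rw [pow_succ]; exact supp_mul p R ih hψ

theorem eq_zero_of_supp {ψ : D p R} (hψ : Supp p R p ψ) : ψ = 0 := by
  haveI := nontriv p R
  apply WithConv.ext
  apply (AlphaP.basis p R).ext
  intro i
  rw [AlphaP.basis_apply]
  have := hψ i i.2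
  simpa [CartDual.coe_apply] using this

theorem pow_p_eq (φ : D p R) : φ ^ p = algebraMap R (D p R) ((φ 1) ^ p) := by
  obtain ⟨c, hc⟩ : ∃ c, c = φ 1 := ⟨_, rfl⟩
  have h0 : Supp p R 1 (φ - algebraMap R (D p R) c) := by
    intro j hj
    have hj0 : j = 0 := by omega
    subst hj0
    rw [pow_zero, hc]
    simp [CartDual.coe_apply, LinearMap.convAlgebraMap_apply]
  calc φ ^ p = (algebraMap R (D p R) c + (φ - algebraMap R (D p R) c)) ^ p := by
        rw [add_sub_cancel]
    _ = (algebraMap R (D p R) c) ^ p + (φ - algebraMap R (D p R) c) ^ p := add_pow_char _ _ _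
    _ = algebraMap R (D p R) ((φ 1) ^ p) := by
        rw [eq_zero_of_supp p R (supp_pow p R h0 p), add_zero, ← map_pow, hc]

theorem pow_p_apply (φ : D p R) (a : AlphaP.A p R) :
    (φ ^ p) a = (φ 1) ^ p * Coalgebra.counit (R := R) a := by
  rw [pow_p_eq, LinearMap.convAlgebraMap_apply]
  simp [CartDual.coe_apply]

end dual

section coords

/-- coefficient extraction on the tensor square -/
noncomputable def E [Nontrivial R] (m n : Fin p) : AlphaP.A p R ⊗[R] AlphaP.A p R →ₗ[R] R :=
  LinearMap.mul' R R ∘ₗ TensorProduct.map ((AlphaP.basis p R).coord m) ((AlphaP.basis p R).coord n)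

omit hp [CharP R p] in
theorem E_tmul [Nontrivial R] (m n : Fin p) (a b : AlphaP.A p R) :
    E p R m n (a ⊗ₜ[R] b) = (AlphaP.basis p R).repr a m * (AlphaP.basis p R).repr b n := by
  simp [E]

theorem E_comul_x_pow [Nontrivial R] (m n : Fin p) (j : ℕ) (hj : j < p) :
    E p R m n (Coalgebra.comul (R := R) (AlphaP.x p R ^ j)) =
      if (m : ℕ) + (n : ℕ) = j then ((j.choose m : ℕ) : R) else 0 := by
  rw [comul_x_pow, map_sum]
  split_ifs with hmn
  · rw [Finset.sum_eq_single (m : ℕ)]
    · rw [map_nsmul, E_tmul, repr_x_pow p R _ (by omega), repr_x_pow p R _ (by omega),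
        if_pos rfl, if_pos (by omega), mul_one, nsmul_eq_mul, mul_one]
    · intro l _ hl
      rw [map_nsmul, E_tmul, repr_x_pow p R l (by simp at *; omega), if_neg hl, zero_mul, smul_zero]
    · intro hm
      exfalso; apply hm; simp; omega
  · apply Finset.sum_eq_zero
    intro l hl
    have hl' : l < j + 1 := Finset.mem_range.mp hl
    rw [map_nsmul, E_tmul, repr_x_pow p R l (by omega), repr_x_pow p R (j - l) (by omega)]
    by_cases h1 : l = (m : ℕ)
    · rw [if_pos h1, if_neg (by omega), mul_zero, smul_zero]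
    · rw [if_neg h1, zero_mul, smul_zero]

end coords

end H8AlphaP
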