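import Mathlib
import Groth.Agent.Lib.helper8.AlphaPLib

/-! helper8: the Cartier dual of α_p is α_p. -/

universe u
open Polynomial TensorProduct

namespace H8AlphaP

variable (p : ℕ) [hp : Fact p.Prime] (R : Type u) [CommRing R] [CharP R p]

theorem one_lt_p : 1 < p := hp.out.one_lt

/-- the linear form dual to `x` -/
noncomputable def delta [Nontrivial R] : D p R :=
  WithConv.toConv ((AlphaP.basis p R).coord ⟨1, hp.out.one_lt⟩)

theorem delta_x_pow [Nontrivial R] (j : ℕ) (hj : j < p) :
    (delta p R) (AlphaP.x p R ^ j) = if j = 1 then 1 else 0 := by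
  have := repr_x_pow p R j hj ⟨1, hp.out.one_lt⟩
  simpa [delta, CartDual.coe_apply] using this

theorem supp_delta [Nontrivial R] : Supp p R 1 (delta p R) := by
  intro j hj
  have hj0 : j = 0 := by omega
  subst hj0
  rw [delta_x_pow p R 0 (by have := one_lt_p p; omega), if_neg (by omega)]

theorem delta_pow_p [Nontrivial R] : (delta p R) ^ p = 0 :=
  eq_zero_of_supp p R (supp_pow p R (supp_delta p R) p)

theorem delta_pow_apply [Nontrivial R] (m : ℕ) : ∀ j : ℕ, j < p →
    ((delta p R) ^ m) (AlphaP.x p R ^ j) = if j = m then ((m.factorial : ℕ) : R) else 0 := by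
  induction m with
  | zero =>
    intro j hj
    rw [pow_zero, LinearMap.convOne_apply, counit_x_pow]
    split_ifs <;> simp
  | succ m ih =>
    intro j hj
    rw [pow_succ, conv_x_pow]
    rcases Nat.eq_zero_or_pos j with hj0 | hjpos
    · subst hj0
      rw [if_neg (by omega)]
      apply Finset.sum_eq_zero
      intro i hi
      have hi0 : i = 0 := by have := Finset.mem_range.mp hi; omega
      subst hi0
      rw [delta_x_pow p R _ (by omega), if_neg (by omega), mul_zero, mul_zero]
    · rw [Finset.sum_eq_single (j - 1)]
      · have e1 : j - (j - 1) = 1 := by omega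
        rw [ih (j - 1) (by omega), e1, delta_x_pow p R 1 (one_lt_p p), if_pos rfl, mul_one]
        by_cases hjm : j = m + 1
        · subst hjm
          rw [if_pos (by omega), if_pos rfl]
          have : (m + 1).choose (m + 1 - 1) = m + 1 := by
            rw [Nat.add_sub_cancel, Nat.choose_succ_self_right]
          rw [this, Nat.factorial_succ]
          push_cast
          ring
        · rw [if_neg (by omega), if_neg hjm, mul_zero]
      · intro i hi hne
        have hi' := Finset.mem_range.mp hi
        rw [delta_x_pow p R _ (by omega), if_neg (by omega), mul_zero, mul_zero]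
      · intro h
        exfalso; apply h; rw [Finset.mem_range]; omega

theorem isUnit_factorial (j : ℕ) (hj : j < p) : IsUnit ((j.factorial : ℕ) : R) := by
  rw [CharP.isUnit_natCast_iff (R := R) (p := p) hp.out, hp.out.dvd_factorial]
  omega

theorem delta_mul [Nontrivial R] (a b : AlphaP.A p R) :
    (delta p R) (a * b) = Coalgebra.counit (R := R) a * (delta p R) b +
      Coalgebra.counit (R := R) b * (delta p R) a := by
  have key : (LinearMap.mul R (AlphaP.A p R)).compr₂ (delta p R).ofConv =
      (LinearMap.mul R R).compl₁₂ (Coalgebra.counit (R := R) (A := AlphaP.A p R)) (delta p R).ofConv +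
      ((LinearMap.mul R R).compl₁₂ (Coalgebra.counit (R := R) (A := AlphaP.A p R))
        (delta p R).ofConv).flip := by
    apply (AlphaP.basis p R).ext
    intro i
    apply (AlphaP.basis p R).ext
    intro j
    simp only [LinearMap.compr₂_apply, LinearMap.mul_apply', LinearMap.add_apply,
      LinearMap.compl₁₂_apply, LinearMap.flip_apply, AlphaP.basis_apply]
    have hi := i.2
    have hj := j.2
    have h1 := delta_x_pow p R i hi
    have h2 := delta_x_pow p R j hj
    rw [h1, h2, counit_x_pow, counit_x_pow, ← pow_add]
    by_cases hij : (i : ℕ) + (j : ℕ) < p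
    · have h3 := delta_x_pow p R _ hij
      rw [h3]
      by_cases hi0 : (i : ℕ) = 0
      · by_cases hj1 : (j : ℕ) = 1
        · simp [hi0, hj1]
        · by_cases hj0 : (j : ℕ) = 0
          · simp [hi0, hj0]
          · simp [hi0, hj0, hj1]
      · by_cases hi1 : (i : ℕ) = 1
        · by_cases hj0 : (j : ℕ) = 0
          · simp [hi1, hj0]
          · have : ¬ ((i : ℕ) + (j : ℕ) = 1) := by omega
            simp [hi1, hj0, this]
        · have : ¬ ((i : ℕ) + (j : ℕ) = 1) := by omega
          by_cases hj0 : (j : ℕ) = 0
          · simp [hi0, hi1, hj0, this]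
          · simp [hi0, hi1, hj0, this]
    · rw [AlphaP.x_pow_of_le p R (by omega), map_zero]
      have hp1 := one_lt_p p
      by_cases hi0 : (i : ℕ) = 0
      · have : ¬ ((j : ℕ) = 1) := by omega
        have hj0 : ¬ ((j : ℕ) = 0) := by omega
        simp [hi0, this, hj0]
      · by_cases hj0 : (j : ℕ) = 0
        · have : ¬ ((i : ℕ) = 1) := by omega
          simp [hi0, hj0, this]
        · simp [hi0, hj0]
  have := LinearMap.congr_fun (LinearMap.congr_fun key a) b
  simpa [CartDual.coe_apply] using this

theorem comul_delta [Nontrivial R] :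
    Coalgebra.comul (R := R) (delta p R) =
      delta p R ⊗ₜ[R] (1 : D p R) + (1 : D p R) ⊗ₜ[R] delta p R := by
  have h1 : ∀ a : AlphaP.A p R, (1 : D p R) a = Coalgebra.counit (R := R) a := by
    intro a; simp [LinearMap.convOne_apply]
  apply (CartDual.ev₂ R (AlphaP.A p R)).injective
  apply TensorProduct.ext'
  intro a b
  rw [CartDual.comul_def, CartDual.ev₂_comul_tmul, map_add, LinearMap.add_apply, CartDual.ev₂_tmul,
    CartDual.ev₂_tmul, delta_mul, h1, h1]
  ring

end H8AlphaP
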