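import Mathlib
import Groth.Prelude.Def_ComodSub

/-! helper8: the antipode of a commutative Hopf algebra reverses the comultiplication; passage
between left and right comodules. -/

universe u v w

open TensorProduct

namespace H8Anti

section
variable {k : Type u} [CommRing k] {A : Type v} [CommRing A] [HopfAlgebra k A]

theorem convMul_ofConv_apply_of_sum {B : Type*} [CommRing B] [Algebra k B]
    (f g : WithConv (A →ₐ[k] B)) (a : A) {ι : Type*} (s : Finset ι) (l r : ι → A)
    (h : CoalgebraStruct.comul (R := k) a = ∑ i ∈ s, l i ⊗ₜ[k] r i) :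
    (f * g).ofConv a = ∑ i ∈ s, f.ofConv (l i) * g.ofConv (r i) := by
  rw [AlgHom.convMul_def]
  simp only [WithConv.ofConv_toConv, AlgHom.comp_apply, Bialgebra.comulAlgHom_apply, h, map_sum,
    Algebra.TensorProduct.map_tmul, Algebra.TensorProduct.lmul'_apply_tmul]

theorem comul_antipode_of_sum (a : A) {ι : Type*} (s : Finset ι) (l r : ι → A)
    (h : CoalgebraStruct.comul (R := k) a = ∑ i ∈ s, l i ⊗ₜ[k] r i) :
    CoalgebraStruct.comul (R := k) (HopfAlgebraStruct.antipode (R := k) a) =
      ∑ i ∈ s, HopfAlgebraStruct.antipode (R := k) (r i) ⊗ₜ[k]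
        HopfAlgebraStruct.antipode (R := k) (l i) := by
  have h1 : WithConv.toConv (Bialgebra.comulAlgHom k A) =
      WithConv.toConv (Algebra.TensorProduct.includeLeft : A →ₐ[k] A ⊗[k] A) *
        WithConv.toConv (Algebra.TensorProduct.includeRight : A →ₐ[k] A ⊗[k] A) := by
    apply WithConv.ext
    apply AlgHom.ext
    intro x
    obtain ⟨t, ht⟩ := TensorProduct.exists_finset (CoalgebraStruct.comul (R := k) x)
    rw [convMul_ofConv_apply_of_sum _ _ x t _ _ ht]
    simp only [WithConv.ofConv_toConv, Bialgebra.comulAlgHom_apply,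
      Algebra.TensorProduct.includeLeft_apply, Algebra.TensorProduct.includeRight_apply,
      Algebra.TensorProduct.tmul_mul_tmul, mul_one, one_mul]
    exact ht
  have h2 : (WithConv.toConv (Bialgebra.comulAlgHom k A))⁻¹ =
      (WithConv.toConv (Algebra.TensorProduct.includeRight : A →ₐ[k] A ⊗[k] A))⁻¹ *
        (WithConv.toConv (Algebra.TensorProduct.includeLeft : A →ₐ[k] A ⊗[k] A))⁻¹ := by
    rw [h1]
    exact mul_inv_rev (G := WithConv (A →ₐ[k] A ⊗[k] A)) _ _
  have h3 := congrArg (fun f => f.ofConv a) h2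
  beta_reduce at h3
  rw [convMul_ofConv_apply_of_sum _ _ a s _ _ h] at h3
  have e1 : ∀ (f : A →ₐ[k] A ⊗[k] A) (x : A),
      ((WithConv.toConv f)⁻¹).ofConv x = f (HopfAlgebraStruct.antipode (R := k) x) :=
    fun f x => rfl
  simp only [e1, Bialgebra.comulAlgHom_apply, Algebra.TensorProduct.includeLeft_apply,
    Algebra.TensorProduct.includeRight_apply, Algebra.TensorProduct.tmul_mul_tmul, mul_one,
    one_mul] at h3
  exact h3

/-- Map form: `Δ ∘ S = (S ⊗ S) ∘ comm ∘ Δ`. -/
theorem comul_comp_antipode :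
    (CoalgebraStruct.comul (R := k) (A := A)) ∘ₗ (HopfAlgebraStruct.antipode (R := k) (A := A)) =
      TensorProduct.map (HopfAlgebraStruct.antipode (R := k) (A := A))
        (HopfAlgebraStruct.antipode (R := k) (A := A)) ∘ₗ
        (TensorProduct.comm k A A).toLinearMap ∘ₗ (CoalgebraStruct.comul (R := k) (A := A)) := by
  apply LinearMap.ext
  intro a
  obtain ⟨t, ht⟩ := TensorProduct.exists_finset (CoalgebraStruct.comul (R := k) a)
  rw [LinearMap.comp_apply, comul_antipode_of_sum a t _ _ ht, LinearMap.comp_apply,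
    LinearMap.comp_apply, ht]
  simp only [map_sum, LinearEquiv.coe_coe, TensorProduct.comm_tmul, TensorProduct.map_tmul]

end

section
variable {k : Type u} [CommRing k] {A : Type v} [CommRing A] [HopfAlgebra k A]
  {M : Type w} [AddCommGroup M] [Module k M]

local notation "𝐒" => HopfAlgebraStruct.antipode (R := k) (A := A)
local notation "𝚫" => CoalgebraStruct.comul (R := k) (A := A)
local notation "𝛆" => CoalgebraStruct.counit (R := k) (A := A)

/-- `a ⊗ (b ⊗ n) ↦ n ⊗ (S b ⊗ S a)` -/
def Psi : A ⊗[k] (A ⊗[k] M) →ₗ[k] M ⊗[k] (A ⊗[k] A) :=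
  (TensorProduct.assoc k M A A).toLinearMap ∘ₗ
    ((TensorProduct.comm k A M).toLinearMap ∘ₗ (𝐒).rTensor M).rTensor A ∘ₗ
    (TensorProduct.comm k A (A ⊗[k] M)).toLinearMap ∘ₗ (𝐒).rTensor (A ⊗[k] M)

theorem Psi_tmul (a b : A) (n : M) :
    Psi (k := k) (a ⊗ₜ[k] (b ⊗ₜ[k] n)) = n ⊗ₜ[k] ((𝐒) b ⊗ₜ[k] (𝐒) a) := by
  simp [Psi]

theorem rcoact_coassoc (l : ComodSub.LComod k A M) :
    (TensorProduct.assoc k M A A).toLinearMap ∘ₗ (ComodSub.rcoactOfLeft l).rTensor A ∘ₗ
        ComodSub.rcoactOfLeft l =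
      (𝚫).lTensor M ∘ₗ ComodSub.rcoactOfLeft l := by
  apply LinearMap.ext
  intro m
  have hA : ∀ z : A ⊗[k] M, (TensorProduct.assoc k M A A)
      ((ComodSub.rcoactOfLeft l).rTensor A (TensorProduct.comm k A M ((𝐒).rTensor M z))) =
      Psi (l.coact.lTensor A z) := by
    intro z
    induction z using TensorProduct.induction_on with
    | zero => simp
    | tmul a m' =>
      simp only [LinearMap.rTensor_tmul, TensorProduct.comm_tmul, LinearMap.lTensor_tmul]
      rw [ComodSub.rcoactOfLeft_apply]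
      simp [Psi]
    | add x y hx hy => simp only [map_add, hx, hy]
  have hB : ∀ z : A ⊗[k] M, (𝚫).lTensor M (TensorProduct.comm k A M ((𝐒).rTensor M z)) =
      Psi (TensorProduct.assoc k A A M ((𝚫).rTensor M z)) := by
    intro z
    induction z using TensorProduct.induction_on with
    | zero => simp
    | tmul a m' =>
      simp only [LinearMap.rTensor_tmul, TensorProduct.comm_tmul, LinearMap.lTensor_tmul]
      obtain ⟨t, ht⟩ := TensorProduct.exists_finset ((𝚫) a)
      rw [comul_antipode_of_sum a t _ _ ht, ht]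
      simp only [TensorProduct.sum_tmul, TensorProduct.tmul_sum, map_sum,
        TensorProduct.assoc_tmul, Psi_tmul]
    | add x y hx hy => simp only [map_add, hx, hy]
  have e3 := LinearMap.congr_fun l.coassoc m
  simp only [LinearMap.comp_apply, LinearEquiv.coe_coe] at e3 ⊢
  rw [ComodSub.rcoactOfLeft_apply l m, hA, hB, e3]

theorem rcoact_counit (l : ComodSub.LComod k A M) :
    (𝛆).lTensor M ∘ₗ ComodSub.rcoactOfLeft l = (TensorProduct.mk k M k).flip 1 := by
  apply LinearMap.ext
  intro m
  have hC : ∀ z : A ⊗[k] M, (𝛆).lTensor M (TensorProduct.comm k A M ((𝐒).rTensor M z)) =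
      TensorProduct.comm k k M ((𝛆).rTensor M z) := by
    intro z
    induction z using TensorProduct.induction_on with
    | zero => simp
    | tmul a m' => simp [HopfAlgebra.counit_antipode]
    | add x y hx hy => simp only [map_add, hx, hy]
  have e := LinearMap.congr_fun l.counit_comp m
  simp only [LinearMap.comp_apply] at e ⊢
  rw [ComodSub.rcoactOfLeft_apply l m, hC, e]
  simp

/-- `n ⊗ (b ⊗ a) ↦ S a ⊗ (S b ⊗ n)` -/
def Psi' : M ⊗[k] (A ⊗[k] A) →ₗ[k] A ⊗[k] (A ⊗[k] M) :=
  ((TensorProduct.comm k M A).toLinearMap ∘ₗ (𝐒).lTensor M).lTensor A ∘ₗ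
    (TensorProduct.comm k (M ⊗[k] A) A).toLinearMap ∘ₗ (𝐒).lTensor (M ⊗[k] A) ∘ₗ
    (TensorProduct.assoc k M A A).symm.toLinearMap

theorem Psi'_tmul (n : M) (b a : A) :
    Psi' (k := k) (n ⊗ₜ[k] (b ⊗ₜ[k] a)) = (𝐒) a ⊗ₜ[k] ((𝐒) b ⊗ₜ[k] n) := by
  simp [Psi']

theorem lcoact_coassoc (c : HopfRep.Comod k A M) :
    (ComodSub.lcoactOfRight c).lTensor A ∘ₗ ComodSub.lcoactOfRight c =
      (TensorProduct.assoc k A A M).toLinearMap ∘ₗ (𝚫).rTensor M ∘ₗ ComodSub.lcoactOfRight c := by
  apply LinearMap.ext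
  intro m
  have hA : ∀ z : M ⊗[k] A, (ComodSub.lcoactOfRight c).lTensor A
      (TensorProduct.comm k M A ((𝐒).lTensor M z)) =
      Psi' (TensorProduct.assoc k M A A (c.coact.rTensor A z)) := by
    intro z
    induction z using TensorProduct.induction_on with
    | zero => simp
    | tmul m' a =>
      simp only [LinearMap.rTensor_tmul, TensorProduct.comm_tmul, LinearMap.lTensor_tmul]
      rw [ComodSub.lcoactOfRight_apply]
      simp [Psi']
    | add x y hx hy => simp only [map_add, hx, hy]
  have hB : ∀ z : M ⊗[k] A, (TensorProduct.assoc k A A M)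
      ((𝚫).rTensor M (TensorProduct.comm k M A ((𝐒).lTensor M z))) =
      Psi' ((𝚫).lTensor M z) := by
    intro z
    induction z using TensorProduct.induction_on with
    | zero => simp
    | tmul m' a =>
      simp only [LinearMap.rTensor_tmul, TensorProduct.comm_tmul, LinearMap.lTensor_tmul]
      obtain ⟨t, ht⟩ := TensorProduct.exists_finset ((𝚫) a)
      rw [comul_antipode_of_sum a t _ _ ht, ht]
      simp only [TensorProduct.sum_tmul, TensorProduct.tmul_sum, map_sum,
        TensorProduct.assoc_tmul, Psi'_tmul]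
    | add x y hx hy => simp only [map_add, hx, hy]
  have e3 := LinearMap.congr_fun c.coassoc m
  simp only [LinearMap.comp_apply, LinearEquiv.coe_coe] at e3 ⊢
  rw [ComodSub.lcoactOfRight_apply c m, hA, hB, e3]

theorem lcoact_counit (c : HopfRep.Comod k A M) :
    (𝛆).rTensor M ∘ₗ ComodSub.lcoactOfRight c = TensorProduct.mk k k M 1 := by
  apply LinearMap.ext
  intro m
  have hC : ∀ z : M ⊗[k] A, (𝛆).rTensor M (TensorProduct.comm k M A ((𝐒).lTensor M z)) =
      TensorProduct.comm k M k ((𝛆).lTensor M z) := by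
    intro z
    induction z using TensorProduct.induction_on with
    | zero => simp
    | tmul m' a => simp [HopfAlgebra.counit_antipode]
    | add x y hx hy => simp only [map_add, hx, hy]
  have e := LinearMap.congr_fun c.counit_comp m
  simp only [LinearMap.comp_apply] at e ⊢
  rw [ComodSub.lcoactOfRight_apply c m, hC, e]
  simp

end

end H8Anti
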