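import Mathlib
import Groth.Prelude.Def_CartDual2

/-! helper8: reflexivity for the Cartier dual. -/

universe u v
open TensorProduct

namespace H8CD

theorem eval_bij (R : Type u) [CommRing R] (A : Type v)
    [CommRing A] [Bialgebra R A] [Module.Finite R A] [Module.Projective R A] :
    Function.Bijective (CartDual.eval R A) := by
  have : (CartDual.eval R A : A → _) = (CartDual.toDual R (CartDual.D R A)).symm ∘
      (CartDual.toDual R A).dualMap ∘ Module.Dual.eval R A := rfl
  rw [this]
  exact (LinearEquiv.bijective _).comp ((LinearEquiv.bijective _).comp (Module.bijective_dual_eval R A))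

/-- In the group algebra of a group of exponent `p` over a ring of characteristic `p`, the `p`-th power
map is `a ↦ ε(a)^p`. -/
theorem pow_p_monoidAlgebra (p : ℕ) [Fact p.Prime] (R : Type u) [CommRing R] [CharP R p]
    (G : Type v) [CommGroup G] (hG : ∀ g : G, g ^ p = 1) (a : MonoidAlgebra R G) :
    a ^ p = algebraMap R (MonoidAlgebra R G) ((Coalgebra.counit (R := R) a) ^ p) := by
  haveI : CharP (MonoidAlgebra R G) p :=
    charP_of_injective_algebraMap (Bialgebra.algebraMap_injective (R := R) (MonoidAlgebra R G)) p
  induction a using MonoidAlgebra.induction_linear with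
  | zero => simp [zero_pow (Fact.out : p.Prime).ne_zero]
  | add x y hx hy => rw [add_pow_char, hx, hy, map_add, add_pow_char, map_add]
  | single g c =>
    rw [MonoidAlgebra.single_pow, hG, MonoidAlgebra.counit_single, MonoidAlgebra.coe_algebraMap]
    simp

end H8CD
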