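import Mathlib

/-!
# Cartier–Manin matrices under translation (helper8)
-/

set_option autoImplicit false
open Polynomial

namespace H8CM

theorem divmod_aux (p a b : ℕ) (hp : 0 < p) (hb : b + 1 ≤ p) :
    ((a + 1) * p - (b + 1)) / p = a ∧ ((a + 1) * p - (b + 1)) % p = p - (b + 1) := by
  have h1 : (a + 1) * p - (b + 1) = (p - (b + 1)) + p * a := by
    have : (a + 1) * p = p * a + p := by ring
    omega
  rw [h1]
  constructor
  · rw [Nat.add_mul_div_left _ _ hp, Nat.div_eq_of_lt (by omega), zero_add]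
  · rw [Nat.add_mul_mod_self_left, Nat.mod_eq_of_lt (by omega)]

def phi (p g : ℕ) (x : Fin g × Fin g) : ℕ := ((x.1 : ℕ) + 1) * p - ((x.2 : ℕ) + 1)

theorem phi_div (p g : ℕ) (hp : 0 < p) (hg : g ≤ p) (x : Fin g × Fin g) :
    phi p g x / p = x.1 :=
  (divmod_aux p x.1 x.2 hp (by have := x.2.isLt; omega)).1

theorem phi_mod (p g : ℕ) (hp : 0 < p) (hg : g ≤ p) (x : Fin g × Fin g) :
    phi p g x % p = p - ((x.2 : ℕ) + 1) :=
  (divmod_aux p x.1 x.2 hp (by have := x.2.isLt; omega)).2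

theorem phi_injective (p g : ℕ) (hp : 0 < p) (hg : g ≤ p) : Function.Injective (phi p g) := by
  intro x y hxy
  have h1 : (x.1 : ℕ) = y.1 := by
    rw [← phi_div p g hp hg x, ← phi_div p g hp hg y, hxy]
  have h2 : p - ((x.2 : ℕ) + 1) = p - ((y.2 : ℕ) + 1) := by
    rw [← phi_mod p g hp hg x, ← phi_mod p g hp hg y, hxy]
  have hx2 := x.2.isLt
  have hy2 := y.2.isLt
  exact Prod.ext (Fin.ext h1) (Fin.ext (by omega))

theorem phi_lt (p g : ℕ) (hp : 0 < p) (x : Fin g × Fin g) : phi p g x < (g + 1) * p := by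
  unfold phi
  have h1 := x.1.isLt
  have h2 : ((x.1 : ℕ) + 1) * p ≤ g * p := Nat.mul_le_mul_right p (by omega)
  have h3 : (g + 1) * p = g * p + p := by ring
  omega

variable {k : Type*} [Field k] (p : ℕ) [Fact p.Prime] [CharP k p]

theorem lucas (n m : ℕ) : ((n.choose m : ℕ) : k) =
    (((n % p).choose (m % p) * (n / p).choose (m / p) : ℕ) : k) :=
  CharP.natCast_eq_natCast' k p Choose.choose_modEq_choose_mod_mul_choose_div_nat

omit [Fact p.Prime] [CharP k p] in
theorem coeff_comp_shift (F : k[X]) (α : k) (m B : ℕ) (hB : F.natDegree < B) :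
    (F.comp (X + C α)).coeff m =
      ∑ l ∈ Finset.range B, ((l.choose m : ℕ) : k) * F.coeff l * α ^ (l - m) := by
  rw [← taylor_apply, taylor_coeff, hasseDeriv_apply,
    Polynomial.sum_over_range' _ (by intro n; simp) B hB, eval_finset_sum]
  apply Finset.sum_congr rfl
  intro l _
  rw [eval_monomial]

theorem cm_entry (g : ℕ) (hg : g ≤ p) (F : k[X]) (hF : F.natDegree + (g + 1) ≤ (g + 1) * p)
    (α : k) (i j : Fin g) :
    (F.comp (X + C α)).coeff (((i : ℕ) + 1) * p - ((j : ℕ) + 1)) =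
      ∑ I : Fin g, ∑ J : Fin g,
        ((((I : ℕ).choose (i : ℕ) : ℕ) : k) * α ^ (((I : ℕ) - (i : ℕ)) * p)) *
        F.coeff (((I : ℕ) + 1) * p - ((J : ℕ) + 1)) *
        ((((p - ((J : ℕ) + 1)).choose (p - ((j : ℕ) + 1)) : ℕ) : k) * α ^ ((j : ℕ) - (J : ℕ))) := by
  classical
  have hp2 : 2 ≤ p := (Fact.out : p.Prime).two_le
  have hp0 : 0 < p := by omega
  have hi := i.isLt
  have hj := j.isLt
  obtain ⟨m, hm⟩ : ∃ m, m = ((i : ℕ) + 1) * p - ((j : ℕ) + 1) := ⟨_, rfl⟩
  have hmdm := divmod_aux p i j hp0 (by omega)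
  rw [← hm] at hmdm ⊢
  have hB : F.natDegree < (g + 1) * p := by omega
  rw [coeff_comp_shift F α m ((g + 1) * p) hB]
  have hsub : (Finset.univ.image (phi p g)) ⊆ Finset.range ((g + 1) * p) := by
    intro l hl
    obtain ⟨x, _, rfl⟩ := Finset.mem_image.1 hl
    exact Finset.mem_range.2 (phi_lt p g hp0 x)
  have hzero : ∀ l ∈ Finset.range ((g + 1) * p), l ∉ Finset.univ.image (phi p g) →
      ((l.choose m : ℕ) : k) * F.coeff l * α ^ (l - m) = 0 := by
    intro l _ hl
    by_contra hne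
    have hne1 : ((l.choose m : ℕ) : k) ≠ 0 := fun h => hne (by rw [h, zero_mul, zero_mul])
    have hne2 : F.coeff l ≠ 0 := fun h => hne (by rw [h, mul_zero, zero_mul])
    have hdeg : l ≤ F.natDegree := le_natDegree_of_ne_zero hne2
    rw [lucas p l m, hmdm.1, hmdm.2] at hne1
    have hch : (l % p).choose (p - ((j : ℕ) + 1)) ≠ 0 := by
      intro h
      apply hne1
      rw [h, zero_mul, Nat.cast_zero]
    have hr : p - ((j : ℕ) + 1) ≤ l % p := by
      by_contra hlt
      exact hch (Nat.choose_eq_zero_of_lt (by omega))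
    have hrp : l % p < p := Nat.mod_lt _ hp0
    have hdm : p * (l / p) + l % p = l := Nat.div_add_mod l p
    have hq : l / p < g := by
      by_contra hge
      have e2 : p * g ≤ p * (l / p) := Nat.mul_le_mul_left p (by omega)
      have e1 : (g + 1) * p = p * g + p := by ring
      omega
    have hJ : p - 1 - l % p < g := by omega
    apply hl
    refine Finset.mem_image.2 ⟨(⟨l / p, hq⟩, ⟨p - 1 - l % p, hJ⟩), Finset.mem_univ _, ?_⟩
    unfold phi
    have e3 : (l / p + 1) * p = p * (l / p) + p := by ring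
    show (l / p + 1) * p - (p - 1 - l % p + 1) = l
    omega
  rw [← Finset.sum_subset hsub hzero, Finset.sum_image (phi_injective p g hp0 hg).injOn,
    Fintype.sum_prod_type]
  apply Finset.sum_congr rfl
  intro I _
  apply Finset.sum_congr rfl
  intro J _
  have hI := I.isLt
  have hJ := J.isLt
  rw [lucas p (phi p g (I, J)) m, phi_mod p g hp0 hg, phi_div p g hp0 hg, hmdm.1, hmdm.2]
  show (((p - ((J : ℕ) + 1)).choose (p - ((j : ℕ) + 1)) * (I : ℕ).choose (i : ℕ) : ℕ) : k) *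
      F.coeff (((I : ℕ) + 1) * p - ((J : ℕ) + 1)) *
      α ^ (((I : ℕ) + 1) * p - ((J : ℕ) + 1) - m) = _
  by_cases h1 : (i : ℕ) ≤ I
  · by_cases h2 : (J : ℕ) ≤ j
    · have hexp : ((I : ℕ) + 1) * p - ((J : ℕ) + 1) - m =
          ((I : ℕ) - (i : ℕ)) * p + ((j : ℕ) - (J : ℕ)) := by
        obtain ⟨t, ht⟩ := Nat.exists_eq_add_of_le h1
        obtain ⟨s, hs⟩ := Nat.exists_eq_add_of_le h2
        rw [hm, ht, hs]
        have e1 : ((i : ℕ) + t + 1) * p = ((i : ℕ) + 1) * p + t * p := by ring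
        have e2 : p ≤ ((i : ℕ) + 1) * p := Nat.le_mul_of_pos_left p (by omega)
        have e3 : (i : ℕ) + t - i = t := by omega
        have e4 : (J : ℕ) + s - J = s := by omega
        rw [e3, e4, e1]
        omega
      rw [hexp, pow_add, Nat.cast_mul]
      ring
    · have hz : (p - ((J : ℕ) + 1)).choose (p - ((j : ℕ) + 1)) = 0 :=
        Nat.choose_eq_zero_of_lt (by omega)
      rw [hz]
      simp
  · have hz : (I : ℕ).choose (i : ℕ) = 0 := Nat.choose_eq_zero_of_lt (by omega)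
    rw [hz]
    simp

end H8CM
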