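import Mathlib
import Groth.Prelude.Def_ComodDual

/-!
# Existence of the contragredient comodule (helper8)
-/

set_option autoImplicit false
universe u v w

namespace H8Dual
open TensorProduct

section coef
variable {k : Type*} [CommRing k] {V : Type*} [AddCommGroup V] [Module k V]
  {ι : Type*} [Fintype ι] [DecidableEq ι] (b : Module.Basis ι k V)
  (N : Type*) [AddCommGroup N] [Module k N]

noncomputable def coef (i : ι) : V ⊗[k] N →ₗ[k] N :=
  (TensorProduct.lid k N).toLinearMap ∘ₗ (b.coord i).rTensor N

theorem coef_tmul (i : ι) (v : V) (x : N) : coef b N i (v ⊗ₜ[k] x) = b.repr v i • x := by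
  simp [coef]

theorem coef_sum (i : ι) (x : ι → N) : coef b N i (∑ j, b j ⊗ₜ[k] x j) = x i := by
  rw [map_sum]
  simp only [coef_tmul, Module.Basis.repr_self, Finsupp.single_apply]
  rw [Finset.sum_eq_single i]
  · simp
  · intro j _ hji; rw [if_neg hji, zero_smul]
  · intro h; exact absurd (Finset.mem_univ i) h

theorem expand (z : V ⊗[k] N) : z = ∑ i, b i ⊗ₜ[k] coef b N i z := by
  induction z using TensorProduct.induction_on with
  | zero => simp
  | tmul v x =>
    simp only [coef_tmul]
    conv_lhs => rw [← b.sum_repr v]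
    rw [TensorProduct.sum_tmul]
    refine Finset.sum_congr rfl (fun i _ => ?_)
    rw [TensorProduct.smul_tmul]
  | add z w hz hw =>
    conv_lhs => rw [hz, hw]
    rw [← Finset.sum_add_distrib]
    refine Finset.sum_congr rfl (fun i _ => ?_)
    rw [map_add, TensorProduct.tmul_add]

end coef

section main
variable {k : Type u} [CommRing k] {A : Type v} [CommRing A] [HopfAlgebra k A]
  {V : Type w} [AddCommGroup V] [Module k V] {ι : Type*} [Fintype ι] [DecidableEq ι]
  (b : Module.Basis ι k V) (c : HopfRep.Comod k A V)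

noncomputable def mat : Matrix ι ι A := fun i j => coef b A i (c.coact (b j))

theorem coact_basis (j : ι) : c.coact (b j) = ∑ i, b i ⊗ₜ[k] mat b c i j := expand b A _

theorem comul_mat (i j : ι) :
    Coalgebra.comul (R := k) (mat b c i j) = ∑ l, mat b c i l ⊗ₜ[k] mat b c l j := by
  have h := LinearMap.congr_fun c.coassoc (b j)
  simp only [LinearMap.comp_apply, LinearEquiv.coe_coe] at h
  rw [coact_basis b c j] at h
  simp only [map_sum, LinearMap.rTensor_tmul, LinearMap.lTensor_tmul] at h
  have h2 := congrArg (coef b (A ⊗[k] A) i) h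
  rw [coef_sum] at h2
  rw [← h2, map_sum]
  refine Finset.sum_congr rfl (fun l _ => ?_)
  rw [coact_basis b c l, TensorProduct.sum_tmul, map_sum]
  simp only [TensorProduct.assoc_tmul]
  rw [coef_sum]

theorem counit_mat (i j : ι) :
    Coalgebra.counit (R := k) (mat b c i j) = if i = j then 1 else 0 := by
  have h := LinearMap.congr_fun c.counit_comp (b j)
  simp only [LinearMap.comp_apply] at h
  rw [coact_basis b c j] at h
  simp only [map_sum, LinearMap.lTensor_tmul, LinearMap.flip_apply, TensorProduct.mk_apply] at h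
  have h2 := congrArg (coef b k i) h
  rw [coef_sum, coef_tmul, Module.Basis.repr_self, Finsupp.single_apply] at h2
  rw [h2]
  by_cases hij : i = j
  · rw [if_pos hij, if_pos hij.symm, smul_eq_mul, mul_one]
  · rw [if_neg hij, if_neg (Ne.symm hij), zero_smul]

noncomputable def smat : Matrix ι ι A := fun i j => HopfAlgebra.antipode k (mat b c i j)

theorem mat_mul_smat : mat b c * smat b c = 1 := by
  ext i j
  rw [Matrix.mul_apply]
  have h := HopfAlgebra.mul_antipode_lTensor_comul_apply (R := k) (mat b c i j)
  rw [comul_mat, map_sum, map_sum] at h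
  simp only [LinearMap.lTensor_tmul, LinearMap.mul'_apply] at h
  rw [counit_mat] at h
  rw [Matrix.one_apply]
  simp only [smat]
  rw [h]; split_ifs <;> simp

theorem comul_smat (i l : ι) :
    Coalgebra.comul (R := k) (smat b c i l) = ∑ j, smat b c j l ⊗ₜ[k] smat b c i j := by
  let Δ : A →+* A ⊗[k] A := (Bialgebra.comulAlgHom k A).toRingHom
  let iL : A →+* A ⊗[k] A := (Algebra.TensorProduct.includeLeft : A →ₐ[k] A ⊗[k] A).toRingHom
  let iR : A →+* A ⊗[k] A := (Algebra.TensorProduct.includeRight : A →ₐ[k] A ⊗[k] A).toRingHom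
  have hΔ : ∀ x, Δ x = Coalgebra.comul (R := k) x := fun x => rfl
  have hL : ∀ x, iL x = x ⊗ₜ[k] 1 := fun x => rfl
  have hR : ∀ x, iR x = 1 ⊗ₜ[k] x := fun x => rfl
  have h0 := mat_mul_smat b c
  have h1 : (mat b c).map Δ * (smat b c).map Δ = 1 := by
    rw [← Matrix.map_mul, h0, Matrix.map_one _ (map_zero Δ) (map_one Δ)]
  have h2 : (mat b c).map iL * (smat b c).map iL = 1 := by
    rw [← Matrix.map_mul, h0, Matrix.map_one _ (map_zero iL) (map_one iL)]
  have h3 : (mat b c).map iR * (smat b c).map iR = 1 := by
    rw [← Matrix.map_mul, h0, Matrix.map_one _ (map_zero iR) (map_one iR)]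
  have h4 : (mat b c).map Δ = (mat b c).map iL * (mat b c).map iR := by
    ext i j
    rw [Matrix.mul_apply]
    simp only [Matrix.map_apply, hΔ, hL, hR, comul_mat, Algebra.TensorProduct.tmul_mul_tmul,
      mul_one, one_mul]
  have h5 : (mat b c).map Δ * ((smat b c).map iR * (smat b c).map iL) = 1 := by
    rw [h4, Matrix.mul_assoc, ← Matrix.mul_assoc ((mat b c).map iR), h3, Matrix.one_mul, h2]
  have h6 : (smat b c).map Δ = (smat b c).map iR * (smat b c).map iL := by
    have h7 : (smat b c).map Δ * (mat b c).map Δ = 1 := mul_eq_one_comm.1 h1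
    calc (smat b c).map Δ
        = (smat b c).map Δ * ((mat b c).map Δ * ((smat b c).map iR * (smat b c).map iL)) := by
          rw [h5, Matrix.mul_one]
      _ = (smat b c).map iR * (smat b c).map iL := by
          rw [← Matrix.mul_assoc, h7, Matrix.one_mul]
  have h8 := congrFun (congrFun h6 i) l
  rw [Matrix.mul_apply] at h8
  simp only [Matrix.map_apply, hΔ, hL, hR, Algebra.TensorProduct.tmul_mul_tmul,
    mul_one, one_mul] at h8
  exact h8

noncomputable def dcoact : Module.Dual k V →ₗ[k] Module.Dual k V ⊗[k] A :=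
  b.dualBasis.constr k (fun i => ∑ j, b.dualBasis j ⊗ₜ[k] smat b c i j)

theorem dcoact_basis (i : ι) :
    dcoact b c (b.dualBasis i) = ∑ j, b.dualBasis j ⊗ₜ[k] smat b c i j :=
  Module.Basis.constr_basis _ _ _ _

noncomputable def dualComod : HopfRep.Comod k A (Module.Dual k V) where
  coact := dcoact b c
  coassoc := by
    apply b.dualBasis.ext
    intro i
    simp only [LinearMap.comp_apply, LinearEquiv.coe_coe]
    rw [dcoact_basis]
    simp only [map_sum, LinearMap.rTensor_tmul, LinearMap.lTensor_tmul]
    simp only [dcoact_basis, TensorProduct.sum_tmul, map_sum, TensorProduct.assoc_tmul,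
      comul_smat, TensorProduct.tmul_sum]
    exact Finset.sum_comm
  counit_comp := by
    apply b.dualBasis.ext
    intro i
    simp only [LinearMap.comp_apply]
    rw [dcoact_basis]
    simp only [map_sum, LinearMap.lTensor_tmul, LinearMap.flip_apply, TensorProduct.mk_apply]
    simp only [smat, HopfAlgebra.counit_antipode, counit_mat]
    rw [Finset.sum_eq_single i]
    · simp
    · intro j _ hji; rw [if_neg (Ne.symm hji), TensorProduct.tmul_zero]
    · intro h; exact absurd (Finset.mem_univ i) h

theorem isDual : ComodTens.Comod.IsDual c (dualComod b c) := by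
  intro f
  let Φ : Module.Dual k V →ₗ[k] (V →ₗ[k] A) := dualTensorHom k V A ∘ₗ dcoact b c
  let Ψ : Module.Dual k V →ₗ[k] (V →ₗ[k] A) :=
    { toFun := ComodTens.dualCoactFun c
      map_add' := ComodTens.dualCoactFun_add c
      map_smul' := fun r g => ComodTens.dualCoactFun_smul c r g }
  have hΦΨ : Φ = Ψ := by
    apply b.dualBasis.ext
    intro i
    apply b.ext
    intro j
    show dualTensorHom k V A (dcoact b c (b.dualBasis i)) (b j) =
      ComodTens.dualCoactFun c (b.dualBasis i) (b j)
    rw [dcoact_basis, map_sum, LinearMap.sum_apply]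
    simp only [dualTensorHom_apply, Module.Basis.dualBasis_apply_self]
    rw [ComodTens.dualCoactFun_apply_of_sum c (b.dualBasis i) Finset.univ (b j) (fun l => b l)
      (fun l => mat b c l j) (coact_basis b c j)]
    simp only [Module.Basis.dualBasis_apply_self]
    rw [Finset.sum_eq_single j, Finset.sum_eq_single i]
    · simp [smat]
    · intro l _ hl; rw [if_neg hl, zero_smul]
    · intro h; exact absurd (Finset.mem_univ i) h
    · intro l _ hl; rw [if_neg (Ne.symm hl), zero_smul]
    · intro h; exact absurd (Finset.mem_univ j) h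
  exact LinearMap.congr_fun hΦΨ f

end main

end H8Dual
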