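import Mathlib
import Groth.Prelude.Def_Conn
import Groth.Agent.Lib.helper8.DualComodLib

/-!
# Horizontal maps for modules with connection (helper8)
-/

set_option autoImplicit false
universe v u

namespace H8Conn
open TensorProduct

section
variable {A : Type v} {B Ω M M' : Type u} [CommRing A] [CommRing B] [Algebra A B]
  [AddCommGroup Ω] [Module B Ω] [Module A Ω] [IsScalarTower A B Ω]
  [AddCommGroup M] [Module B M] [Module A M] [IsScalarTower A B M]
  [AddCommGroup M'] [Module B M'] [Module A M'] [IsScalarTower A B M']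

omit [Module A Ω] [IsScalarTower A B Ω] [Module A M] [IsScalarTower A B M] [Module A M']
  [IsScalarTower A B M'] [Algebra A B] in
theorem rid_map_comm (θ : Ω →ₗ[B] B) (f : M →ₗ[B] M') (y : M ⊗[B] Ω) :
    TensorProduct.rid B M' (TensorProduct.map LinearMap.id θ (TensorProduct.map f LinearMap.id y)) =
      f (TensorProduct.rid B M (TensorProduct.map LinearMap.id θ y)) := by
  induction y using TensorProduct.induction_on with
  | zero => simp
  | add x y hx hy => simp only [map_add, hx, hy]
  | tmul m ω => simp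

theorem along_hom_apply {nabla : M →ₗ[A] M ⊗[B] Ω} {nabla' : M' →ₗ[A] M' ⊗[B] Ω}
    {nablaE : (M →ₗ[B] M') →ₗ[A] (M →ₗ[B] M') ⊗[B] Ω} (hE : Conn.IsHomConn nabla nabla' nablaE)
    (θ : Ω →ₗ[B] B) (χ : M →ₗ[B] M') (m : M) :
    Conn.along nablaE θ χ m = Conn.along nabla' θ (χ m) - χ (Conn.along nabla θ m) := by
  rw [Conn.along_apply, Conn.along_apply, Conn.along_apply]
  have h1 := rid_map_comm θ (LinearMap.applyₗ m : (M →ₗ[B] M') →ₗ[B] M') (nablaE χ)
  rw [hE χ m, map_sub, map_sub, rid_map_comm θ χ (nabla m)] at h1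
  exact h1.symm

omit [Module A Ω] [IsScalarTower A B Ω] [Module A M] [IsScalarTower A B M] [Module A M']
  [IsScalarTower A B M'] [Algebra A B] in
theorem eq_zero_of_eval [Module.Finite B Ω] [Module.Free B Ω] (y : (M →ₗ[B] M') ⊗[B] Ω)
    (h : ∀ m, TensorProduct.map (LinearMap.applyₗ m) LinearMap.id y = 0) : y = 0 := by
  classical
  obtain ⟨bΩ⟩ : Nonempty (Module.Basis (Module.Free.ChooseBasisIndex B Ω) B Ω) :=
    ⟨Module.Free.chooseBasis B Ω⟩
  have hexp : ∀ (X : Type u) [AddCommGroup X] [Module B X] (z : X ⊗[B] Ω),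
      z = ∑ q, (TensorProduct.rid B X (TensorProduct.map LinearMap.id (bΩ.coord q) z)) ⊗ₜ[B]
        bΩ q := by
    intro X _ _ z
    induction z using TensorProduct.induction_on with
    | zero => simp
    | add x y hx hy =>
      conv_lhs => rw [hx, hy]
      rw [← Finset.sum_add_distrib]
      refine Finset.sum_congr rfl (fun q _ => ?_)
      rw [map_add, map_add, TensorProduct.add_tmul]
    | tmul x ω =>
      simp only [TensorProduct.map_tmul, LinearMap.id_apply, TensorProduct.rid_tmul,
        Module.Basis.coord_apply]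
      conv_lhs => rw [← bΩ.sum_repr ω]
      rw [TensorProduct.tmul_sum]
      refine Finset.sum_congr rfl (fun q _ => ?_)
      rw [TensorProduct.smul_tmul]
  rw [hexp _ y]
  refine Finset.sum_eq_zero (fun q _ => ?_)
  have : TensorProduct.rid B (M →ₗ[B] M') (TensorProduct.map LinearMap.id (bΩ.coord q) y) = 0 := by
    apply LinearMap.ext
    intro m
    have h1 := rid_map_comm (bΩ.coord q) (LinearMap.applyₗ m : (M →ₗ[B] M') →ₗ[B] M') y
    rw [h m, map_zero, map_zero] at h1
    exact h1.symm
  rw [this, TensorProduct.zero_tmul]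

omit [Module A Ω] [IsScalarTower A B Ω] [Module A M] [IsScalarTower A B M] [Module A M']
  [IsScalarTower A B M'] [Algebra A B] in
theorem eq_of_eval [Module.Finite B Ω] [Module.Free B Ω] (y₁ y₂ : (M →ₗ[B] M') ⊗[B] Ω)
    (h : ∀ m, TensorProduct.map (LinearMap.applyₗ m) LinearMap.id y₁ =
      TensorProduct.map (LinearMap.applyₗ m) LinearMap.id y₂) : y₁ = y₂ := by
  rw [← sub_eq_zero]
  apply eq_zero_of_eval
  intro m
  rw [map_sub, h m, sub_self]

end

section trace
variable {A : Type v} {B Ω M : Type u} [CommRing A] [CommRing B] [Algebra A B]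
  [AddCommGroup Ω] [Module B Ω] [Module A Ω] [IsScalarTower A B Ω]
  [AddCommGroup M] [Module B M] [Module A M] [IsScalarTower A B M]
  [Module.Finite B M] [Module.Free B M]

theorem trace_horizontal (δ : Derivation A B Ω) (nabla : M →ₗ[A] M ⊗[B] Ω)
    (hc : Conn.IsConn δ nabla)
    (nablaE : (M →ₗ[B] M) →ₗ[A] (M →ₗ[B] M) ⊗[B] Ω) (hE : Conn.IsHomConn nabla nabla nablaE) :
    Conn.IsHorizontal nablaE (Conn.triv δ) (LinearMap.trace B M) := by
  classical
  intro φ
  have hc' : ∀ (r : B) (m : M), nabla (r • m) = r • nabla m + m ⊗ₜ[B] δ r := hc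
  have hE' : ∀ (χ : M →ₗ[B] M) (m : M),
      TensorProduct.map (LinearMap.applyₗ m) LinearMap.id (nablaE χ) =
        nabla (χ m) - TensorProduct.map χ LinearMap.id (nabla m) := hE
  obtain ⟨b⟩ : Nonempty (Module.Basis (Module.Free.ChooseBasisIndex B M) B M) :=
    ⟨Module.Free.chooseBasis B M⟩
  obtain ⟨P, hP⟩ : ∃ P : Module.Free.ChooseBasisIndex B M → Module.Free.ChooseBasisIndex B M → B,
    P = fun j i => b.repr (φ (b i)) j := ⟨_, rfl⟩
  obtain ⟨G, hG⟩ : ∃ G : Module.Free.ChooseBasisIndex B M → Module.Free.ChooseBasisIndex B M → Ω,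
    G = fun l i => H8Dual.coef b Ω l (nabla (b i)) := ⟨_, rfl⟩
  have htr : LinearMap.trace B M φ = ∑ i, P i i := by
    rw [LinearMap.trace_eq_matrix_trace B b φ, Matrix.trace]
    refine Finset.sum_congr rfl (fun i _ => ?_)
    rw [Matrix.diag_apply, LinearMap.toMatrix_apply, hP]
  have hy : ∀ y : (M →ₗ[B] M) ⊗[B] Ω,
      TensorProduct.lid B Ω (TensorProduct.map (LinearMap.trace B M) LinearMap.id y) =
        ∑ i, H8Dual.coef b Ω i (TensorProduct.map (LinearMap.applyₗ (b i)) LinearMap.id y) := by
    intro y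
    induction y using TensorProduct.induction_on with
    | zero => simp
    | add x y hx hy => simp only [map_add, hx, hy, Finset.sum_add_distrib]
    | tmul χ ω =>
      simp only [TensorProduct.map_tmul, LinearMap.id_apply, TensorProduct.lid_tmul,
        H8Dual.coef_tmul, LinearMap.applyₗ_apply_apply]
      rw [LinearMap.trace_eq_matrix_trace B b χ, Matrix.trace, Finset.sum_smul]
      refine Finset.sum_congr rfl (fun i _ => ?_)
      rw [Matrix.diag_apply, LinearMap.toMatrix_apply]
  apply (TensorProduct.lid B Ω).injective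
  rw [hy, Conn.triv_apply, TensorProduct.lid_tmul, one_smul]
  have h1 : ∀ i, H8Dual.coef b Ω i (nabla (φ (b i))) = ∑ j, P j i • G i j + δ (P i i) := by
    intro i
    have e1 : φ (b i) = ∑ j, P j i • b j := by rw [hP]; exact (b.sum_repr (φ (b i))).symm
    rw [e1, map_sum, map_sum]
    simp only [hc', map_add, H8Dual.coef_tmul, map_smul, Module.Basis.repr_self,
      Finsupp.single_apply]
    rw [Finset.sum_add_distrib]
    congr 1
    · rw [hG]
    · rw [Finset.sum_eq_single i]
      · simp
      · intro j _ hj; rw [if_neg hj, zero_smul]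
      · intro h; exact absurd (Finset.mem_univ i) h
  have h2 : ∀ i, H8Dual.coef b Ω i (TensorProduct.map φ LinearMap.id (nabla (b i))) =
      ∑ l, P i l • G l i := by
    intro i
    conv_lhs => rw [H8Dual.expand b Ω (nabla (b i))]
    rw [map_sum, map_sum]
    refine Finset.sum_congr rfl (fun l _ => ?_)
    rw [TensorProduct.map_tmul, LinearMap.id_apply, H8Dual.coef_tmul, hP, hG]
  simp only [hE', map_sub, h1, h2, Finset.sum_sub_distrib, Finset.sum_add_distrib]
  rw [htr, map_sum, Finset.sum_comm]
  abel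

end trace

end H8Conn
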