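import Mathlib
import Groth.Prelude.Def_W4c3ghconstell
import Groth.Agent.Lib.helper4.Comod

/-!
# Isotypic components, `genIn`, and weights (helper8)
-/

set_option autoImplicit false
universe u v w x
open TensorProduct
open Groth.Agent.Lib.helper4
open W4c3ghconstell

namespace H8Const

section Coalg
variable {k : Type u} [Field k] {A : Type v} [AddCommGroup A] [Module k A] [Coalgebra k A]
variable {M : Type x} [AddCommGroup M] [Module k M] [HopfRep.Comod k A M]

theorem coact_rid_lTensor (φ : A →ₗ[k] k) (y : M ⊗[k] A) :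
    HopfRep.Comod.coact (k := k) (A := A) ((TensorProduct.rid k M) (φ.lTensor M y)) =
      (TensorProduct.rid k (M ⊗[k] A)) (φ.lTensor (M ⊗[k] A)
        ((HopfRep.Comod.coact (k := k) (A := A) (V := M)).rTensor A y)) := by
  induction y using TensorProduct.induction_on with
  | zero => simp
  | tmul m a => simp
  | add y z ihy ihz => simp only [map_add, ihy, ihz]

theorem coact_h4T (φ : A →ₗ[k] k) (m : M) :
    HopfRep.Comod.coact (k := k) (A := A) (h4T φ m) =
      (TensorProduct.rid k (M ⊗[k] A)) (φ.lTensor (M ⊗[k] A)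
        ((TensorProduct.assoc k M A A).symm
          ((CoalgebraStruct.comul (R := k) (A := A)).lTensor M
            (HopfRep.Comod.coact (k := k) (A := A) m)))) := by
  have hco := LinearMap.congr_fun (HopfRep.Comod.coassoc (k := k) (A := A) (V := M)) m
  simp only [LinearMap.comp_apply, LinearEquiv.coe_coe] at hco
  rw [h4T_apply, coact_rid_lTensor, ← hco, LinearEquiv.symm_apply_apply]

theorem psi_aux (D : Submodule k A) (φ : A →ₗ[k] k) (m : M) (w : D ⊗[k] D) :
    (TensorProduct.rid k (M ⊗[k] A)) (φ.lTensor (M ⊗[k] A)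
        ((TensorProduct.assoc k M A A).symm
          (m ⊗ₜ[k] (TensorProduct.map D.subtype D.subtype w)))) ∈
      LinearMap.range (LinearMap.lTensor M D.subtype) := by
  induction w using TensorProduct.induction_on with
  | zero => simp
  | tmul d1 d2 =>
    simp only [TensorProduct.map_tmul, TensorProduct.assoc_symm_tmul, LinearMap.lTensor_tmul,
      TensorProduct.rid_tmul, Submodule.subtype_apply]
    exact Submodule.smul_mem _ _ ⟨m ⊗ₜ d1, by simp⟩
  | add w1 w2 h1 h2 =>
    simp only [map_add, TensorProduct.tmul_add]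
    exact Submodule.add_mem _ h1 h2

theorem psi_mem_range (D : Submodule k A) (hD : IsSubcoalg k A D) (φ : A →ₗ[k] k)
    (z : M ⊗[k] D) :
    (TensorProduct.rid k (M ⊗[k] A)) (φ.lTensor (M ⊗[k] A)
        ((TensorProduct.assoc k M A A).symm
          ((CoalgebraStruct.comul (R := k) (A := A)).lTensor M
            (LinearMap.lTensor M D.subtype z)))) ∈
      LinearMap.range (LinearMap.lTensor M D.subtype) := by
  induction z using TensorProduct.induction_on with
  | zero => simp
  | tmul m d =>
    obtain ⟨w, hw⟩ := hD d.1 d.2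
    simp only [LinearMap.lTensor_tmul, Submodule.subtype_apply]
    rw [← hw]
    exact psi_aux D φ m w
  | add z1 z2 h1 h2 =>
    simp only [map_add]
    exact Submodule.add_mem _ h1 h2

theorem h4T_mem_isoComp (D : Submodule k A) (hD : IsSubcoalg k A D) (φ : A →ₗ[k] k) (m : M)
    (hm : m ∈ isoComp M D) : h4T φ m ∈ isoComp M D := by
  have hm' : HopfRep.Comod.coact (k := k) (A := A) m ∈
      LinearMap.range (LinearMap.lTensor M D.subtype) := hm
  obtain ⟨z, hz⟩ := hm'
  show HopfRep.Comod.coact (k := k) (A := A) (h4T φ m) ∈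
    LinearMap.range (LinearMap.lTensor M D.subtype)
  rw [coact_h4T, ← hz]
  exact psi_mem_range D hD φ z

/-! ### numerics -/

theorem hilbAt_mono (D : SimpSub k A) (hf : Module.Finite k ↥(isoComp M D.1))
    {N₁ N₂ : Submodule k M} (h : N₁ ≤ N₂) : hilbAt M N₁ D ≤ hilbAt M N₂ D := by
  haveI : FiniteDimensional k ↥(isoComp M D.1) := hf
  exact Submodule.finrank_mono (inf_le_inf_right _ h)

theorem hilbAt_top (D : SimpSub k A) :
    hilbAt M ⊤ D = Module.finrank k ↥(isoComp M D.1) := by
  unfold hilbAt; rw [top_inf_eq]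

theorem hilbAt_bot (D : SimpSub k A) : hilbAt M ⊥ D = 0 := by
  unfold hilbAt; rw [bot_inf_eq]; exact finrank_bot k M

theorem hilbAt_le (h : SimpSub k A → ℕ)
    (hfin : ∀ D : SimpSub k A, Module.Finite k ↥(isoComp M D.1) ∧
      Module.finrank k ↥(isoComp M D.1) = h D) (N : Submodule k M) (D : SimpSub k A) :
    hilbAt M N D ≤ h D := by
  rw [← (hfin D).2, ← hilbAt_top]
  exact hilbAt_mono D (hfin D).1 le_top

theorem summable_T (h : SimpSub k A → ℕ) (θ : SimpSub k A → ℚ)
    (hsum : Summable (fun D => (θ D : ℝ) * (h D : ℝ)))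
    (hfin : ∀ D : SimpSub k A, Module.Finite k ↥(isoComp M D.1) ∧
      Module.finrank k ↥(isoComp M D.1) = h D)
    (N : Submodule k M) : Summable (fun D => (θ D : ℝ) * (hilbAt M N D : ℝ)) := by
  refine Summable.of_norm_bounded (g := fun D => |(θ D : ℝ) * (h D : ℝ)|) hsum.abs ?_
  intro D
  have hle : hilbAt M N D ≤ h D := hilbAt_le h hfin N D
  rw [Real.norm_eq_abs, abs_mul, abs_mul]
  apply mul_le_mul_of_nonneg_left _ (abs_nonneg _)
  rw [abs_of_nonneg (Nat.cast_nonneg _), abs_of_nonneg (Nat.cast_nonneg _)]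
  exact_mod_cast hle

theorem theta_bot (θ : SimpSub k A → ℚ) : theta M θ (⊥ : Submodule k M) = 0 := by
  unfold theta
  simp only [hilbAt_bot]
  simp

end Coalg

section Stab
variable {k : Type u} [Field k] {A : Type v} [CommRing A] [HopfAlgebra k A]
  {R : Type w} [CommRing R] [Algebra k R] [HopfRep.Comod k A R]
  {M : Type x} [AddCommGroup M] [Module k M] [Module R M] [IsScalarTower k R M]
  [HopfRep.Comod k A M]

theorem genIn_le_of (S : Set (SimpSub k A)) (N G : Submodule R M)
    (h : ∀ D ∈ S, N.restrictScalars k ⊓ isoComp M D.1 ≤ G.restrictScalars k) :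
    genIn k A R M S N ≤ G := by
  unfold genIn
  refine Submodule.span_le.2 ?_
  intro m hm
  simp only [Set.mem_iUnion] at hm
  obtain ⟨D, hD, hm⟩ := hm
  exact h D hD hm

theorem genIn_le (S : Set (SimpSub k A)) (N : Submodule R M) : genIn k A R M S N ≤ N :=
  genIn_le_of S N N (fun _ _ => inf_le_left)

theorem le_genIn (S : Set (SimpSub k A)) (N : Submodule R M) (D : SimpSub k A) (hD : D ∈ S) :
    N.restrictScalars k ⊓ isoComp M D.1 ≤ (genIn k A R M S N).restrictScalars k := by
  intro m hm
  show m ∈ genIn k A R M S N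
  unfold genIn
  apply Submodule.subset_span
  simp only [Set.mem_iUnion]
  exact ⟨D, hD, hm⟩

theorem genIn_genIn (S : Set (SimpSub k A)) (N : Submodule R M) :
    genIn k A R M S (genIn k A R M S N) = genIn k A R M S N := by
  apply le_antisymm (genIn_le S _)
  apply genIn_le_of
  intro D hD
  exact le_trans (le_inf (le_genIn S N D hD) inf_le_right) (le_genIn S _ D hD)

theorem hilbAt_genIn_of_mem (S : Set (SimpSub k A)) (N : Submodule R M) (D : SimpSub k A)
    (hD : D ∈ S) :
    hilbAt M ((genIn k A R M S N).restrictScalars k) D = hilbAt M (N.restrictScalars k) D := by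
  have : (genIn k A R M S N).restrictScalars k ⊓ isoComp M D.1 =
      N.restrictScalars k ⊓ isoComp M D.1 := by
    apply le_antisymm
    · exact inf_le_inf_right _ (fun m hm => genIn_le S N hm)
    · exact le_inf (le_genIn S N D hD) inf_le_right
  unfold hilbAt; rw [this]

theorem term_genIn_le (θ : SimpSub k A → ℚ) (N : Submodule R M) (D : SimpSub k A)
    (hf : Module.Finite k ↥(isoComp M D.1)) :
    (θ D : ℝ) * (hilbAt M ((genIn k A R M {D | θ D < 0} N).restrictScalars k) D : ℝ) ≤
      (θ D : ℝ) * (hilbAt M (N.restrictScalars k) D : ℝ) := by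
  by_cases hD : θ D < 0
  · rw [hilbAt_genIn_of_mem _ N D hD]
  · have h0 : (0 : ℝ) ≤ (θ D : ℝ) := by exact_mod_cast not_lt.1 hD
    apply mul_le_mul_of_nonneg_left _ h0
    exact_mod_cast hilbAt_mono D hf (fun m hm => genIn_le _ N hm)

theorem theta_genIn_le (h : SimpSub k A → ℕ) (θ : SimpSub k A → ℚ)
    (hsum : Summable (fun D => (θ D : ℝ) * (h D : ℝ)))
    (hfin : ∀ D : SimpSub k A, Module.Finite k ↥(isoComp M D.1) ∧
      Module.finrank k ↥(isoComp M D.1) = h D)
    (N : Submodule R M) :
    theta M θ ((genIn k A R M {D | θ D < 0} N).restrictScalars k) ≤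
      theta M θ (N.restrictScalars k) := by
  unfold theta
  exact Summable.tsum_le_tsum (fun D => term_genIn_le θ N D (hfin D).1)
    (summable_T h θ hsum hfin _) (summable_T h θ hsum hfin _)

variable [TameAct.IsHopfMod k A R M]

theorem h4T_smul_mem (G : Submodule R M) (m : M)
    (hm : ∀ ψ : A →ₗ[k] k, h4T ψ m ∈ G) (r : R) (φ : A →ₗ[k] k) :
    h4T φ (r • m) ∈ G := by
  rw [h4T_apply, TameAct.IsHopfMod.coact_smul (k := k) (A := A)]
  have key : ∀ t : R ⊗[k] A, (TensorProduct.rid k M) (φ.lTensor M
      (TameAct.hmSMul k A R M t (HopfRep.Comod.coact (k := k) (A := A) m))) ∈ G := by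
    intro t
    induction t using TensorProduct.induction_on with
    | zero => simp
    | tmul r' a =>
      have aux : ∀ y : M ⊗[k] A, (TensorProduct.rid k M) (φ.lTensor M
          (TameAct.hmSMul k A R M (r' ⊗ₜ[k] a) y)) =
          r' • (TensorProduct.rid k M) ((φ ∘ₗ LinearMap.mulLeft k a).lTensor M y) := by
        intro y
        induction y using TensorProduct.induction_on with
        | zero => simp
        | tmul m' a' =>
          simp only [TameAct.hmSMul_tmul, LinearMap.lTensor_tmul, TensorProduct.rid_tmul,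
            LinearMap.comp_apply, LinearMap.mulLeft_apply]
          rw [smul_comm]
        | add y z hy hz => simp only [map_add, hy, hz, smul_add]
      rw [aux]
      exact G.smul_mem r' (hm _)
    | add t s ht hs =>
      simp only [map_add, LinearMap.add_apply]
      exact G.add_mem ht hs
  exact key _

theorem isSubcomod_top' :
    HopfRep.IsSubcomod (k := k) (A := A) ((⊤ : Submodule R M).restrictScalars k) :=
  (h4_isSubcomod_iff _).2 (fun _ _ _ => Submodule.mem_top)

theorem genIn_isSubcomod (S : Set (SimpSub k A)) (N : Submodule R M)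
    (hN : HopfRep.IsSubcomod (k := k) (A := A) (N.restrictScalars k)) :
    HopfRep.IsSubcomod (k := k) (A := A) ((genIn k A R M S N).restrictScalars k) := by
  rw [h4_isSubcomod_iff]
  have hN' := (h4_isSubcomod_iff _).1 hN
  intro φ g hg
  have hg' : g ∈ genIn k A R M S N := hg
  clear hg
  have key : ∀ ψ : A →ₗ[k] k, h4T ψ g ∈ genIn k A R M S N := by
    unfold genIn at hg' ⊢
    induction hg' using Submodule.span_induction with
    | mem m hm =>
      intro ψ
      simp only [Set.mem_iUnion] at hm
      obtain ⟨D, hD, hm⟩ := hm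
      apply Submodule.subset_span
      simp only [Set.mem_iUnion]
      refine ⟨D, hD, ?_⟩
      exact Submodule.mem_inf.2 ⟨hN' ψ m (Submodule.mem_inf.1 hm).1,
        h4T_mem_isoComp D.1 D.2.2.1 ψ m (Submodule.mem_inf.1 hm).2⟩
    | zero => intro ψ; rw [map_zero]; exact Submodule.zero_mem _
    | add x y _ _ hx hy => intro ψ; rw [map_add]; exact Submodule.add_mem _ (hx ψ) (hy ψ)
    | smul r x _ hx => intro ψ; exact h4T_smul_mem _ x hx r ψ
  exact key φ

end Stab

end H8Const
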