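import Mathlib.LinearAlgebra.RootSystem.Base
import Mathlib.RingTheory.TensorProduct.Basic
import Mathlib.Tactic

/-!
# Fixed vectors of a Coxeter element after base change (helper8)
-/

set_option autoImplicit false
open scoped TensorProduct

namespace H8Cox

section
variable (k : Type*) [Field k] {N : Type*} [AddCommGroup N]

noncomputable def ext (φ : N →ₗ[ℤ] ℤ) : k ⊗[ℤ] N →ₗ[k] k :=
  (TensorProduct.AlgebraTensorModule.rid ℤ k k).toLinearMap ∘ₗ φ.baseChange k

theorem ext_tmul (φ : N →ₗ[ℤ] ℤ) (a : k) (n : N) : ext k φ (a ⊗ₜ[ℤ] n) = (φ n) • a := by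
  simp [ext]

theorem ext_eq_zero_iff (φ : N →ₗ[ℤ] ℤ) (x : k ⊗[ℤ] N) :
    ext k φ x = 0 ↔ φ.baseChange k x = 0 := by
  unfold ext
  rw [LinearMap.comp_apply, LinearEquiv.coe_coe, LinearEquiv.map_eq_zero_iff]

end

variable {ι M N : Type*} [AddCommGroup M] [AddCommGroup N] (P : RootPairing ι ℤ M N)
  (k : Type*) [Field k]

theorem corefl_bc (i : ι) (x : k ⊗[ℤ] N) :
    ((P.coreflection i : N ≃ₗ[ℤ] N) : N →ₗ[ℤ] N).baseChange k x =
      x - (ext k (P.root' i) x) • ((1 : k) ⊗ₜ[ℤ] P.coroot i) := by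
  induction x using TensorProduct.induction_on with
  | zero => simp
  | tmul a n =>
    rw [LinearMap.baseChange_tmul, ext_tmul, LinearEquiv.coe_coe, P.coreflection_apply,
      TensorProduct.tmul_sub, TensorProduct.smul_tmul', smul_eq_mul, mul_one,
      TensorProduct.tmul_smul, TensorProduct.smul_tmul']
  | add x y hx hy => rw [map_add, map_add, hx, hy, add_smul]; abel

theorem sub_prod_mem (l : List ι) (x : k ⊗[ℤ] N) :
    x - ((l.map (fun i => ((P.coreflection i : N ≃ₗ[ℤ] N) : N →ₗ[ℤ] N))).prod).baseChange k x ∈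
      Submodule.span k {y | ∃ t ∈ l, y = (1 : k) ⊗ₜ[ℤ] P.coroot t} := by
  induction l with
  | nil =>
    rw [List.map_nil, List.prod_nil, LinearMap.baseChange_one, Module.End.one_apply, sub_self]
    exact Submodule.zero_mem _
  | cons i l' ih =>
    rw [List.map_cons, List.prod_cons, LinearMap.baseChange_mul, Module.End.mul_apply, corefl_bc]
    obtain ⟨y, hy⟩ : ∃ y, y = ((l'.map (fun i =>
      ((P.coreflection i : N ≃ₗ[ℤ] N) : N →ₗ[ℤ] N))).prod).baseChange k x := ⟨_, rfl⟩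
    rw [← hy] at ih ⊢
    have h1 : x - (y - (ext k (P.root' i) y) • ((1 : k) ⊗ₜ[ℤ] P.coroot i)) =
        (x - y) + (ext k (P.root' i) y) • ((1 : k) ⊗ₜ[ℤ] P.coroot i) := by abel
    rw [h1]
    apply Submodule.add_mem
    · refine Submodule.span_mono ?_ ih
      rintro z ⟨t, ht, rfl⟩
      exact ⟨t, List.mem_cons.2 (Or.inr ht), rfl⟩
    · exact Submodule.smul_mem _ _ (Submodule.subset_span ⟨i, List.mem_cons.2 (Or.inl rfl), rfl⟩)

theorem indep (i : ι) (ω : M) (hω1 : P.coroot' i ω = 1)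
    (L : List ι) (hL : ∀ t ∈ L, t ≠ i → P.coroot' t ω = 0) (hi : i ∉ L) (a : k)
    (ha : a • ((1 : k) ⊗ₜ[ℤ] P.coroot i) ∈
      Submodule.span k {y | ∃ t ∈ L, y = (1 : k) ⊗ₜ[ℤ] P.coroot t}) : a = 0 := by
  have hker : Submodule.span k {y | ∃ t ∈ L, y = (1 : k) ⊗ₜ[ℤ] P.coroot t} ≤
      LinearMap.ker (ext k (P.toLinearMap ω)) := by
    rw [Submodule.span_le]
    rintro z ⟨t, ht, rfl⟩
    rw [SetLike.mem_coe, LinearMap.mem_ker, ext_tmul]
    have hti : t ≠ i := fun h => hi (h ▸ ht)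
    have h0' : (P.toLinearMap ω) (P.coroot t) = 0 := hL t ht hti
    rw [h0', zero_smul]
  have h1 := hker ha
  rw [LinearMap.mem_ker, map_smul, ext_tmul] at h1
  have h1' : (P.toLinearMap ω) (P.coroot i) = 1 := hω1
  rw [h1', one_smul, smul_eq_mul, mul_one] at h1
  exact h1

theorem main (b : P.Base)
    (hsc : ∀ i ∈ b.support, ∃ ω : M, P.coroot' i ω = 1 ∧
      ∀ j ∈ b.support, j ≠ i → P.coroot' j ω = 0)
    (l : List ι) (hl : l.Nodup) (hlb : ∀ i ∈ l, i ∈ b.support) (H : k ⊗[ℤ] N)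
    (hH : ((l.map (fun i =>
      ((P.coreflection i : N ≃ₗ[ℤ] N) : N →ₗ[ℤ] N))).prod).baseChange k H = H) :
    ∀ i ∈ l, ext k (P.root' i) H = 0 := by
  induction l with
  | nil => intro i hi; simp at hi
  | cons i l' ih =>
    rw [List.nodup_cons] at hl
    obtain ⟨hil, hl'⟩ := hl
    rw [List.map_cons, List.prod_cons, LinearMap.baseChange_mul, Module.End.mul_apply,
      corefl_bc] at hH
    have hB := sub_prod_mem P k l' H
    obtain ⟨y, hy⟩ : ∃ y, y = ((l'.map (fun i =>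
      ((P.coreflection i : N ≃ₗ[ℤ] N) : N →ₗ[ℤ] N))).prod).baseChange k H := ⟨_, rfl⟩
    rw [← hy] at hH hB
    obtain ⟨ω, hω1, hω2⟩ := hsc i (hlb i (List.mem_cons.2 (Or.inl rfl)))
    have hmem : (ext k (P.root' i) y) • ((1 : k) ⊗ₜ[ℤ] P.coroot i) ∈
        Submodule.span k {z | ∃ t ∈ l', z = (1 : k) ⊗ₜ[ℤ] P.coroot t} := by
      have h2 : (ext k (P.root' i) y) • ((1 : k) ⊗ₜ[ℤ] P.coroot i) = -(H - y) := by
        rw [← hH]; abel
      rw [h2]; exact Submodule.neg_mem _ hB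
    have hρ : ext k (P.root' i) y = 0 :=
      indep P k i ω hω1 l' (fun t ht hti => hω2 t (hlb t (List.mem_cons.2 (Or.inr ht))) hti)
        hil _ hmem
    rw [hρ, zero_smul, sub_zero] at hH
    intro t ht
    rcases List.mem_cons.1 ht with rfl | ht'
    · rw [← hH]; exact hρ
    · exact ih hl' (fun t ht => hlb t (List.mem_cons.2 (Or.inr ht))) (hy.symm.trans hH) t ht'

end H8Cox
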