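import Mathlib
import Groth.Prelude.Def_W4c3irrattreebunCvg

/-!
# Covering gonality and the field of constants (helper8)
-/

set_option autoImplicit false

namespace Groth.Agent.Lib.helper8.CvgLib

open W4c3irrattreebun

universe u

theorem sInf_eq_of {S T : Set ℕ} (h1 : T ⊆ S) (h2 : ∀ e ∈ S, ∃ e' ∈ T, e' ≤ e) :
    sInf S = sInf T := by
  by_cases hS : S.Nonempty
  · have hT : T.Nonempty := by
      obtain ⟨e, he⟩ := hS
      obtain ⟨e', he', -⟩ := h2 e he
      exact ⟨e', he'⟩
    apply le_antisymm
    · exact Nat.sInf_le (h1 (Nat.sInf_mem hT))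
    · obtain ⟨e', he', hle⟩ := h2 _ (Nat.sInf_mem hS)
      exact (Nat.sInf_le he').trans hle
  · have hS' : S = ∅ := Set.not_nonempty_iff_eq_empty.1 hS
    have hT' : T = ∅ := by
      rw [hS'] at h1
      exact Set.subset_empty_iff.1 h1
    rw [hS', hT']

variable {k K : Type u} [Field k] [Field K] [Algebra k K] (F : IntermediateField k K)

/-- restrict a covering diagram over `F` to one over `k` -/
noncomputable def down {e : ℕ} (D : CovDiag.{u} F K e) : CovDiag.{u} k K e :=
  letI algkC : Algebra k D.KC := ((algebraMap K D.KC).comp (algebraMap k K)).toAlgebra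
  letI algkB : Algebra k D.KB := ((algebraMap F D.KB).comp (algebraMap k F)).toAlgebra
  { KC := D.KC
    KB := D.KB
    instFieldC := D.instFieldC
    instFieldB := D.instFieldB
    algKC := D.algKC
    algkC := algkC
    towerK := IsScalarTower.of_algebraMap_eq (fun x => rfl)
    algkB := algkB
    algBC := D.algBC
    towerB := IsScalarTower.of_algebraMap_eq (fun x => by
      show algebraMap K D.KC (algebraMap k K x) =
        algebraMap D.KB D.KC (algebraMap F D.KB (algebraMap k F x))
      have h1 := @IsScalarTower.algebraMap_apply F D.KB D.KC _ _ _ D.algkB D.algBC D.algkC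
        D.towerB (algebraMap k F x)
      have h2 := @IsScalarTower.algebraMap_apply F K D.KC _ _ _ _ D.algKC D.algkC
        D.towerK (algebraMap k F x)
      have h3 : algebraMap F K (algebraMap k F x) = algebraMap k K x :=
        (IsScalarTower.algebraMap_apply k F K x).symm
      rw [← h1, h2, h3])
    finiteK := D.finiteK
    t := D.t
    transc := D.transc
    finiteT := D.finiteT
    finrank_eq := D.finrank_eq }

set_option synthInstance.maxHeartbeats 200000 in
set_option maxHeartbeats 1000000 in
theorem up_aux {e : ℕ} (D : CovDiag.{u} k K e) (M : IntermediateField D.KB D.KC)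
    [Algebra.IsAlgebraic D.KB M]
    (hmem : ∀ x : F, ((algebraMap K D.KC).comp (algebraMap F K)) x ∈ M) :
    ∃ e' : ℕ, e' ≤ e ∧ ∃ D' : CovDiag.{u} F K e',
      (Algebra.IsSeparable K D.KC → Algebra.IsSeparable K D'.KC) := by
  let algFC : Algebra F D.KC := ((algebraMap K D.KC).comp (algebraMap F K)).toAlgebra
  let algFB : Algebra F M :=
    (RingHom.codRestrict ((algebraMap K D.KC).comp (algebraMap F K)) M hmem).toAlgebra
  have transc' : Transcendental M D.t := D.transc.extendScalars M
  have hsub : ∀ x : IntermediateField.adjoin D.KB ({D.t} : Set D.KC),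
      algebraMap (IntermediateField.adjoin D.KB ({D.t} : Set D.KC)) D.KC x ∈
        IntermediateField.adjoin M ({D.t} : Set D.KC) := by
    intro x
    have hle : IntermediateField.adjoin D.KB ({D.t} : Set D.KC) ≤
        (IntermediateField.adjoin M ({D.t} : Set D.KC)).restrictScalars D.KB := by
      rw [IntermediateField.adjoin_le_iff]
      intro y hy
      rw [Set.mem_singleton_iff] at hy
      rw [hy]
      exact IntermediateField.mem_adjoin_simple_self M D.t
    exact hle x.2
  letI alg12 : Algebra (IntermediateField.adjoin D.KB ({D.t} : Set D.KC))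
      (IntermediateField.adjoin M ({D.t} : Set D.KC)) :=
    (RingHom.codRestrict (algebraMap (IntermediateField.adjoin D.KB ({D.t} : Set D.KC)) D.KC)
      (IntermediateField.adjoin M ({D.t} : Set D.KC)) hsub).toAlgebra
  haveI tower12 : IsScalarTower (IntermediateField.adjoin D.KB ({D.t} : Set D.KC))
      (IntermediateField.adjoin M ({D.t} : Set D.KC)) D.KC :=
    IsScalarTower.of_algebraMap_eq (fun x => rfl)
  haveI fin2 : Module.Finite (IntermediateField.adjoin M ({D.t} : Set D.KC)) D.KC :=
    Module.Finite.of_restrictScalars_finite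
      (IntermediateField.adjoin D.KB ({D.t} : Set D.KC)) _ D.KC
  letI mod12 : Module (IntermediateField.adjoin D.KB ({D.t} : Set D.KC))
      (IntermediateField.adjoin M ({D.t} : Set D.KC)) := alg12.toModule
  have hmul := Module.finrank_mul_finrank (IntermediateField.adjoin D.KB ({D.t} : Set D.KC))
    (IntermediateField.adjoin M ({D.t} : Set D.KC)) D.KC
  have hpos : 0 < Module.finrank (IntermediateField.adjoin D.KB ({D.t} : Set D.KC)) D.KC :=
    Module.finrank_pos
  refine ⟨Module.finrank (IntermediateField.adjoin M ({D.t} : Set D.KC)) D.KC, ?_, ?_⟩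
  · have h := Nat.le_of_dvd hpos (Dvd.intro_left _ hmul)
    rw [D.finrank_eq] at h
    exact h
  · exact ⟨{ KC := D.KC
             KB := M
             instFieldC := D.instFieldC
             instFieldB := inferInstance
             algKC := D.algKC
             algkC := algFC
             towerK := @IsScalarTower.of_algebraMap_eq F K D.KC _ _ _ _ D.algKC algFC
               (fun x => rfl)
             algkB := algFB
             algBC := inferInstance
             towerB := @IsScalarTower.of_algebraMap_eq F M D.KC _ _ _ algFB _ algFC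
               (fun x => rfl)
             finiteK := D.finiteK
             t := D.t
             transc := transc'
             finiteT := fin2
             finrank_eq := rfl }, fun h => h⟩

theorem up [Algebra.IsAlgebraic k F] {e : ℕ} (D : CovDiag.{u} k K e) :
    ∃ e' : ℕ, e' ≤ e ∧ ∃ D' : CovDiag.{u} F K e',
      (Algebra.IsSeparable K D.KC → Algebra.IsSeparable K D'.KC) := by
  apply up_aux F D (algebraicClosure D.KB D.KC)
  intro x
  show algebraMap K D.KC (algebraMap F K x) ∈ algebraicClosure D.KB D.KC
  rw [mem_algebraicClosure_iff]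
  have h1 : IsAlgebraic k x := Algebra.IsAlgebraic.isAlgebraic x
  have h2 : IsAlgebraic k (((IsScalarTower.toAlgHom k K D.KC).comp F.val) x) := h1.algHom _
  have h3 : IsAlgebraic k (algebraMap K D.KC (algebraMap F K x)) := h2
  exact h3.tower_top D.KB

theorem cvg_eq [Algebra.IsAlgebraic k F] : cvg k K = cvg F K := by
  unfold cvg
  apply sInf_eq_of
  · rintro e ⟨D⟩
    exact ⟨down F D⟩
  · rintro e ⟨D⟩
    obtain ⟨e', he', D', -⟩ := up F D
    exact ⟨e', ⟨D'⟩, he'⟩

theorem scvg_eq [Algebra.IsAlgebraic k F] : scvg k K = scvg F K := by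
  unfold scvg
  apply sInf_eq_of
  · rintro e ⟨D, hD⟩
    exact ⟨down F D, hD⟩
  · rintro e ⟨D, hD⟩
    obtain ⟨e', he', D', hD'⟩ := up F D
    exact ⟨e', ⟨D', hD' hD⟩, he'⟩

end Groth.Agent.Lib.helper8.CvgLib
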