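import Mathlib

/-!
# Kernel of a product of distinct linear factors (helper8)
-/

open Polynomial

namespace H8Eig

theorem ker_aeval_prod_eq_iSup {k V : Type*} [Field k] [AddCommGroup V] [Module k V]
    (f : Module.End k V) (t : Finset k) :
    LinearMap.ker (aeval f (∏ a ∈ t, (X - C a))) = ⨆ a ∈ t, Module.End.eigenspace f a := by
  classical
  induction t using Finset.induction_on with
  | empty =>
    simp only [Finset.prod_empty, map_one, Finset.notMem_empty, iSup_false, iSup_bot]
    exact LinearMap.ker_id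
  | insert a t ha ih =>
    have hcop : IsCoprime (X - C a) (∏ b ∈ t, (X - C b)) := by
      apply IsCoprime.prod_right
      intro b hb
      apply isCoprime_X_sub_C_of_isUnit_sub
      have hab : a ≠ b := fun h => ha (h ▸ hb)
      exact (sub_ne_zero.mpr hab).isUnit
    rw [Finset.prod_insert ha, ← sup_ker_aeval_eq_ker_aeval_mul_of_coprime f hcop, ih,
      Finset.iSup_insert]
    congr 1
    rw [Module.End.eigenspace_def]
    congr 1
    simp [Algebra.algebraMap_eq_smul_one]

theorem iSup_eigenspace_eq_top_of_pow_eq_one {k V : Type*} [Field k] [IsAlgClosed k]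
    [AddCommGroup V] [Module k V]
    (f : Module.End k V) (m : ℕ) (hm : 0 < m) (hm0 : (m : k) ≠ 0) (hf : f ^ m = 1) :
    ⨆ μ : k, Module.End.eigenspace f μ = ⊤ := by
  classical
  have hq : (X ^ m - 1 : k[X]).Monic := by
    have := monic_X_pow_sub_C (1 : k) hm.ne'
    simpa using this
  have hsplit : (X ^ m - 1 : k[X]).Splits := IsAlgClosed.splits _
  have hnodup : (X ^ m - 1 : k[X]).roots.Nodup :=
    nodup_roots (X_pow_sub_one_separable_iff.mpr hm0)
  have hprod : (X ^ m - 1 : k[X]) =
      ∏ a ∈ (⟨(X ^ m - 1 : k[X]).roots, hnodup⟩ : Finset k), (X - C a) :=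
    hsplit.eq_prod_roots_of_monic hq
  have hzero : aeval f (X ^ m - 1 : k[X]) = 0 := by
    simp [hf]
  have htop : LinearMap.ker (aeval f (X ^ m - 1 : k[X])) = ⊤ := by
    rw [hzero]; exact LinearMap.ker_zero
  rw [hprod, ker_aeval_prod_eq_iSup] at htop
  rw [eq_top_iff, ← htop]
  exact iSup₂_le fun a _ => le_iSup (fun μ : k => Module.End.eigenspace f μ) a

end H8Eig
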