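import Mathlib

/-!
Helper lemmas (helper8): finite-dimensional commutative algebras over an algebraically closed field.
-/

set_option autoImplicit false
universe u v

namespace Groth.Agent.Lib.helper8

/-- For a prime ideal `p` of a finite-dimensional algebra over an algebraically closed field `k`,
there is a `k`-algebra homomorphism `A → k` with kernel `p`. -/
theorem exists_algHom_ker_eq_of_isPrime (k : Type u) [Field k] [IsAlgClosed k]
    (A : Type v) [CommRing A] [Algebra k A] [Module.Finite k A] (p : Ideal A) [hp : p.IsPrime] :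
    ∃ f : A →ₐ[k] k, RingHom.ker f = p := by
  have hint : Algebra.IsIntegral k (A ⧸ p) := inferInstance
  have hbij : Function.Bijective (algebraMap k (A ⧸ p)) :=
    IsAlgClosed.algebraMap_bijective_of_isIntegral
  let e : k ≃ₐ[k] (A ⧸ p) := AlgEquiv.ofBijective (Algebra.ofId k (A ⧸ p)) hbij
  refine ⟨(e.symm : (A ⧸ p) →ₐ[k] k).comp (Ideal.Quotient.mkₐ k p), ?_⟩
  ext a
  rw [RingHom.mem_ker]
  change e.symm (Ideal.Quotient.mk p a) = 0 ↔ a ∈ p
  rw [EmbeddingLike.map_eq_zero_iff]
  exact Ideal.Quotient.eq_zero_iff_mem

/-- An algebra hom to the base field is determined by its kernel. -/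
theorem algHom_eq_of_ker_eq (k : Type u) [Field k]
    (A : Type v) [CommRing A] [Algebra k A] (f g : A →ₐ[k] k)
    (h : RingHom.ker f = RingHom.ker g) : f = g := by
  ext a
  have h1 : a - algebraMap k A (f a) ∈ RingHom.ker f := by
    rw [RingHom.mem_ker, map_sub, AlgHom.commutes]; simp
  rw [h, RingHom.mem_ker, map_sub, AlgHom.commutes] at h1
  have : g a = f a := by simpa [sub_eq_zero] using h1
  exact this.symm

theorem ker_algHom_isMaximal (k : Type u) [Field k]
    (A : Type v) [CommRing A] [Algebra k A] (f : A →ₐ[k] k) : (RingHom.ker f).IsMaximal :=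
  RingHom.ker_isMaximal_of_surjective (f : A →+* k) (fun c => ⟨algebraMap k A c, by simp⟩)

end Groth.Agent.Lib.helper8
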