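import Mathlib
import Groth.Prelude.Def_W4c2invhilbsl2HJ

set_option autoImplicit false

namespace H8HJ

open W4c2invhilbsl2

theorem hjP_zero (c : List ℤ) : hjP c 0 = 0 := rfl
theorem hjP_one (c : List ℤ) : hjP c 1 = 1 := rfl
theorem hjP_rec (c : List ℤ) (j : ℕ) :
    hjP c (j+2) = c.getD j 0 * hjP c (j+1) - hjP c j := rfl
theorem hjQ_zero (c : List ℤ) : hjQ c 0 = -1 := rfl
theorem hjQ_one (c : List ℤ) : hjQ c 1 = 0 := rfl
theorem hjQ_rec (c : List ℤ) (j : ℕ) :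
    hjQ c (j+2) = c.getD j 0 * hjQ c (j+1) - hjQ c j := rfl

theorem hjVal_nil : HJFrac.hjVal [] = 0 := rfl
theorem hjVal_cons (b : ℤ) (l : List ℤ) :
    HJFrac.hjVal (b :: l) = (b:ℚ) - (HJFrac.hjVal l)⁻¹ := rfl

theorem hjVal_gt_one : ∀ (l : List ℤ), l ≠ [] → (∀ x ∈ l, (2:ℤ) ≤ x) → (1:ℚ) < HJFrac.hjVal l
  | [], h, _ => absurd rfl h
  | [b], _, hb => by
      have h2 : (2:ℤ) ≤ b := hb b (by simp)
      have h2q : (2:ℚ) ≤ (b:ℚ) := by exact_mod_cast h2
      rw [hjVal_cons, hjVal_nil, inv_zero, sub_zero]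
      linarith
  | b :: b' :: l', _, hb => by
      have ih := hjVal_gt_one (b' :: l') (List.cons_ne_nil _ _)
        (fun x hx => hb x (List.mem_cons_of_mem _ hx))
      have h2 : (2:ℤ) ≤ b := hb b (by simp)
      have h2q : (2:ℚ) ≤ (b:ℚ) := by exact_mod_cast h2
      rw [hjVal_cons]
      have hinv : (HJFrac.hjVal (b' :: l'))⁻¹ < 1 := inv_lt_one_of_one_lt₀ ih
      linarith

theorem lemH (a b : ℤ) (ha : 0 < a) (h : (1:ℚ) < (a:ℚ)/(b:ℚ)) : 0 < b ∧ b < a := by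
  have hb : 0 < b := by
    rcases lt_or_ge 0 b with hb | hb
    · exact hb
    · exfalso
      have h1 : (0:ℚ) ≤ (a:ℚ) := by exact_mod_cast ha.le
      have h2 : (b:ℚ) ≤ 0 := by exact_mod_cast hb
      have : (a:ℚ)/(b:ℚ) ≤ 0 := by
        rw [div_nonpos_iff]; left; exact ⟨h1, h2⟩
      linarith
  refine ⟨hb, ?_⟩
  have hbq : (0:ℚ) < (b:ℚ) := by exact_mod_cast hb
  have := (one_lt_div hbq).1 h
  exact_mod_cast this

theorem hj_det (c : List ℤ) :
    ∀ j : ℕ, hjP c j * hjQ c (j+1) - hjP c (j+1) * hjQ c j = 1 := by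
  intro j
  induction j with
  | zero =>
    show hjP c 0 * hjQ c 1 - hjP c 1 * hjQ c 0 = 1
    rw [hjP_zero, hjP_one, hjQ_zero, hjQ_one]; norm_num
  | succ j ih =>
    show hjP c (j+1) * hjQ c (j+2) - hjP c (j+2) * hjQ c (j+1) = 1
    rw [hjP_rec, hjQ_rec]
    linear_combination ih

theorem hjP_mono (c : List ℤ) (hc1 : ∀ x ∈ c, (2:ℤ) ≤ x) :
    ∀ j : ℕ, j ≤ c.length → 0 ≤ hjP c j ∧ hjP c j + 1 ≤ hjP c (j+1) := by
  intro j
  induction j with
  | zero =>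
    intro _
    show 0 ≤ hjP c 0 ∧ hjP c 0 + 1 ≤ hjP c 1
    rw [hjP_zero, hjP_one]; norm_num
  | succ j ih =>
    intro hj
    obtain ⟨h0, h1⟩ := ih (by omega)
    have hjl : j < c.length := by omega
    have hcj : (2:ℤ) ≤ c.getD j 0 := by
      rw [List.getD_eq_getElem _ _ hjl]
      exact hc1 _ (List.getElem_mem _)
    refine ⟨by linarith, ?_⟩
    show hjP c (j+1) + 1 ≤ hjP c (j+2)
    rw [hjP_rec]
    have := mul_le_mul_of_nonneg_right hcj (by linarith : (0:ℤ) ≤ hjP c (j+1))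
    linarith

theorem N_dec (c : List ℤ) (hc1 : ∀ x ∈ c, (2:ℤ) ≤ x) (u0 u1 : ℤ) (h0 : 0 < u0)
    (hv : HJFrac.hjVal c = (u0:ℚ)/(u1:ℚ)) :
    ∀ j, j < c.length →
      0 < u1 * hjP c (j+1) - u0 * hjQ c (j+1) ∧
      u1 * hjP c (j+1) - u0 * hjQ c (j+1) < u1 * hjP c j - u0 * hjQ c j := by
  obtain ⟨N, hN⟩ : ∃ N : ℕ → ℤ, ∀ j, N j = u1 * hjP c j - u0 * hjQ c j :=
    ⟨fun j => _, fun j => rfl⟩
  have hN0 : N 0 = u0 := by rw [hN, hjP_zero, hjQ_zero]; ring
  have hN1 : N 1 = u1 := by rw [hN, hjP_one, hjQ_one]; ring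
  have hNrec : ∀ j, N (j+2) = c.getD j 0 * N (j+1) - N j := by
    intro j; rw [hN (j+2), hN (j+1), hN j, hjP_rec, hjQ_rec]; ring
  have key : ∀ j, j < c.length →
      HJFrac.hjVal (c.drop j) = (N j : ℚ)/(N (j+1) : ℚ) → 0 < N j →
      0 < N (j+1) ∧ N (j+1) < N j := by
    intro j hj hvj hpos
    have hne : c.drop j ≠ [] := by
      intro h
      have h' := congrArg List.length h
      rw [List.length_drop, List.length_nil] at h'
      omega
    have hdig : ∀ x ∈ c.drop j, (2:ℤ) ≤ x := fun x hx => hc1 x (List.mem_of_mem_drop hx)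
    have hgt := hjVal_gt_one _ hne hdig
    rw [hvj] at hgt
    exact lemH _ _ hpos hgt
  have hind : ∀ j, j < c.length →
      HJFrac.hjVal (c.drop j) = (N j : ℚ)/(N (j+1) : ℚ) ∧ 0 < N j := by
    intro j
    induction j with
    | zero =>
      intro _
      refine ⟨?_, by rw [hN0]; exact h0⟩
      show HJFrac.hjVal (c.drop 0) = (N 0 : ℚ)/(N 1 : ℚ)
      rw [List.drop_zero, hv, hN0, hN1]
    | succ j ih =>
      intro hj
      have hjl : j < c.length := by omega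
      obtain ⟨hvj, hpos⟩ := ih hjl
      obtain ⟨hpos1, hlt1⟩ := key j hjl hvj hpos
      refine ⟨?_, hpos1⟩
      show HJFrac.hjVal (c.drop (j+1)) = (N (j+1) : ℚ)/(N (j+2) : ℚ)
      have hdrop : c.drop j = (c)[j] :: c.drop (j+1) := List.drop_eq_getElem_cons hjl
      rw [hdrop, hjVal_cons] at hvj
      have hNq : (N (j+1) : ℚ) ≠ 0 := by exact_mod_cast hpos1.ne'
      have hrec : (N (j+2) : ℚ) = ((c)[j] : ℚ) * (N (j+1) : ℚ) - (N j : ℚ) := by
        rw [hNrec j, List.getD_eq_getElem _ _ hjl, Int.cast_sub, Int.cast_mul]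
      have h3 : (HJFrac.hjVal (c.drop (j+1)))⁻¹ =
          ((c)[j] : ℚ) - (N j : ℚ)/(N (j+1) : ℚ) := by linarith
      have hinv : (HJFrac.hjVal (c.drop (j+1)))⁻¹ = (N (j+2) : ℚ)/(N (j+1) : ℚ) := by
        rw [h3, hrec, sub_div, mul_div_assoc, div_self hNq, mul_one]
      rw [← inv_inv (HJFrac.hjVal (c.drop (j+1))), hinv, inv_div]
  intro j hj
  obtain ⟨hvj, hpos⟩ := hind j hj
  have := key j hj hvj hpos
  rw [hN (j+1), hN j] at this
  exact this

theorem lattice_key (P' P Q' Q N' Nn u0 u1 x y : ℤ) (det : P' * Q - P * Q' = 1)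
    (hN' : N' = u1 * P' - u0 * Q') (hNn : Nn = u1 * P - u0 * Q)
    (hP' : 0 < P') (hPP : P' < P) (hNpos : 0 < Nn) (hNN : Nn < N')
    (hx0 : 0 < x) (hx : x < P) (hl0 : 0 ≤ u1 * x - u0 * y) : N' ≤ u1 * x - u0 * y := by
  obtain ⟨A, hA⟩ : ∃ A : ℤ, A = x * Q - y * P := ⟨_, rfl⟩
  obtain ⟨B, hB⟩ : ∃ B : ℤ, B = P' * y - Q' * x := ⟨_, rfl⟩
  have hxe : x = A * P' + B * P := by rw [hA, hB]; linear_combination (-x) * det
  have hle : u1 * x - u0 * y = A * N' + B * Nn := by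
    rw [hA, hB, hN', hNn]; linear_combination (-(u1 * x - u0 * y)) * det
  rw [hle] at hl0 ⊢
  have hP0 : 0 < P := by linarith
  by_contra hcon
  push Not at hcon
  rcases lt_or_ge 0 B with hB1 | hB0
  · have hA1 : A ≤ -1 := by
      by_contra h
      push Not at h
      have t1 := mul_nonneg (by linarith : (0:ℤ) ≤ A) hP'.le
      have t2 := mul_nonneg (by linarith : (0:ℤ) ≤ B - 1) hP0.le
      nlinarith
    have hAB : 1 ≤ A + B := by
      by_contra h
      push Not at h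
      have t1 := mul_nonneg (by linarith : (0:ℤ) ≤ -A - 1) (by linarith : (0:ℤ) ≤ N' - Nn)
      have t2 := mul_nonneg (by linarith : (0:ℤ) ≤ -(A + B)) hNpos.le
      nlinarith
    have t1 := mul_nonneg (by linarith : (0:ℤ) ≤ B - 1 + A) hP0.le
    have t2 := mul_nonneg (by linarith : (0:ℤ) ≤ -A) (by linarith : (0:ℤ) ≤ P - P')
    nlinarith
  · have hA1 : 1 ≤ A := by
      by_contra h
      push Not at h
      have t1 := mul_nonneg (by linarith : (0:ℤ) ≤ -A) hP'.le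
      have t2 := mul_nonneg (by linarith : (0:ℤ) ≤ -B) hP0.le
      nlinarith
    have hAB : 1 ≤ A + B := by
      by_contra h
      push Not at h
      have t1 := mul_nonneg (by linarith : (0:ℤ) ≤ -B) (by linarith : (0:ℤ) ≤ P - P')
      have t2 := mul_nonneg (by linarith : (0:ℤ) ≤ -(A + B)) hP'.le
      nlinarith
    have t1 := mul_nonneg (by linarith : (0:ℤ) ≤ A - 1) (by linarith : (0:ℤ) ≤ N' - Nn)
    have t2 := mul_nonneg (by linarith : (0:ℤ) ≤ A + B - 1) hNpos.le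
    nlinarith

end H8HJ
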