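import Mathlib
import Groth.Prelude.Def_QuadGrp

/-!
helper8: infinitesimal isometries `x ↦ x + ε (B(a,x) b - B(b,x) a)` over a ring with `ε² = 0`,
realised as conjugation by the even Clifford unit `1 + ε (ι b)(ι a)`; hence Dickson-trivial.
-/

namespace H8OC

open CliffordAlgebra

universe u v

variable {A : Type u} [CommRing A] {N : Type v} [AddCommGroup N] [Module A N]
  (Q : QuadraticForm A N)

/-- `Y_{a,b} x = B(a,x) b - B(b,x) a`. -/
noncomputable def Y (a b : N) : N →ₗ[A] N :=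
  (QuadraticMap.polarBilin Q a).smulRight b - (QuadraticMap.polarBilin Q b).smulRight a

theorem Y_apply (a b x : N) :
    Y Q a b x = QuadraticMap.polar Q a x • b - QuadraticMap.polar Q b x • a := by
  simp [Y]

theorem Y_swap (a b : N) : Y Q a b = - Y Q b a := by
  ext x
  simp [Y_apply]

theorem polar_Y (a b x : N) : QuadraticMap.polar Q x (Y Q a b x) = 0 := by
  rw [Y_apply, QuadraticMap.polar_sub_right, QuadraticMap.polar_smul_right,
    QuadraticMap.polar_smul_right, QuadraticMap.polar_comm Q x b, QuadraticMap.polar_comm Q x a]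
  simp only [smul_eq_mul]; ring

variable (ε : A)

theorem Q_add_eps_Y (hε : ε * ε = 0) (a b x : N) : Q (x + ε • Y Q a b x) = Q x := by
  rw [QuadraticMap.map_add Q x (ε • Y Q a b x), QuadraticMap.map_smul, QuadraticMap.polar_smul_right, polar_Y, hε]
  simp

/-- `x ↦ x + ε Y_{a,b} x`. -/
noncomputable def hLin (a b : N) : N →ₗ[A] N := LinearMap.id + ε • Y Q a b

theorem hLin_apply (a b x : N) : hLin Q ε a b x = x + ε • Y Q a b x := by
  simp [hLin]

theorem hLin_comp (hε : ε * ε = 0) (a b : N) : hLin Q ε a b ∘ₗ hLin Q ε b a = LinearMap.id := by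
  apply LinearMap.ext
  intro x
  simp only [LinearMap.comp_apply, hLin_apply, LinearMap.id_apply]
  rw [map_add, map_smul, smul_add, smul_smul, hε, zero_smul, add_zero, Y_swap Q a b,
    LinearMap.neg_apply, smul_neg]
  abel

noncomputable def hEquiv (hε : ε * ε = 0) (a b : N) : N ≃ₗ[A] N :=
  LinearEquiv.ofLinearMap (hLin Q ε a b) (hLin Q ε b a) (hLin_comp Q ε hε a b) (hLin_comp Q ε hε b a)

theorem hEquiv_apply (hε : ε * ε = 0) (a b x : N) :
    hEquiv Q ε hε a b x = x + ε • Y Q a b x := hLin_apply Q ε a b x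

theorem hEquiv_mem_O (hε : ε * ε = 0) (a b : N) : hEquiv Q ε hε a b ∈ QuadGrp.O Q := by
  intro v
  rw [hEquiv_apply]
  exact Q_add_eps_Y Q ε hε a b v

/-- `1 + ε (ι b)(ι a)`. -/
noncomputable def W (a b : N) : CliffordAlgebra Q := 1 + ε • (ι Q b * ι Q a)

noncomputable def Winv (a b : N) : CliffordAlgebra Q := 1 - ε • (ι Q b * ι Q a)

theorem smul_mul_smul_zero (hε : ε * ε = 0) (y z : CliffordAlgebra Q) :
    (ε • y) * (ε • z) = 0 := by
  rw [smul_mul_smul_comm, hε, zero_smul]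

theorem W_mul_Winv (hε : ε * ε = 0) (a b : N) : W Q ε a b * Winv Q ε a b = 1 := by
  simp only [W, Winv]
  have e : ∀ s : CliffordAlgebra Q, (1 + s) * (1 - s) = 1 - s * s := by
    intro s; noncomm_ring
  rw [e, smul_mul_smul_zero Q ε hε, sub_zero]

theorem Winv_mul_W (hε : ε * ε = 0) (a b : N) : Winv Q ε a b * W Q ε a b = 1 := by
  simp only [W, Winv]
  have e : ∀ s : CliffordAlgebra Q, (1 - s) * (1 + s) = 1 - s * s := by
    intro s; noncomm_ring
  rw [e, smul_mul_smul_zero Q ε hε, sub_zero]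

theorem comm_lemma (a b x : N) :
    ι Q b * ι Q a * ι Q x - ι Q x * (ι Q b * ι Q a) = ι Q (Y Q a b x) := by
  have e1 : ι Q a * ι Q x = algebraMap A _ (QuadraticMap.polar Q a x) - ι Q x * ι Q a :=
    ι_mul_ι_comm a x
  have e2 : ι Q b * ι Q x = algebraMap A _ (QuadraticMap.polar Q b x) - ι Q x * ι Q b :=
    ι_mul_ι_comm b x
  have e3 : ι Q b * ι Q a * ι Q x =
      QuadraticMap.polar Q a x • ι Q b - QuadraticMap.polar Q b x • ι Q a +
        ι Q x * (ι Q b * ι Q a) := by
    rw [mul_assoc, e1, mul_sub, ← mul_assoc (ι Q b) (ι Q x), e2, sub_mul, ← Algebra.commutes,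
      ← Algebra.smul_def, ← Algebra.smul_def, mul_assoc]
    abel
  rw [e3, Y_apply, map_sub, map_smul, map_smul]
  abel

theorem conj_ι (hε : ε * ε = 0) (a b x : N) :
    W Q ε a b * ι Q x * Winv Q ε a b = ι Q (x + ε • Y Q a b x) := by
  simp only [W, Winv]
  have e : ∀ s y : CliffordAlgebra Q, (1 + s) * y * (1 - s) = y + (s * y - y * s) - s * y * s := by
    intro s y; noncomm_ring
  rw [e]
  have h1 : (ε • (ι Q b * ι Q a)) * ι Q x * (ε • (ι Q b * ι Q a)) = 0 := by
    rw [smul_mul_assoc, smul_mul_smul_zero Q ε hε]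
  have h2 : (ε • (ι Q b * ι Q a)) * ι Q x - ι Q x * (ε • (ι Q b * ι Q a)) =
      ε • ι Q (Y Q a b x) := by
    rw [smul_mul_assoc, mul_smul_comm, ← smul_sub, comm_lemma]
  rw [h1, h2, sub_zero, map_add, map_smul]

theorem map_eq_conj (hε : ε * ε = 0) (a b : N) (y : CliffordAlgebra Q) :
    CliffordAlgebra.map (QuadGrp.isometryOfMem Q (hEquiv Q ε hε a b) (hEquiv_mem_O Q ε hε a b)) y =
      W Q ε a b * y * Winv Q ε a b := by
  induction y using CliffordAlgebra.induction with
  | algebraMap r =>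
    rw [AlgHom.commutes, ← Algebra.commutes, mul_assoc, W_mul_Winv Q ε hε, mul_one]
  | ι x =>
    rw [CliffordAlgebra.map_apply_ι, QuadGrp.isometryOfMem_apply, hEquiv_apply, conj_ι Q ε hε]
  | mul y z hy hz =>
    rw [map_mul, hy, hz]
    calc W Q ε a b * y * Winv Q ε a b * (W Q ε a b * z * Winv Q ε a b)
        = W Q ε a b * y * (Winv Q ε a b * W Q ε a b) * z * Winv Q ε a b := by noncomm_ring
      _ = W Q ε a b * (y * z) * Winv Q ε a b := by
          rw [Winv_mul_W Q ε hε, mul_one, mul_assoc (W Q ε a b) y z]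
  | add y z hy hz =>
    rw [map_add, hy, hz, mul_add, add_mul]

theorem W_mem_even (a b : N) : W Q ε a b ∈ CliffordAlgebra.even Q := by
  simp only [W]
  refine Subalgebra.add_mem _ (Subalgebra.one_mem _) (Subalgebra.smul_mem _ ?_ ε)
  exact ι_mul_ι_mem_evenOdd_zero Q b a

theorem dickson (hε : ε * ε = 0) (a b : N) :
    QuadGrp.IsDicksonTrivial Q (hEquiv Q ε hε a b) (hEquiv_mem_O Q ε hε a b) := by
  intro z hz
  rw [map_eq_conj Q ε hε]
  have h := (Subalgebra.mem_center_iff.mp hz) ⟨W Q ε a b, W_mem_even Q ε a b⟩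
  have h' : W Q ε a b * (z : CliffordAlgebra Q) = (z : CliffordAlgebra Q) * W Q ε a b :=
    congrArg Subtype.val h
  rw [h', mul_assoc, W_mul_Winv Q ε hε, mul_one]

theorem hEquiv_mem_SOeven (hε : ε * ε = 0) (a b : N) :
    hEquiv Q ε hε a b ∈ QuadGrp.SOeven Q :=
  ⟨hEquiv_mem_O Q ε hε a b, dickson Q ε hε a b⟩

end H8OC
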