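import Mathlib
import Groth.Prelude.Def_QuadGrp
import Groth.Agent.Lib.helper8.OrthCenterLib
import Groth.Agent.S17006

/-!
helper8: half-discriminant facts (evenness of the universal discriminant in odd rank, Euler identity)
and a Cramer-type cancellation lemma for alternating matrices.
-/

namespace H8OC2

open MvPolynomial

/-- A symmetric matrix with zero diagonal of odd size over a ring of characteristic two has determinant zero. -/
theorem det_eq_zero_of_symm_zero_diag {S : Type*} [CommRing S] [CharP S 2] {n : ℕ} (hn : Odd n)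
    (N : Matrix (Fin n) (Fin n) S) (hsymm : ∀ i j, N i j = N j i) (hdiag : ∀ i, N i i = 0) :
    N.det = 0 := by
  classical
  rw [Matrix.det_apply]
  refine Finset.sum_ninvolution (fun σ => σ⁻¹) ?_ ?_ (fun _ => Finset.mem_univ _)
    (fun σ => inv_inv σ)
  · intro σ
    have h1 : ∏ i, N (σ⁻¹ i) i = ∏ i, N (σ i) i := by
      rw [← Equiv.prod_comp σ (fun i => N (σ⁻¹ i) i)]
      refine Finset.prod_congr rfl fun i _ => ?_
      show N (σ⁻¹ (σ i)) (σ i) = N (σ i) i
      rw [Equiv.Perm.inv_def, Equiv.symm_apply_apply, hsymm]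
    rw [Equiv.Perm.sign_inv, h1]
    exact CharTwo.add_self_eq_zero _
  · intro σ hne hσ
    apply hne
    have hσ2 : σ ^ 2 ^ 1 = 1 := by
      rw [pow_one, pow_two]
      calc σ * σ = σ⁻¹ * σ := by rw [hσ]
        _ = 1 := inv_mul_cancel σ
    haveI : Fact (Nat.Prime 2) := ⟨Nat.prime_two⟩
    have hcard : ¬ 2 ∣ Fintype.card (Fin n) := by
      rw [Fintype.card_fin]; exact hn.not_two_dvd_nat
    obtain ⟨a, ha⟩ := Equiv.Perm.exists_fixed_point_of_prime hcard hσ2
    have : ∏ i, N (σ i) i = 0 :=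
      Finset.prod_eq_zero (Finset.mem_univ a) (by rw [ha, hdiag])
    rw [this, smul_zero]

theorem univPolarMat_apply (n : ℕ) (i j : Fin n) :
    QuadGrp.univPolarMat n i j =
      if i = j then 2 * MvPolynomial.X (Sym2.mk i j) else MvPolynomial.X (Sym2.mk i j) := rfl

theorem univPolarMat_symm (n : ℕ) (i j : Fin n) :
    QuadGrp.univPolarMat n i j = QuadGrp.univPolarMat n j i := by
  rw [univPolarMat_apply, univPolarMat_apply]
  by_cases hij : i = j
  · subst hij; rfl
  · rw [if_neg hij, if_neg (Ne.symm hij), Sym2.eq_swap]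

theorem two_dvd_coeff_discUniv {n : ℕ} (hn : Odd n) (s : Sym2 (Fin n) →₀ ℕ) :
    (2 : ℤ) ∣ coeff s (QuadGrp.discUniv n) := by
  have h : MvPolynomial.map (Int.castRingHom (ZMod 2)) (QuadGrp.discUniv n) = 0 := by
    unfold QuadGrp.discUniv
    rw [RingHom.map_det]
    apply det_eq_zero_of_symm_zero_diag hn
    · intro i j
      simp only [RingHom.mapMatrix_apply, Matrix.map_apply]
      rw [univPolarMat_symm]
    · intro i
      simp only [RingHom.mapMatrix_apply, Matrix.map_apply]
      rw [univPolarMat_apply, if_pos rfl, map_mul]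
      have : (MvPolynomial.map (Int.castRingHom (ZMod 2))) (2 : MvPolynomial (Sym2 (Fin n)) ℤ) = 0 := by
        rw [map_ofNat]; exact CharTwo.two_eq_zero
      rw [this, zero_mul]
  have h2 := congrArg (coeff s) h
  rw [MvPolynomial.coeff_map, coeff_zero] at h2
  exact (ZMod.intCast_zmod_eq_zero_iff_dvd _ 2).mp h2

theorem two_mul_halfDiscUniv {n : ℕ} (hn : Odd n) :
    2 * QuadGrp.halfDiscUniv n = QuadGrp.discUniv n := by
  ext s
  rw [two_mul, coeff_add, QuadGrp.coeff_halfDiscUniv]
  obtain ⟨c, hc⟩ := two_dvd_coeff_discUniv hn s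
  rw [hc]; omega

theorem sum_sym {S : Type*} [CommRing S] {n : ℕ} (t : Fin n → Fin n → S)
    (ht : ∀ i j, t i j = t j i) :
    ∑ i, ∑ j, (if i = j then 2 else 1) * t i j =
      2 * ∑ i, ∑ j, (if i ≤ j then t i j else 0) := by
  rw [two_mul]
  conv_rhs => arg 2; rw [Finset.sum_comm]
  simp only [← Finset.sum_add_distrib]
  refine Finset.sum_congr rfl fun i _ => Finset.sum_congr rfl fun j _ => ?_
  rcases lt_trichotomy i j with h | h | h
  · rw [if_neg h.ne, if_pos h.le, if_neg (not_le.mpr h), one_mul, add_zero]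
  · subst h; rw [if_pos rfl, if_pos le_rfl, two_mul]
  · rw [if_neg h.ne', if_neg (not_le.mpr h), if_pos h.le, one_mul, zero_add, ht]

theorem halfDiscUniv_mem {n : ℕ} (hn : Odd n) :
    QuadGrp.halfDiscUniv n ∈ Ideal.span (Set.range fun ij : Fin n × Fin n =>
      (QuadGrp.univPolarMat n).adjugate ij.1 ij.2) := by
  classical
  obtain ⟨Pu, hPu⟩ : ∃ Pu, Pu = QuadGrp.univPolarMat n := ⟨_, rfl⟩
  rw [← hPu]
  obtain ⟨I, hI⟩ : ∃ I, I = Ideal.span (Set.range fun ij : Fin n × Fin n =>
      Pu.adjugate ij.1 ij.2) := ⟨_, rfl⟩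
  rw [← hI]
  have hC : ∀ i j, Pu.adjugate i j ∈ I := fun i j => hI ▸ Ideal.subset_span ⟨(i, j), rfl⟩
  have hPu_apply : ∀ i j, Pu i j =
      if i = j then 2 * MvPolynomial.X (Sym2.mk i j) else MvPolynomial.X (Sym2.mk i j) := by
    intro i j; rw [hPu]; rfl
  have hsymm : Pu.transpose = Pu := by
    ext i j
    rw [Matrix.transpose_apply, hPu, univPolarMat_symm]
  have hCsymm : ∀ i j, Pu.adjugate i j = Pu.adjugate j i := by
    intro i j
    have := Matrix.adjugate_transpose Pu
    rw [hsymm] at this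
    have h2 := congrFun (congrFun this j) i
    rw [Matrix.transpose_apply] at h2
    exact h2
  have hdet : Pu.det = 2 * QuadGrp.halfDiscUniv n := by
    rw [two_mul_halfDiscUniv hn, hPu]; rfl
  have htr : ∑ i, ∑ j, Pu i j * Pu.adjugate j i =
      (n : MvPolynomial (Sym2 (Fin n)) ℤ) * Pu.det := by
    have h := Matrix.mul_adjugate Pu
    have h2 := congrArg Matrix.trace h
    rw [Matrix.trace_smul, Matrix.trace_one, Fintype.card_fin, smul_eq_mul, mul_comm] at h2
    rw [← h2]
    simp only [Matrix.trace, Matrix.diag_apply, Matrix.mul_apply]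
  have hP : ∀ i j, Pu i j * Pu.adjugate j i =
      (if i = j then 2 else 1) * (MvPolynomial.X (Sym2.mk i j) * Pu.adjugate i j) := by
    intro i j
    rw [hCsymm j i, hPu_apply]
    by_cases hij : i = j
    · rw [if_pos hij, if_pos hij, mul_assoc]
    · rw [if_neg hij, if_neg hij, one_mul]
  have hEmem : (∑ i, ∑ j, (if i ≤ j then
      (MvPolynomial.X (Sym2.mk i j) * Pu.adjugate i j) else 0)) ∈ I := by
    refine Ideal.sum_mem _ fun i _ => Ideal.sum_mem _ fun j _ => ?_
    split_ifs
    · exact Ideal.mul_mem_left _ _ (hC i j)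
    · exact Ideal.zero_mem _
  have hEq : (n : MvPolynomial (Sym2 (Fin n)) ℤ) * QuadGrp.halfDiscUniv n =
      ∑ i, ∑ j, (if i ≤ j then (MvPolynomial.X (Sym2.mk i j) * Pu.adjugate i j) else 0) := by
    have h1 : ∑ i, ∑ j, Pu i j * Pu.adjugate j i =
        2 * ∑ i, ∑ j, (if i ≤ j then (MvPolynomial.X (Sym2.mk i j) * Pu.adjugate i j) else 0) := by
      rw [← sum_sym (fun i j => MvPolynomial.X (Sym2.mk i j) * Pu.adjugate i j)
        (fun i j => by rw [Sym2.eq_swap, hCsymm i j])]
      exact Finset.sum_congr rfl fun i _ => Finset.sum_congr rfl fun j _ => hP i j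
    rw [htr, hdet] at h1
    have h2 : (2 : MvPolynomial (Sym2 (Fin n)) ℤ) ≠ 0 := two_ne_zero
    apply mul_left_cancel₀ h2
    rw [← h1]; ring
  have hdetmem : Pu.det ∈ I := by
    have hpos : 0 < n := hn.pos
    have h := Matrix.mul_adjugate Pu
    have h2 := congrFun (congrFun h ⟨0, hpos⟩) ⟨0, hpos⟩
    rw [Matrix.mul_apply, Matrix.smul_apply, Matrix.one_apply_eq, smul_eq_mul, mul_one] at h2
    rw [← h2]
    exact Ideal.sum_mem _ fun j _ => Ideal.mul_mem_left _ _ (hC _ _)
  obtain ⟨k, hk⟩ := hn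
  have : QuadGrp.halfDiscUniv n = (n : MvPolynomial (Sym2 (Fin n)) ℤ) * QuadGrp.halfDiscUniv n -
      (k : MvPolynomial (Sym2 (Fin n)) ℤ) * Pu.det := by
    rw [hdet, hk]; push_cast; ring
  rw [this]
  exact Ideal.sub_mem _ (hEq ▸ hEmem) (Ideal.mul_mem_left _ _ hdetmem)

/-- Cramer-type cancellation: an alternating matrix killed by a symmetric matrix whose
`(n-1)`-minors generate the unit ideal vanishes. -/
theorem alt_eq_zero {R : Type*} [CommRing R] {n : ℕ} (P D : Matrix (Fin n) (Fin n) R)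
    (hP : P.transpose = P) (hDt : D.transpose = -D) (hDd : ∀ i, D i i = 0) (hDP : D * P = 0)
    (htop : Ideal.span (Set.range fun ij : Fin n × Fin n => P.adjugate ij.1 ij.2) = ⊤) :
    D = 0 := by
  classical
  have hPD : P * D = 0 := by
    have := congrArg Matrix.transpose hDP
    rw [Matrix.transpose_mul, hP, hDt, Matrix.transpose_zero, Matrix.mul_neg, neg_eq_zero] at this
    exact this
  have key : ∀ i j k l, (P.adjugate i j) ^ 2 * D k l = 0 := by
    intro i j k l
    obtain ⟨Pt, hPt⟩ : ∃ Pt, Pt = P.updateRow j (Pi.single i 1) := ⟨_, rfl⟩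
    have hC : P.adjugate i j = Pt.det := by rw [hPt, Matrix.adjugate_apply]
    have hPtD : ∀ a b, (Pt * D) a b = if a = j then D i b else 0 := by
      intro a b
      by_cases haj : a = j
      · rw [if_pos haj, hPt, Matrix.mul_apply, haj]
        simp only [Matrix.updateRow_self]
        simp [Pi.single_apply]
      · rw [if_neg haj, hPt, Matrix.mul_apply]
        simp only [Matrix.updateRow_ne haj]
        have := congrFun (congrFun hPD a) b
        rw [Matrix.mul_apply] at this
        simpa using this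
    have h1 : ∀ a b, Pt.det * D a b = Pt.adjugate a j * D i b := by
      intro a b
      have h := Matrix.adjugate_mul Pt
      have h2 : (Pt.adjugate * Pt * D) a b = Pt.det * D a b := by
        rw [h, Matrix.smul_mul, Matrix.one_mul, Matrix.smul_apply, smul_eq_mul]
      rw [← h2, Matrix.mul_assoc, Matrix.mul_apply]
      simp only [hPtD, mul_ite, mul_zero, Finset.sum_ite_eq', Finset.mem_univ, if_true]
    have h2 : ∀ b, Pt.det * D b i = 0 := by
      intro b
      rw [h1 b i, hDd, mul_zero]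
    have hanti : ∀ a b, D a b = - D b a := by
      intro a b
      have := congrFun (congrFun hDt b) a
      simpa using this
    have h3 : ∀ b, Pt.det * D i b = 0 := by
      intro b
      rw [hanti i b, mul_neg, h2 b, neg_zero]
    rw [hC, pow_two, mul_assoc, h1 k l, mul_left_comm, h3 l, mul_zero]
  ext k l
  rw [Matrix.zero_apply]
  have hpow := Ideal.span_pow_eq_top _ htop 2
  have hle : Ideal.span ((fun x : R => x ^ 2) '' (Set.range fun ij : Fin n × Fin n =>
      P.adjugate ij.1 ij.2)) ≤ LinearMap.ker (LinearMap.mulRight R (D k l)) := by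
    rw [Ideal.span_le]
    rintro _ ⟨_, ⟨ij, rfl⟩, rfl⟩
    simp only [SetLike.mem_coe, LinearMap.mem_ker, LinearMap.mulRight_apply]
    exact key ij.1 ij.2 k l
  rw [hpow] at hle
  have h1 : (1 : R) ∈ LinearMap.ker (LinearMap.mulRight R (D k l)) := hle Submodule.mem_top
  simpa using h1


section Spec

variable {R : Type*} [CommRing R] {n : ℕ}

/-- The specialisation homomorphism of the universal coefficients to those of `Q`. -/
noncomputable def spec (Q : QuadraticForm R (Fin n → R)) : MvPolynomial (Sym2 (Fin n)) ℤ →+* R :=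
  MvPolynomial.eval₂Hom (Int.castRingHom R)
    (QuadGrp.coeffs (Pi.basisFun R (Fin n)) (LinearEquiv.refl R R) Q)

theorem spec_halfDiscUniv (Q : QuadraticForm R (Fin n → R)) :
    spec Q (QuadGrp.halfDiscUniv n) =
      QuadGrp.halfDisc (Pi.basisFun R (Fin n)) (LinearEquiv.refl R R) Q := rfl

noncomputable def polarMat (Q : QuadraticForm R (Fin n → R)) : Matrix (Fin n) (Fin n) R :=
  Matrix.of fun i j => QuadraticMap.polar Q (Pi.single i 1) (Pi.single j 1)

theorem map_univPolarMat (Q : QuadraticForm R (Fin n → R)) :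
    (QuadGrp.univPolarMat n).map (spec Q) = polarMat Q := by
  ext i j
  rw [Matrix.map_apply, univPolarMat_apply, polarMat, Matrix.of_apply]
  by_cases hij : i = j
  · subst hij
    rw [if_pos rfl, map_mul, map_ofNat, spec, MvPolynomial.eval₂Hom_X', QuadGrp.coeffs_mk,
      if_pos rfl, QuadraticMap.polar_self, Pi.basisFun_apply, LinearEquiv.refl_apply, two_mul,
      two_nsmul]
  · rw [if_neg hij, spec, MvPolynomial.eval₂Hom_X', QuadGrp.coeffs_mk, if_neg hij,
      Pi.basisFun_apply, Pi.basisFun_apply, LinearEquiv.refl_apply]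

theorem span_adj_polarMat (hn : Odd n) (Q : QuadraticForm R (Fin n → R))
    (hQ : IsUnit (QuadGrp.halfDisc (Pi.basisFun R (Fin n)) (LinearEquiv.refl R R) Q)) :
    Ideal.span (Set.range fun ij : Fin n × Fin n => (polarMat Q).adjugate ij.1 ij.2) = ⊤ := by
  have h2 := Ideal.mem_map_of_mem (spec Q) (halfDiscUniv_mem hn)
  rw [Ideal.map_span, spec_halfDiscUniv] at h2
  have h3 : Ideal.span ((spec Q) '' Set.range fun ij : Fin n × Fin n =>
        (QuadGrp.univPolarMat n).adjugate ij.1 ij.2) ≤
      Ideal.span (Set.range fun ij : Fin n × Fin n => (polarMat Q).adjugate ij.1 ij.2) := by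
    apply Ideal.span_mono
    rintro _ ⟨_, ⟨ij, rfl⟩, rfl⟩
    refine ⟨ij, ?_⟩
    have h := RingHom.map_adjugate (spec Q) (QuadGrp.univPolarMat n)
    have h4 := congrFun (congrFun h ij.1) ij.2
    rw [RingHom.mapMatrix_apply, RingHom.mapMatrix_apply, Matrix.map_apply,
      map_univPolarMat] at h4
    exact h4.symm
  exact Ideal.eq_top_of_isUnit_mem _ (h3 h2) hQ

theorem polar_sum (Q : QuadraticForm R (Fin n → R)) (u y : Fin n → R) :
    QuadraticMap.polar Q u y = ∑ b, u b * QuadraticMap.polar Q (Pi.single b 1) y := by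
  classical
  have h1 : u = ∑ b, u b • (Pi.single b (1:R) : Fin n → R) := by
    funext k
    simp [Finset.sum_apply, Pi.single_apply]
  have h2 : ∀ z, QuadraticMap.polar Q z y = (QuadraticMap.polarBilin Q).flip y z := fun z => rfl
  conv_lhs => rw [h1]
  rw [h2, map_sum]
  refine Finset.sum_congr rfl fun b _ => ?_
  rw [map_smul, smul_eq_mul, ← h2]

/-- The alternating matrix `v uᵀ - u vᵀ`. -/
def altMat (u v : Fin n → R) : Matrix (Fin n) (Fin n) R :=
  Matrix.of fun a b => v a * u b - u a * v b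

theorem altMat_mul_polarMat (Q : QuadraticForm R (Fin n → R)) (u v : Fin n → R) (a l : Fin n) :
    (altMat u v * polarMat Q) a l = H8OC.Y Q u v (Pi.single l 1) a := by
  rw [Matrix.mul_apply, H8OC.Y_apply, polar_sum Q u, polar_sum Q v]
  simp only [Pi.sub_apply, Pi.smul_apply, smul_eq_mul]
  rw [Finset.sum_mul, Finset.sum_mul, ← Finset.sum_sub_distrib]
  refine Finset.sum_congr rfl fun b _ => ?_
  simp only [altMat, polarMat, Matrix.of_apply]
  ring

theorem minors_of_dag (Q : QuadraticForm R (Fin n → R))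
    (htop : Ideal.span (Set.range fun ij : Fin n × Fin n =>
      (polarMat Q).adjugate ij.1 ij.2) = ⊤)
    (g : (Fin n → R) ≃ₗ[R] (Fin n → R)) (hgO : g ∈ QuadGrp.O Q)
    (hdag : ∀ u v x : Fin n → R, g (H8OC.Y Q u v x) = H8OC.Y Q u v (g x))
    (u v : Fin n → R) (a b : Fin n) :
    g v a * g u b - g u a * g v b = v a * u b - u a * v b := by
  have hgO' : ∀ w, Q (g w) = Q w := hgO
  have hpol : ∀ x y, QuadraticMap.polar Q (g x) (g y) = QuadraticMap.polar Q x y := by
    intro x y
    unfold QuadraticMap.polar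
    rw [← map_add g x y, hgO', hgO', hgO']
  have hB : ∀ x, H8OC.Y Q (g u) (g v) x = H8OC.Y Q u v x := by
    intro x
    obtain ⟨y, rfl⟩ := g.surjective x
    rw [← hdag u v y, H8OC.Y_apply, H8OC.Y_apply, hpol, hpol, map_sub, map_smul, map_smul]
  have hD : altMat (g u) (g v) - altMat u v = 0 := by
    apply alt_eq_zero (polarMat Q) _ ?_ ?_ ?_ ?_ htop
    · ext i j
      simp only [Matrix.transpose_apply, polarMat, Matrix.of_apply]
      exact QuadraticMap.polar_comm _ _ _
    · ext i j
      simp only [Matrix.transpose_apply, Matrix.sub_apply, Matrix.neg_apply, altMat,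
        Matrix.of_apply]
      ring
    · intro i
      simp only [Matrix.sub_apply, altMat, Matrix.of_apply]
      ring
    · rw [Matrix.sub_mul, sub_eq_zero]
      ext a l
      rw [altMat_mul_polarMat, altMat_mul_polarMat, hB]
  have := congrFun (congrFun hD a) b
  simp only [Matrix.sub_apply, altMat, Matrix.of_apply, Matrix.zero_apply] at this
  exact sub_eq_zero.mp this

theorem scalar_of_minors (hn : 3 ≤ n) (g : (Fin n → R) ≃ₗ[R] (Fin n → R))
    (hmin : ∀ (u v : Fin n → R) (a b : Fin n),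
      g v a * g u b - g u a * g v b = v a * u b - u a * v b) :
    ∃ c : R, c * c = 1 ∧ ∀ v, g v = c • v := by
  classical
  obtain ⟨e, he⟩ : ∃ e : Fin n → (Fin n → R), e = fun j => Pi.single j 1 := ⟨_, rfl⟩
  have he_same : ∀ j, e j j = 1 := by intro j; rw [he]; simp
  have he_ne : ∀ j k, k ≠ j → e j k = 0 := by intro j k hkj; rw [he]; simp [hkj]
  obtain ⟨G, hG⟩ : ∃ G : Fin n → Fin n → R, G = fun a i => g (e i) a := ⟨_, rfl⟩
  have hGdef : ∀ a i, g (e i) a = G a i := by intro a i; rw [hG]
  have Mid : ∀ a b i j, G a j * G b i - G a i * G b j = e j a * e i b - e i a * e j b := by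
    intro a b i j
    rw [← hGdef, ← hGdef, ← hGdef, ← hGdef]
    exact hmin (e i) (e j) a b
  have hoff : ∀ a i, a ≠ i → G a i = 0 := by
    intro a i hai
    obtain ⟨j, hja, hji⟩ := Groth.Agent.S17006.exists_ne_ne hn a i
    have h1 := Mid a j i j
    have h2 := Mid a i i j
    have h3 := Mid i j i j
    rw [he_ne j a (Ne.symm hja), he_ne i a hai, zero_mul, zero_mul, sub_zero] at h1 h2
    rw [he_ne j i (Ne.symm hji), he_same, he_same, zero_mul, mul_one, zero_sub] at h3
    linear_combination (G a i) * h3 - (G i i) * h1 + (G j i) * h2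
  have hdd : ∀ i j, i ≠ j → G i i * G j j = 1 := by
    intro i j hij
    have h3 := Mid i j i j
    rw [he_ne j i hij, he_same, he_same, zero_mul, mul_one, zero_sub, hoff i j hij, zero_mul,
      zero_sub] at h3
    linear_combination -h3
  have hn0 : 0 < n := by omega
  obtain ⟨c, hc⟩ : ∃ c : R, c = G ⟨0, hn0⟩ ⟨0, hn0⟩ := ⟨_, rfl⟩
  have heq : ∀ i j, i ≠ j → G i i = G j j := by
    intro i j hij
    obtain ⟨k, hki, hkj⟩ := Groth.Agent.S17006.exists_ne_ne hn i j
    have h_ik := hdd i k (Ne.symm hki)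
    have h_jk := hdd j k (Ne.symm hkj)
    linear_combination (-G i i) * h_jk + (G j j) * h_ik
  have hlam : ∀ j, G j j = c := by
    intro j
    by_cases hj : j = ⟨0, hn0⟩
    · rw [hc, hj]
    · rw [hc]; exact heq j _ hj
  have hcc : c * c = 1 := by
    obtain ⟨k, hk0, _⟩ := Groth.Agent.S17006.exists_ne_ne hn ⟨0, hn0⟩ ⟨0, hn0⟩
    have := hdd k ⟨0, hn0⟩ hk0
    rw [hlam, hlam] at this
    exact this
  have hge : ∀ j : Fin n, g (e j) = c • e j := by
    intro j
    funext k
    by_cases hkj : k = j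
    · rw [hkj, hGdef, hlam, Pi.smul_apply, he_same, smul_eq_mul, mul_one]
    · rw [hGdef, hoff k j hkj, Pi.smul_apply, he_ne j k hkj, smul_zero]
  have hgv : ∀ v, g v = c • v := by
    have : g.toLinearMap = c • LinearMap.id := by
      apply LinearMap.pi_ext
      intro i x
      have hx : (Pi.single i x : Fin n → R) = x • e i := by
        rw [he]; funext k; simp [Pi.single_apply]
      rw [hx]
      simp only [LinearEquiv.coe_coe, map_smul, hge, LinearMap.smul_apply, LinearMap.id_apply]
    intro v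
    have := LinearMap.congr_fun this v
    simpa using this
  exact ⟨c, hcc, hgv⟩

theorem scalar_of_comm_odd (hn : 3 ≤ n) (ho : Odd n) (Q : QuadraticForm R (Fin n → R))
    (hQ : IsUnit (QuadGrp.halfDisc (Pi.basisFun R (Fin n)) (LinearEquiv.refl R R) Q))
    (g : (Fin n → R) ≃ₗ[R] (Fin n → R)) (hgO : g ∈ QuadGrp.O Q)
    (hdag : ∀ u v x : Fin n → R, g (H8OC.Y Q u v x) = H8OC.Y Q u v (g x)) :
    ∃ c : R, c * c = 1 ∧ ∀ v, g v = c • v :=
  scalar_of_minors hn g (minors_of_dag Q (span_adj_polarMat ho Q hQ) g hgO hdag)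

end Spec

section Det

variable {A : Type*} [CommRing A] {N : Type*} [AddCommGroup N] [Module A N]

theorem det_id_add_eps_smul {ι : Type*} [Fintype ι] [DecidableEq ι] (bN : Module.Basis ι A N)
    (ε : A) (hε : ε * ε = 0) (f : N →ₗ[A] N) :
    LinearMap.det (LinearMap.id + ε • f) = 1 + LinearMap.trace A N f * ε := by
  rw [← LinearMap.det_toMatrix bN, map_add, LinearMap.toMatrix_id, map_smul,
    Matrix.det_one_add_smul, LinearMap.trace_eq_matrix_trace A bN f, pow_two, hε, mul_zero,
    add_zero]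

theorem trace_smulRight' {ι : Type*} [Fintype ι] [DecidableEq ι] (bN : Module.Basis ι A N)
    (f : N →ₗ[A] A) (x : N) :
    LinearMap.trace A N (f.smulRight x) = f x := by
  haveI : Module.Free A N := Module.Free.of_basis bN
  haveI : Module.Finite A N := Module.Finite.of_basis bN
  have h : f.smulRight x = dualTensorHom A N N (f ⊗ₜ[A] x) := by
    ext y
    rw [dualTensorHom_apply, LinearMap.smulRight_apply]
  rw [h, LinearMap.trace_eq_contract_apply, contractLeft_apply]

theorem trace_Y {ι : Type*} [Fintype ι] [DecidableEq ι] (bN : Module.Basis ι A N)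
    (Q : QuadraticForm A N) (a b : N) :
    LinearMap.trace A N (H8OC.Y Q a b) = 0 := by
  unfold H8OC.Y
  rw [map_sub, trace_smulRight' bN, trace_smulRight' bN]
  show QuadraticMap.polar Q a b - QuadraticMap.polar Q b a = 0
  rw [QuadraticMap.polar_comm, sub_self]

theorem det_hEquiv {ι : Type*} [Fintype ι] [DecidableEq ι] (bN : Module.Basis ι A N)
    (Q : QuadraticForm A N) (ε : A) (hε : ε * ε = 0) (a b : N) :
    LinearEquiv.det (H8OC.hEquiv Q ε hε a b) = 1 := by
  apply Units.ext
  rw [LinearEquiv.coe_det, Units.val_one]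
  have h : (↑(H8OC.hEquiv Q ε hε a b) : N →ₗ[A] N) = LinearMap.id + ε • H8OC.Y Q a b := rfl
  rw [h, det_id_add_eps_smul bN ε hε, trace_Y bN, zero_mul, add_zero]

end Det

section Mem

open scoped TensorProduct

universe u

variable {R : Type u} [CommRing R] {n : ℕ}

theorem hE_mem_orth (Q : QuadraticForm R (Fin n → R)) (A : Type*) [CommRing A] [Algebra R A]
    (ε : A) (hε : ε * ε = 0) (a b : A ⊗[R] (Fin n → R)) :
    H8OC.hEquiv (QuadGrp.baseChangeForm A Q) ε hε a b ∈ QuadGrp.orth Q A := by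
  show _ ∈ QuadGrp.O (QuadGrp.baseChange A Q)
  rw [QuadGrp.mem_O]
  intro v
  have h := H8OC.hEquiv_mem_O (QuadGrp.baseChangeForm A Q) ε hε a b v
  exact (TensorProduct.AlgebraTensorModule.rid R A A).injective h

theorem hE_mem_sorth' (Q : QuadraticForm R (Fin n → R)) (A : Type*) [CommRing A] [Algebra R A]
    (ε : A) (hε : ε * ε = 0) (a b : A ⊗[R] (Fin n → R)) :
    H8OC.hEquiv (QuadGrp.baseChangeForm A Q) ε hε a b ∈ QuadGrp.sorth' Q A := by
  show _ ∈ QuadGrp.O (QuadGrp.baseChange A Q) ⊓
    (LinearEquiv.det (R := A) (M := A ⊗[R] (Fin n → R))).ker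
  rw [Subgroup.mem_inf, MonoidHom.mem_ker]
  exact ⟨hE_mem_orth Q A ε hε a b,
    det_hEquiv (Algebra.TensorProduct.basis A (Pi.basisFun R (Fin n))) _ ε hε a b⟩

theorem dag_of_comm_hE (Q : QuadraticForm R (Fin n → R))
    (g : (Fin n → R) ≃ₗ[R] (Fin n → R))
    (hcomm : ∀ u v : Fin n → R,
      g.baseChange R (DualNumber R) (Fin n → R) (Fin n → R) *
        H8OC.hEquiv (QuadGrp.baseChangeForm (DualNumber R) Q) DualNumber.eps
          DualNumber.eps_mul_eps ((1 : DualNumber R) ⊗ₜ[R] u) ((1 : DualNumber R) ⊗ₜ[R] v) =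
      H8OC.hEquiv (QuadGrp.baseChangeForm (DualNumber R) Q) DualNumber.eps
          DualNumber.eps_mul_eps ((1 : DualNumber R) ⊗ₜ[R] u) ((1 : DualNumber R) ⊗ₜ[R] v) *
        g.baseChange R (DualNumber R) (Fin n → R) (Fin n → R)) :
    ∀ u v x : Fin n → R, g (H8OC.Y Q u v x) = H8OC.Y Q u v (g x) := by
  intro u v x
  have h1 := hcomm u v
  have h2 := LinearEquiv.congr_fun h1 ((1 : DualNumber R) ⊗ₜ[R] x)
  simp only [LinearEquiv.mul_apply, H8OC.hEquiv_apply, LinearEquiv.baseChange_tmul,
    Groth.Agent.S17006.YA_tmul, map_add, map_smul] at h2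
  have h3 := add_left_cancel h2
  have h4 := congrArg (Groth.Agent.S17006.theta (Fin n → R)) h3
  rwa [Groth.Agent.S17006.theta_eps_smul, Groth.Agent.S17006.theta_eps_smul] at h4

end Mem

end H8OC2
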