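import Mathlib
import Groth.Prelude.Def_QuadGrp
import Groth.Agent.Lib.helper8.OrthCenterLib2

/-!
helper8: transformation rule of the half-discriminant under a linear substitution
(universal identity over `ℤ[a, t]`, specialised).
-/

namespace H8HD

open MvPolynomial

section Generic

variable {S : Type*} [CommRing S] {n : ℕ}

theorem sum_le_sym (f : Fin n → Fin n → S) :
    ∑ k, ∑ l, f k l =
      ∑ k, ∑ l, (if k ≤ l then (if k = l then f k k else f k l + f l k) else 0) := by
  have h : ∑ k, ∑ l, f k l =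
      ∑ k, ∑ l, ((if k ≤ l then f k l else 0) + (if l < k then f k l else 0)) := by
    refine Finset.sum_congr rfl fun k _ => Finset.sum_congr rfl fun l _ => ?_
    by_cases hkl : k ≤ l
    · rw [if_pos hkl, if_neg (not_lt.mpr hkl), add_zero]
    · rw [if_neg hkl, if_pos (not_le.mp hkl), zero_add]
  rw [h]
  simp only [Finset.sum_add_distrib]
  conv_lhs => arg 2; rw [Finset.sum_comm]
  simp only [← Finset.sum_add_distrib]
  refine Finset.sum_congr rfl fun k _ => Finset.sum_congr rfl fun l _ => ?_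
  rcases lt_trichotomy k l with h | h | h
  · rw [if_pos h.le, if_pos h, if_pos h.le, if_neg h.ne]
  · subst h; simp
  · rw [if_neg (not_le.mpr h), if_neg (not_lt.mpr h.le), if_neg (not_le.mpr h), add_zero]

/-- The polar matrix attached to a coefficient function. -/
def polarOf (a : Sym2 (Fin n) → S) : Matrix (Fin n) (Fin n) S :=
  Matrix.of fun k l => if k = l then 2 * a s(k, l) else a s(k, l)

theorem polarOf_apply (a : Sym2 (Fin n) → S) (k l : Fin n) :
    polarOf a k l = if k = l then 2 * a s(k, l) else a s(k, l) := rfl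

theorem polarOf_symm (a : Sym2 (Fin n) → S) (k l : Fin n) : polarOf a k l = polarOf a l k := by
  rw [polarOf_apply, polarOf_apply]
  by_cases h : k = l
  · subst h; rfl
  · rw [if_neg h, if_neg (Ne.symm h), Sym2.eq_swap]

theorem map_univPolarMat_eq (a : Sym2 (Fin n) → S) :
    (QuadGrp.univPolarMat n).map (eval₂Hom (Int.castRingHom S) a) = polarOf a := by
  ext k l
  rw [Matrix.map_apply, H8OC2.univPolarMat_apply, polarOf_apply]
  by_cases h : k = l
  · rw [if_pos h, if_pos h, map_mul, map_ofNat, eval₂Hom_X']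
  · rw [if_neg h, if_neg h, eval₂Hom_X']

theorem eval₂_discUniv (a : Sym2 (Fin n) → S) :
    eval₂ (Int.castRingHom S) a (QuadGrp.discUniv n) = (polarOf a).det := by
  rw [← map_univPolarMat_eq]
  show (eval₂Hom (Int.castRingHom S) a) (QuadGrp.univPolarMat n).det = _
  rw [RingHom.map_det]
  rfl

/-- The diagonal coefficients of the transformed form. -/
def diagOf (a : Sym2 (Fin n) → S) (T : Matrix (Fin n) (Fin n) S) (i : Fin n) : S :=
  ∑ k, ∑ l, if k ≤ l then a s(k, l) * T k i * T l i else 0

theorem conj_symm (a : Sym2 (Fin n) → S) (T : Matrix (Fin n) (Fin n) S) (i j : Fin n) :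
    (T.transpose * polarOf a * T) i j = (T.transpose * polarOf a * T) j i := by
  have hP : (polarOf a).transpose = polarOf a := by
    ext k l; exact polarOf_symm a l k
  have : (T.transpose * polarOf a * T).transpose = T.transpose * polarOf a * T := by
    rw [Matrix.transpose_mul, Matrix.transpose_mul, Matrix.transpose_transpose, hP,
      Matrix.mul_assoc]
  have h2 := congrFun (congrFun this j) i
  rw [Matrix.transpose_apply] at h2
  exact h2

theorem conj_apply (P T : Matrix (Fin n) (Fin n) S) (i j : Fin n) :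
    (T.transpose * P * T) i j = ∑ k, ∑ l, T k i * P k l * T l j := by
  rw [Matrix.mul_apply]
  simp only [Matrix.mul_apply, Matrix.transpose_apply, Finset.sum_mul]
  rw [Finset.sum_comm]

theorem diag_conj (a : Sym2 (Fin n) → S) (T : Matrix (Fin n) (Fin n) S) (i : Fin n) :
    (T.transpose * polarOf a * T) i i = 2 * diagOf a T i := by
  rw [conj_apply, sum_le_sym, diagOf, Finset.mul_sum]
  refine Finset.sum_congr rfl fun k _ => ?_
  rw [Finset.mul_sum]
  refine Finset.sum_congr rfl fun l _ => ?_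
  by_cases hkl : k ≤ l
  · rw [if_pos hkl, if_pos hkl]
    by_cases h : k = l
    · subst h
      rw [if_pos rfl, polarOf_apply, if_pos rfl]
      ring
    · rw [if_neg h, polarOf_apply, polarOf_apply, if_neg h, if_neg (Ne.symm h),
        Sym2.eq_swap (a := l)]
      ring
  · rw [if_neg hkl, if_neg hkl, mul_zero]

/-- The coefficient function of the transformed form. -/
def cOf (a : Sym2 (Fin n) → S) (T : Matrix (Fin n) (Fin n) S) : Sym2 (Fin n) → S :=
  Sym2.lift ⟨fun i j => if i = j then diagOf a T i else (T.transpose * polarOf a * T) i j,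
    fun i j => by
      by_cases h : i = j
      · subst h; rfl
      · dsimp only
        rw [if_neg h, if_neg (Ne.symm h)]
        exact conj_symm a T i j⟩

theorem cOf_mk (a : Sym2 (Fin n) → S) (T : Matrix (Fin n) (Fin n) S) (i j : Fin n) :
    cOf a T s(i, j) =
      if i = j then diagOf a T i else (T.transpose * polarOf a * T) i j := rfl

theorem polarOf_cOf (a : Sym2 (Fin n) → S) (T : Matrix (Fin n) (Fin n) S) :
    polarOf (cOf a T) = T.transpose * polarOf a * T := by
  ext i j
  rw [polarOf_apply, cOf_mk]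
  by_cases h : i = j
  · subst h; rw [if_pos rfl, if_pos rfl, diag_conj]
  · rw [if_neg h, if_neg h]

theorem disc_cOf (a : Sym2 (Fin n) → S) (T : Matrix (Fin n) (Fin n) S) :
    eval₂ (Int.castRingHom S) (cOf a T) (QuadGrp.discUniv n) =
      T.det ^ 2 * eval₂ (Int.castRingHom S) a (QuadGrp.discUniv n) := by
  rw [eval₂_discUniv, eval₂_discUniv, polarOf_cOf, Matrix.det_mul, Matrix.det_mul,
    Matrix.det_transpose]
  ring

theorem two_mul_eval₂_halfDiscUniv (hn : Odd n) (c : Sym2 (Fin n) → S) :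
    2 * eval₂ (Int.castRingHom S) c (QuadGrp.halfDiscUniv n) =
      eval₂ (Int.castRingHom S) c (QuadGrp.discUniv n) := by
  rw [← H8OC2.two_mul_halfDiscUniv hn, eval₂_mul]
  congr 1
  exact (map_ofNat (eval₂Hom (Int.castRingHom S) c) 2).symm

theorem halfDisc_cOf [IsDomain S] [CharZero S] (hn : Odd n) (a : Sym2 (Fin n) → S)
    (T : Matrix (Fin n) (Fin n) S) :
    eval₂ (Int.castRingHom S) (cOf a T) (QuadGrp.halfDiscUniv n) =
      T.det ^ 2 * eval₂ (Int.castRingHom S) a (QuadGrp.halfDiscUniv n) := by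
  have h2 : (2 : S) ≠ 0 := two_ne_zero
  apply mul_left_cancel₀ h2
  rw [two_mul_eval₂_halfDiscUniv hn, mul_left_comm, two_mul_eval₂_halfDiscUniv hn, disc_cOf]

theorem map_eval₂_int {S' : Type*} [CommRing S'] {σ : Type*} (ψ : S →+* S') (c : σ → S)
    (p : MvPolynomial σ ℤ) :
    ψ (eval₂ (Int.castRingHom S) c p) = eval₂ (Int.castRingHom S') (fun s => ψ (c s)) p := by
  rw [eval₂_comp_left]
  congr 1
  exact RingHom.ext_int _ _

theorem map_diagOf {S' : Type*} [CommRing S'] (ψ : S →+* S') (a : Sym2 (Fin n) → S)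
    (T : Matrix (Fin n) (Fin n) S) (i : Fin n) :
    ψ (diagOf a T i) = diagOf (fun s => ψ (a s)) (T.map ψ) i := by
  simp only [diagOf, map_sum, apply_ite ψ, map_mul, map_zero, Matrix.map_apply]

theorem map_polarOf {S' : Type*} [CommRing S'] (ψ : S →+* S') (a : Sym2 (Fin n) → S) :
    (polarOf a).map ψ = polarOf (fun s => ψ (a s)) := by
  ext k l
  simp only [Matrix.map_apply, polarOf_apply, apply_ite ψ, map_mul, map_ofNat]

theorem map_conj {S' : Type*} [CommRing S'] (ψ : S →+* S') (P T : Matrix (Fin n) (Fin n) S)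
    (i j : Fin n) :
    ψ ((T.transpose * P * T) i j) = ((T.map ψ).transpose * P.map ψ * T.map ψ) i j := by
  rw [conj_apply, conj_apply]
  simp only [map_sum, map_mul, Matrix.map_apply]

end Generic

section Module

variable {R : Type*} [CommRing R] {M : Type*} [AddCommGroup M] [Module R M] {n : ℕ}

theorem bilin_sum_sum (B : M →ₗ[R] M →ₗ[R] R) (b : Fin n → M) (x y : Fin n → R) :
    B (∑ k, x k • b k) (∑ l, y l • b l) = ∑ k, ∑ l, x k * y l * B (b k) (b l) := by
  have h1 : B (∑ k, x k • b k) = ∑ k, B (x k • b k) := map_sum B _ _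
  rw [h1, LinearMap.sum_apply]
  refine Finset.sum_congr rfl fun k _ => ?_
  rw [map_sum]
  refine Finset.sum_congr rfl fun l _ => ?_
  simp only [map_smul, LinearMap.smul_apply, smul_eq_mul]
  ring

theorem polarOf_coeffs (b : Module.Basis (Fin n) R M) (Q : QuadraticForm R M) (k l : Fin n) :
    polarOf (QuadGrp.coeffs b (LinearEquiv.refl R R) Q) k l = QuadraticMap.polar Q (b k) (b l) := by
  rw [polarOf_apply, QuadGrp.coeffs_mk]
  by_cases h : k = l
  · subst h
    rw [if_pos rfl, if_pos rfl, QuadraticMap.polar_self, LinearEquiv.refl_apply, two_mul,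
      two_nsmul]
  · rw [if_neg h, if_neg h, LinearEquiv.refl_apply]

theorem apply_basis_eq_sum (b : Module.Basis (Fin n) R M) (g : M →ₗ[R] M) (i : Fin n) :
    g (b i) = ∑ k, LinearMap.toMatrix b b g k i • b k := by
  simp only [LinearMap.toMatrix_apply]
  exact (b.sum_repr (g (b i))).symm

/-- Off-diagonal coefficients of `Q ∘ g`. -/
theorem polar_comp_basis (b : Module.Basis (Fin n) R M) (Q : QuadraticForm R M) (g : M →ₗ[R] M)
    (i j : Fin n) :
    QuadraticMap.polar (Q.comp g) (b i) (b j) =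
      ((LinearMap.toMatrix b b g).transpose * polarOf (QuadGrp.coeffs b (LinearEquiv.refl R R) Q) *
        LinearMap.toMatrix b b g) i j := by
  have h1 : QuadraticMap.polar (Q.comp g) (b i) (b j) =
      QuadraticMap.polarBilin Q (g (b i)) (g (b j)) := by
    simp only [QuadraticMap.polar, QuadraticMap.comp_apply, map_add,
      QuadraticMap.polarBilin_apply_apply]
  rw [h1, apply_basis_eq_sum b g i, apply_basis_eq_sum b g j, bilin_sum_sum, conj_apply]
  refine Finset.sum_congr rfl fun k _ => Finset.sum_congr rfl fun l _ => ?_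
  rw [polarOf_coeffs, QuadraticMap.polarBilin_apply_apply]
  ring

/-- Diagonal coefficients of `Q ∘ g`. -/
theorem apply_comp_basis (b : Module.Basis (Fin n) R M) (Q : QuadraticForm R M) (g : M →ₗ[R] M)
    (i : Fin n) :
    Q (g (b i)) =
      diagOf (QuadGrp.coeffs b (LinearEquiv.refl R R) Q) (LinearMap.toMatrix b b g) i := by
  have : Module.Free R M := Module.Free.of_basis b
  obtain ⟨B, hB⟩ := LinearMap.BilinMap.toQuadraticMap_surjective Q
  have hQB : ∀ x, Q x = B x x := by
    intro x; rw [← hB]; rfl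
  have hpolB : ∀ x y, QuadraticMap.polar Q x y = B x y + B y x := by
    intro x y; rw [← hB]; exact LinearMap.BilinMap.polar_toQuadraticMap x y
  rw [hQB, apply_basis_eq_sum b g i, bilin_sum_sum, sum_le_sym, diagOf]
  refine Finset.sum_congr rfl fun k _ => Finset.sum_congr rfl fun l _ => ?_
  by_cases hkl : k ≤ l
  · rw [if_pos hkl, if_pos hkl, QuadGrp.coeffs_mk]
    by_cases h : k = l
    · subst h
      rw [if_pos rfl, if_pos rfl, LinearEquiv.refl_apply, hQB]
      ring
    · rw [if_neg h, if_neg h, LinearEquiv.refl_apply, hpolB]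
      ring
  · rw [if_neg hkl, if_neg hkl]

end Module

section Main

variable {R : Type*} [CommRing R] {M : Type*} [AddCommGroup M] [Module R M] {n : ℕ}

theorem halfDisc_comp (hn : Odd n) (b : Module.Basis (Fin n) R M) (Q : QuadraticForm R M)
    (g : M →ₗ[R] M) :
    QuadGrp.halfDisc b (LinearEquiv.refl R R) (Q.comp g) =
      LinearMap.det g ^ 2 * QuadGrp.halfDisc b (LinearEquiv.refl R R) Q := by
  classical
  obtain ⟨aU, haU⟩ : ∃ aU : Sym2 (Fin n) → MvPolynomial (Sym2 (Fin n) ⊕ (Fin n × Fin n)) ℤ,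
      aU = fun s => X (Sum.inl s) := ⟨_, rfl⟩
  obtain ⟨TU, hTU⟩ : ∃ TU : Matrix (Fin n) (Fin n)
      (MvPolynomial (Sym2 (Fin n) ⊕ (Fin n × Fin n)) ℤ),
      TU = Matrix.of fun k l => X (Sum.inr (k, l)) := ⟨_, rfl⟩
  obtain ⟨G, hG⟩ : ∃ G, G = LinearMap.toMatrix b b g := ⟨_, rfl⟩
  obtain ⟨ψ, hψ⟩ : ∃ ψ : MvPolynomial (Sym2 (Fin n) ⊕ (Fin n × Fin n)) ℤ →+* R,
      ψ = eval₂Hom (Int.castRingHom R)
        (Sum.elim (QuadGrp.coeffs b (LinearEquiv.refl R R) Q) (fun kl => G kl.1 kl.2)) := ⟨_, rfl⟩
  have hψa : ∀ s, ψ (aU s) = QuadGrp.coeffs b (LinearEquiv.refl R R) Q s := by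
    intro s; rw [hψ, haU, eval₂Hom_X', Sum.elim_inl]
  have hψT : TU.map ψ = G := by
    ext k l
    rw [Matrix.map_apply, hTU, Matrix.of_apply, hψ, eval₂Hom_X', Sum.elim_inr]
  have hψa' : (fun s => ψ (aU s)) = QuadGrp.coeffs b (LinearEquiv.refl R R) Q := funext hψa
  have hψc : ∀ s, ψ (cOf aU TU s) = QuadGrp.coeffs b (LinearEquiv.refl R R) (Q.comp g) s := by
    intro s
    induction s using Sym2.ind with
    | _ i j =>
      rw [cOf_mk, QuadGrp.coeffs_mk, apply_ite ψ, map_diagOf, map_conj, map_polarOf, hψT, hψa',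
        LinearEquiv.refl_apply, LinearEquiv.refl_apply, QuadraticMap.comp_apply, hG,
        ← apply_comp_basis, ← polar_comp_basis]
  have hU := halfDisc_cOf hn aU TU
  have h1 := congrArg ψ hU
  rw [map_eval₂_int, map_mul, map_pow, map_eval₂_int, RingHom.map_det, hψa',
    RingHom.mapMatrix_apply, hψT, funext hψc] at h1
  rw [← LinearMap.det_toMatrix b g, ← hG]
  exact h1

end Main

end H8HD
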