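import Mathlib

open CategoryTheory CategoryTheory.Limits

namespace H8HE

universe v u
variable {R : Type u} [Ring R] {ι : Type*} {c : ComplexShape ι}

section single
variable (K : HomologicalComplex (ModuleCat.{v} R) c) (i j k : ι)

theorem iCycles_inj : Function.Injective (K.iCycles j).hom :=
  (ModuleCat.mono_iff_injective (K.iCycles j)).mp inferInstance

theorem pi_surj : Function.Surjective (K.homologyπ j).hom :=
  (ModuleCat.epi_iff_surjective (K.homologyπ j)).mp inferInstance

theorem lift_cycle (hk : c.next j = k) (x : K.X j) (hx : (K.d j k).hom x = 0) :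
    ∃ z : K.cycles j, (K.iCycles j).hom z = x := by
  have hex : (ShortComplex.mk (K.iCycles j) (K.d j k) (K.iCycles_d j k)).Exact :=
    ShortComplex.exact_of_f_is_kernel _ (K.cyclesIsKernel j k hk)
  rw [ShortComplex.moduleCat_exact_iff] at hex
  exact hex x hx

theorem boundary_of_pi_zero (hi : c.prev j = i) (z : K.cycles j)
    (hz : (K.homologyπ j).hom z = 0) : ∃ y : K.X i, (K.toCycles i j).hom y = z := by
  have hex : (ShortComplex.mk (K.toCycles i j) (K.homologyπ j)
      (K.toCycles_comp_homologyπ i j)).Exact :=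
    ShortComplex.exact_of_g_is_cokernel _ (K.homologyIsCokernel i j hi)
  rw [ShortComplex.moduleCat_exact_iff] at hex
  exact hex z hz

theorem toCycles_i_apply (y : K.X i) :
    (K.iCycles j).hom ((K.toCycles i j).hom y) = (K.d i j).hom y := by
  have h := congrArg (fun φ => φ.hom y) (K.toCycles_i i j)
  simpa only [ModuleCat.hom_comp, LinearMap.comp_apply] using h

theorem iCycles_d_apply (z : K.cycles j) : (K.d j k).hom ((K.iCycles j).hom z) = 0 := by
  have h := congrArg (fun φ => φ.hom z) (K.iCycles_d j k)
  simpa only [ModuleCat.hom_comp, LinearMap.comp_apply, ModuleCat.hom_zero,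
    LinearMap.zero_apply] using h

theorem pi_toCycles_apply (y : K.X i) :
    (K.homologyπ j).hom ((K.toCycles i j).hom y) = 0 := by
  have h := congrArg (fun φ => φ.hom y) (K.toCycles_comp_homologyπ i j)
  simpa only [ModuleCat.hom_comp, LinearMap.comp_apply, ModuleCat.hom_zero,
    LinearMap.zero_apply] using h

end single

section map
variable {C D : HomologicalComplex (ModuleCat.{v} R) c} (f : C ⟶ D) (i j k : ι)

theorem cyclesMap_i_apply (z : C.cycles j) :
    (D.iCycles j).hom ((HomologicalComplex.cyclesMap f j).hom z) =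
      (f.f j).hom ((C.iCycles j).hom z) := by
  have h := congrArg (fun φ => φ.hom z) (HomologicalComplex.cyclesMap_i f j)
  simpa only [ModuleCat.hom_comp, LinearMap.comp_apply] using h

theorem pi_nat_apply (z : C.cycles j) :
    (HomologicalComplex.homologyMap f j).hom ((C.homologyπ j).hom z) =
      (D.homologyπ j).hom ((HomologicalComplex.cyclesMap f j).hom z) := by
  have h := congrArg (fun φ => φ.hom z) (HomologicalComplex.homologyπ_naturality f j)
  simpa only [ModuleCat.hom_comp, LinearMap.comp_apply] using h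

theorem mono_homologyMap_iff (hi : c.prev j = i) (hk : c.next j = k) :
    Mono (HomologicalComplex.homologyMap f j) ↔
      ∀ x : C.X j, (C.d j k).hom x = 0 → (∃ y : D.X i, (D.d i j).hom y = (f.f j).hom x) →
        ∃ y' : C.X i, (C.d i j).hom y' = x := by
  rw [ModuleCat.mono_iff_injective]
  constructor
  · intro hinj x hx hy
    obtain ⟨y, hy⟩ := hy
    obtain ⟨z, hz⟩ := lift_cycle C j k hk x hx
    have h1 : (HomologicalComplex.cyclesMap f j).hom z = (D.toCycles i j).hom y := by
      apply iCycles_inj D j
      rw [cyclesMap_i_apply, toCycles_i_apply, hz, hy]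
    have h2 : (HomologicalComplex.homologyMap f j).hom ((C.homologyπ j).hom z) = 0 := by
      rw [pi_nat_apply, h1, pi_toCycles_apply]
    have h0 : (HomologicalComplex.homologyMap f j).hom 0 = 0 := map_zero _
    have h3 : (C.homologyπ j).hom z = 0 := hinj (h2.trans h0.symm)
    obtain ⟨y', hy'⟩ := boundary_of_pi_zero C i j hi z h3
    refine ⟨y', ?_⟩
    rw [← toCycles_i_apply, hy', hz]
  · intro hcond
    have hzero : ∀ h : C.homology j,
        (HomologicalComplex.homologyMap f j).hom h = 0 → h = 0 := by
      intro h hh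
      obtain ⟨z, rfl⟩ := pi_surj C j h
      rw [pi_nat_apply] at hh
      obtain ⟨y, hy⟩ := boundary_of_pi_zero D i j hi _ hh
      have hy2 : (D.d i j).hom y = (f.f j).hom ((C.iCycles j).hom z) := by
        rw [← toCycles_i_apply, hy, cyclesMap_i_apply]
      obtain ⟨y', hy'⟩ := hcond _ (iCycles_d_apply C j k z) ⟨y, hy2⟩
      have : z = (C.toCycles i j).hom y' := by
        apply iCycles_inj C j
        rw [toCycles_i_apply, hy']
      rw [this, pi_toCycles_apply]
    intro a b hab
    have h1 : (HomologicalComplex.homologyMap f j).hom (a - b) = 0 := by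
      rw [map_sub]; exact sub_eq_zero.mpr hab
    exact sub_eq_zero.mp (hzero _ h1)

theorem epi_homologyMap_iff (hi : c.prev j = i) (hk : c.next j = k) :
    Epi (HomologicalComplex.homologyMap f j) ↔
      ∀ y : D.X j, (D.d j k).hom y = 0 →
        ∃ x : C.X j, (C.d j k).hom x = 0 ∧
          ∃ w : D.X i, y = (f.f j).hom x + (D.d i j).hom w := by
  rw [ModuleCat.epi_iff_surjective]
  constructor
  · intro hsurj y hy
    obtain ⟨zD, hzD⟩ := lift_cycle D j k hk y hy
    obtain ⟨h, hh⟩ := hsurj ((D.homologyπ j).hom zD)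
    obtain ⟨zC, rfl⟩ := pi_surj C j h
    have hh' : (HomologicalComplex.homologyMap f j).hom ((C.homologyπ j).hom zC) =
        (D.homologyπ j).hom zD := hh
    rw [pi_nat_apply] at hh'
    have h1 : (D.homologyπ j).hom (zD - (HomologicalComplex.cyclesMap f j).hom zC) = 0 := by
      rw [map_sub, hh', sub_self]
    obtain ⟨w, hw⟩ := boundary_of_pi_zero D i j hi _ h1
    refine ⟨(C.iCycles j).hom zC, iCycles_d_apply C j k zC, w, ?_⟩
    have h2 : (D.iCycles j).hom ((D.toCycles i j).hom w) =
        (D.iCycles j).hom (zD - (HomologicalComplex.cyclesMap f j).hom zC) := by rw [hw]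
    rw [toCycles_i_apply, map_sub, hzD, cyclesMap_i_apply] at h2
    rw [h2]; abel
  · intro hcond h
    obtain ⟨zD, rfl⟩ := pi_surj D j h
    obtain ⟨x, hx, w, hw⟩ := hcond _ (iCycles_d_apply D j k zD)
    obtain ⟨zC, hzC⟩ := lift_cycle C j k hk x hx
    refine ⟨(C.homologyπ j).hom zC, ?_⟩
    show (HomologicalComplex.homologyMap f j).hom ((C.homologyπ j).hom zC) = _
    rw [pi_nat_apply]
    have h1 : zD = (HomologicalComplex.cyclesMap f j).hom zC + (D.toCycles i j).hom w := by
      apply iCycles_inj D j
      rw [map_add, cyclesMap_i_apply, toCycles_i_apply, hzC, hw]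
    rw [h1, map_add, pi_toCycles_apply, add_zero]

end map

end H8HE
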