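import Mathlib

open MvPolynomial

namespace H8HB

variable (K : Type*) [Field K]

abbrev H (d : ℕ) : Submodule K (MvPolynomial (Fin 2) K) := homogeneousSubmodule (Fin 2) K d

noncomputable def mono (d : ℕ) (i : Fin (d+1)) : Fin 2 →₀ ℕ :=
  Finsupp.single 0 (i : ℕ) + Finsupp.single 1 (d - i)

theorem mono_degree (d : ℕ) (i : Fin (d+1)) : (mono d i).degree = d := by
  unfold mono
  rw [map_add, Finsupp.degree_single, Finsupp.degree_single]
  have := i.isLt
  omega

theorem mono_zero (d : ℕ) (i : Fin (d+1)) : mono d i 0 = i := by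
  unfold mono; simp

theorem mono_inj (d : ℕ) : Function.Injective (mono d) := by
  intro i j h
  have h0 := DFunLike.congr_fun h 0
  rw [mono_zero, mono_zero] at h0
  exact Fin.ext h0

theorem exists_mono (d : ℕ) (m : Fin 2 →₀ ℕ) (hm : m.degree = d) : ∃ i, mono d i = m := by
  rw [Finsupp.degree_eq_sum, Fin.sum_univ_two] at hm
  refine ⟨⟨m 0, by omega⟩, ?_⟩
  ext j
  fin_cases j
  · simp [mono]
  · simp [mono]; omega

noncomputable def coeffMap (d : ℕ) : H K d →ₗ[K] (Fin (d+1) → K) where
  toFun P i := coeff (mono d i) P.1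
  map_add' P Q := by ext i; simp
  map_smul' c P := by ext i; simp

theorem coeffMap_apply (d : ℕ) (P : H K d) (i : Fin (d+1)) :
    coeffMap K d P i = coeff (mono d i) P.1 := rfl

theorem coeffMap_injective (d : ℕ) : Function.Injective (coeffMap K d) := by
  rw [← LinearMap.ker_eq_bot, LinearMap.ker_eq_bot']
  intro P hP
  apply Subtype.ext
  apply MvPolynomial.ext
  intro m
  rw [Submodule.coe_zero, coeff_zero]
  by_cases hm : m.degree = d
  · obtain ⟨i, rfl⟩ := exists_mono d m hm
    exact congrFun hP i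
  · exact ((mem_homogeneousSubmodule _ _).mp P.2).coeff_eq_zero hm

theorem coeffMap_surjective (d : ℕ) : Function.Surjective (coeffMap K d) := by
  intro a
  have hmem : (∑ i : Fin (d+1), monomial (mono d i) (a i)) ∈ H K d := by
    apply Submodule.sum_mem
    intro i _
    exact (mem_homogeneousSubmodule _ _).mpr (isHomogeneous_monomial _ (mono_degree d i))
  refine ⟨⟨_, hmem⟩, ?_⟩
  ext j
  rw [coeffMap_apply]
  show coeff (mono d j) (∑ i : Fin (d+1), monomial (mono d i) (a i)) = a j
  rw [coeff_sum]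
  simp only [coeff_monomial]
  rw [Finset.sum_eq_single j]
  · rw [if_pos rfl]
  · intro i _ hij
    rw [if_neg (fun h => hij (mono_inj d h))]
  · intro h; exact absurd (Finset.mem_univ j) h

noncomputable def coeffEquiv (d : ℕ) : H K d ≃ₗ[K] (Fin (d+1) → K) :=
  LinearEquiv.ofBijective (coeffMap K d) ⟨coeffMap_injective K d, coeffMap_surjective K d⟩

theorem finrank_H (d : ℕ) : Module.finrank K (H K d) = d + 1 := by
  rw [(coeffEquiv K d).finrank_eq, Module.finrank_fin_fun]

instance finite_H (d : ℕ) : Module.Finite K (H K d) :=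
  Module.Finite.equiv (coeffEquiv K d).symm

theorem mul_mem' (a b c : ℕ) (habc : a + b = c) (g : H K a) (h : H K b) :
    g.1 * h.1 ∈ H K c := by
  rw [← habc]
  exact (mem_homogeneousSubmodule _ _).mpr
    (((mem_homogeneousSubmodule _ _).mp g.2).mul ((mem_homogeneousSubmodule _ _).mp h.2))

noncomputable def mulQ (a b c : ℕ) (habc : a + b = c) (W : Submodule K (H K c)) :
    H K a →ₗ[K] H K b →ₗ[K] (H K c ⧸ W) :=
  LinearMap.mk₂ K (fun g h => W.mkQ ⟨g.1 * h.1, mul_mem' K a b c habc g h⟩)
    (fun g g' h => by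
      rw [← map_add]
      exact congrArg W.mkQ (Subtype.ext (add_mul g.1 g'.1 h.1)))
    (fun s g h => by
      rw [← map_smul]
      exact congrArg W.mkQ (Subtype.ext (smul_mul_assoc s g.1 h.1)))
    (fun g h h' => by
      rw [← map_add]
      exact congrArg W.mkQ (Subtype.ext (mul_add g.1 h.1 h'.1)))
    (fun s g h => by
      rw [← map_smul]
      exact congrArg W.mkQ (Subtype.ext (mul_smul_comm s g.1 h.1)))

theorem mulQ_apply (a b c : ℕ) (habc : a + b = c) (W : Submodule K (H K c))
    (g : H K a) (h : H K b) :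
    mulQ K a b c habc W g h = Submodule.Quotient.mk ⟨g.1 * h.1, mul_mem' K a b c habc g h⟩ := rfl

theorem arith (n r k : ℕ) (hkn : k ≤ n) (hineq : (r + 1) * (n + 1) ≤ (r + 2) * k) :
    (n - k + 1) * (r + 1) < k + 1 := by
  obtain ⟨a, rfl⟩ := Nat.exists_eq_add_of_le hkn
  rw [Nat.add_sub_cancel_left]
  nlinarith [hineq]

end H8HB
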