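import Mathlib
import Groth.Prelude.Def_AlphaP
import Groth.Prelude.Def_ConstGrp

/-! helper8: distinguishing the Hopf algebras of ℤ/p, μ_p, α_p in characteristic p. -/

universe u v

namespace H8NI

open TensorProduct

theorem no_equiv (p : ℕ) [Fact p.Prime] (R : Type u) [CommRing R] [CharP R p]
    {B₁ B₂ : Type v} [Semiring B₁] [Semiring B₂] [Algebra R B₁] [Algebra R B₂]
    (h1 : ∀ (κ : Type u) [Field κ] [Algebra R κ] [CharP κ p], ∃ φ₁ φ₂ : B₁ →ₐ[R] κ, φ₁ ≠ φ₂)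
    (h2 : ∀ (κ : Type u) [Field κ] [Algebra R κ] [CharP κ p] (ψ₁ ψ₂ : B₂ →ₐ[R] κ), ψ₁ = ψ₂)
    (e : B₁ ≃ₐ[R] B₂) : False := by
  haveI : Nontrivial R :=
    CharP.nontrivial_of_char_ne_one (R := R) (v := p) (Fact.out : p.Prime).ne_one
  obtain ⟨m, hm⟩ := Ideal.exists_maximal R
  letI : Field (R ⧸ m) := Ideal.Quotient.field m
  haveI : CharP (R ⧸ m) p := by
    rw [CharP.charP_iff_prime_eq_zero (Fact.out : p.Prime)]
    rw [← map_natCast (algebraMap R (R ⧸ m)), CharP.cast_eq_zero, map_zero]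
  obtain ⟨φ₁, φ₂, hne⟩ := h1 (R ⧸ m)
  have h := h2 (R ⧸ m) (φ₁.comp (e.symm : B₂ →ₐ[R] B₁)) (φ₂.comp (e.symm : B₂ →ₐ[R] B₁))
  apply hne
  apply AlgHom.ext
  intro b
  have h' := AlgHom.congr_fun h (e b)
  simpa using h'

theorem two_homs_F (p : ℕ) [Fact p.Prime] (R : Type u) [CommRing R] [CharP R p]
    {G : Type v} [DecidableEq G] {g h : G} (hgh : g ≠ h)
    (κ : Type u) [Field κ] [Algebra R κ] :
    ∃ φ₁ φ₂ : ConstGrp.F R G →ₐ[R] κ, φ₁ ≠ φ₂ := by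
  refine ⟨(Algebra.ofId R κ).comp (ConstGrp.ev R g), (Algebra.ofId R κ).comp (ConstGrp.ev R h), ?_⟩
  intro heq
  have h1 := AlgHom.congr_fun heq (ConstGrp.e R g)
  simp only [AlgHom.comp_apply, ConstGrp.ev_apply, ConstGrp.e_apply_self,
    ConstGrp.e_apply_of_ne hgh.symm, map_one, map_zero] at h1
  exact one_ne_zero h1

theorem unique_hom_alphaP (p : ℕ) [Fact p.Prime] (R : Type u) [CommRing R] [CharP R p]
    (κ : Type u) [Field κ] [Algebra R κ] (ψ₁ ψ₂ : AlphaP.A p R →ₐ[R] κ) : ψ₁ = ψ₂ := by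
  have h0 : ∀ ψ : AlphaP.A p R →ₐ[R] κ, ψ (AlphaP.x p R) = 0 := by
    intro ψ
    have h1 : ψ (AlphaP.x p R) ^ p = 0 := by
      rw [← map_pow, AlphaP.x_pow, map_zero]
    exact (pow_eq_zero_iff (Fact.out : p.Prime).ne_zero).1 h1
  apply AlphaP.algHom_ext
  rw [h0, h0]

theorem unique_hom_mu (p : ℕ) [Fact p.Prime] (R : Type u) [CommRing R] [CharP R p]
    (κ : Type u) [Field κ] [Algebra R κ] [CharP κ p]
    (ψ₁ ψ₂ : MonoidAlgebra R (Multiplicative (ZMod p)) →ₐ[R] κ) : ψ₁ = ψ₂ := by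
  have h0 : ∀ (ψ : MonoidAlgebra R (Multiplicative (ZMod p)) →ₐ[R] κ)
      (g : Multiplicative (ZMod p)), ψ (MonoidAlgebra.single g 1) = 1 := by
    intro ψ g
    have hg : g ^ p = 1 := by
      apply Multiplicative.toAdd.injective
      rw [toAdd_pow, toAdd_one, nsmul_eq_mul, ZMod.natCast_self, zero_mul]
    have h1 : ψ (MonoidAlgebra.single g 1) ^ p = 1 := by
      rw [← map_pow, MonoidAlgebra.single_pow, hg, one_pow, ← MonoidAlgebra.one_def, map_one]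
    have h2 : (ψ (MonoidAlgebra.single g 1) - 1) ^ p = 0 := by
      rw [sub_pow_char, h1, one_pow, sub_self]
    exact sub_eq_zero.1 ((pow_eq_zero_iff (Fact.out : p.Prime).ne_zero).1 h2)
  apply MonoidAlgebra.algHom_ext
  · intro g
    rw [h0, h0]
  · exact Subsingleton.elim _ _

end H8NI
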