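import Mathlib
import Groth.Prelude.Def_Isoc

set_option autoImplicit false
set_option linter.unusedSectionVars false

noncomputable section

open scoped Pointwise

namespace H8Isoc

universe u v

variable {p : ℕ} [hp : Fact p.Prime] {k : Type u} [Field k] [CharP k p] [PerfectRing k p]

local notation "W" => WittVector p k
local notation "L" => FractionRing (WittVector p k)

theorem pL_ne_zero : ((p : ℕ) : L) ≠ 0 := by
  have h : (algebraMap W L) ((p : ℕ) : W) ≠ 0 := by
    rw [Ne, map_eq_zero_iff _ (IsFractionRing.injective W L)]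
    exact WittVector.p_nonzero p k
  rwa [map_natCast] at h

/-- `τ` preserves `W` (bijectively) and is bijective on `L`. -/
structure Good (τ : L →+* L) : Prop where
  map_int : ∀ w : W, ∃ w' : W, τ (algebraMap W L w) = algebraMap W L w'
  surj_int : ∀ w : W, ∃ w' : W, τ (algebraMap W L w') = algebraMap W L w
  bij : Function.Bijective τ

theorem good_frob (a : ℤ) : Good (Isoc.frob p k a) where
  map_int w := ⟨_, Isoc.frob_algebraMap p k a w⟩
  surj_int w := ⟨(WittVector.frobeniusEquiv p k ^ a).symm w, by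
    rw [Isoc.frob_algebraMap, RingEquiv.apply_symm_apply]⟩
  bij := by
    unfold Isoc.frob
    exact RingEquiv.bijective _

theorem Good.pow {τ : L →+* L} (h : Good τ) (n : ℕ) : Good (τ ^ n) := by
  induction n with
  | zero =>
    refine ⟨fun w => ⟨w, ?_⟩, fun w => ⟨w, ?_⟩, ?_⟩
    · rw [RingHom.coe_pow]; rfl
    · rw [RingHom.coe_pow]; rfl
    · rw [RingHom.coe_pow]; exact Function.bijective_id
  | succ n ih =>
    refine ⟨fun w => ?_, fun w => ?_, ?_⟩
    · obtain ⟨w1, h1⟩ := h.map_int w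
      obtain ⟨w2, h2⟩ := ih.map_int w1
      refine ⟨w2, ?_⟩
      rw [RingHom.coe_pow] at h2 ⊢
      rw [Function.iterate_succ_apply, h1, h2]
    · obtain ⟨w1, h1⟩ := ih.surj_int w
      obtain ⟨w2, h2⟩ := h.surj_int w1
      refine ⟨w2, ?_⟩
      rw [RingHom.coe_pow] at h1 ⊢
      rw [Function.iterate_succ_apply, h2, h1]
    · rw [RingHom.coe_pow]
      exact h.bij.iterate _

section Scalars

theorem exists_pow_mul_int (c : L) :
    ∃ (e : ℕ) (w : W), ((p : L) ^ e) * c = algebraMap W L w := by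
  obtain ⟨a, b, hb, rfl⟩ := IsFractionRing.div_surjective (A := W) c
  have hb0 : b ≠ 0 := nonZeroDivisors.ne_zero hb
  obtain ⟨m, u, hu⟩ := WittVector.exists_eq_pow_p_mul' b hb0
  refine ⟨m, a * ((u⁻¹ : (W)ˣ) : W), ?_⟩
  have hbL : algebraMap W L b = (p : L) ^ m * algebraMap W L (u : W) := by
    rw [hu, map_mul, map_pow, map_natCast]
  have huL : algebraMap W L (u : W) * algebraMap W L ((u⁻¹ : (W)ˣ) : W) = 1 := by
    rw [← map_mul, Units.mul_inv, map_one]
  have hp0 : ((p : L) ^ m) ≠ 0 := pow_ne_zero _ pL_ne_zero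
  have hinv : algebraMap W L ((u⁻¹ : (W)ˣ) : W) = (algebraMap W L (u : W))⁻¹ :=
    eq_inv_of_mul_eq_one_right huL
  rw [hbL, map_mul, hinv, ← mul_div_assoc, mul_div_mul_left _ _ hp0, div_eq_mul_inv]

theorem exists_isOrdP (c : L) (hc : c ≠ 0) : ∃ r : ℤ, Isoc.IsOrdP c r := by
  obtain ⟨e, w, hw⟩ := exists_pow_mul_int c
  have hw0 : w ≠ 0 := by
    rintro rfl
    rw [map_zero] at hw
    exact (mul_ne_zero (pow_ne_zero _ pL_ne_zero) hc) hw
  obtain ⟨m, u, hu⟩ := WittVector.exists_eq_pow_p_mul' w hw0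
  refine ⟨(m : ℤ) - e, u, ?_⟩
  have : c = ((p : L) ^ e)⁻¹ * algebraMap W L w := by
    rw [← hw, ← mul_assoc, inv_mul_cancel₀ (pow_ne_zero _ pL_ne_zero), one_mul]
  rw [this, hu, map_mul, map_pow, map_natCast, zpow_sub₀ pL_ne_zero, zpow_natCast, zpow_natCast]
  ring

theorem not_isUnit_dvd (a : W) (ha : ¬ IsUnit a) : ∃ w : W, a = (p : W) * w := by
  by_cases h0 : a = 0
  · exact ⟨0, by rw [h0, mul_zero]⟩
  · obtain ⟨m, u, hu⟩ := WittVector.exists_eq_pow_p_mul' a h0
    rcases m with _ | m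
    · exfalso; apply ha; rw [hu, pow_zero, one_mul]; exact u.isUnit
    · exact ⟨(p : W) ^ m * u, by rw [hu, pow_succ']; ring⟩

theorem exists_normalize {ι : Type*} [Fintype ι] (g : ι → L) (hg : ∃ i, g i ≠ 0) :
    ∃ (e : ℤ) (g' : ι → W), (∀ i, ((p : L) ^ e) * g i = algebraMap W L (g' i)) ∧
      ∃ i, IsUnit (g' i) := by
  classical
  have hord : ∀ i, ∃ r : ℤ, g i ≠ 0 → Isoc.IsOrdP (g i) r := by
    intro i
    by_cases h : g i = 0
    · exact ⟨0, fun h' => absurd h h'⟩
    · obtain ⟨r, hr⟩ := exists_isOrdP (g i) h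
      exact ⟨r, fun _ => hr⟩
  choose ord hord using hord
  obtain ⟨i₁, hi₁⟩ := hg
  have hs : (Finset.univ.filter (fun i => g i ≠ 0)).Nonempty := ⟨i₁, by simp [hi₁]⟩
  obtain ⟨i₀, hi₀, hmin⟩ := Finset.exists_min_image _ ord hs
  have hi₀' : g i₀ ≠ 0 := (Finset.mem_filter.mp hi₀).2
  have key : ∀ i, ∃ w : W, ((p : L) ^ (-(ord i₀))) * g i = algebraMap W L w ∧
      (i = i₀ → IsUnit w) := by
    intro i
    by_cases h : g i = 0
    · refine ⟨0, by rw [h, mul_zero, map_zero], fun hi => ?_⟩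
      exact absurd (hi ▸ h) hi₀'
    · obtain ⟨u, hu⟩ := hord i h
      have hle : ord i₀ ≤ ord i := hmin i (Finset.mem_filter.mpr ⟨Finset.mem_univ _, h⟩)
      obtain ⟨n, hn⟩ := Int.eq_ofNat_of_zero_le (sub_nonneg.mpr hle)
      refine ⟨(p : W) ^ n * u, ?_, fun hi => ?_⟩
      · have e1 : -(ord i₀) + ord i = (n : ℤ) := by omega
        rw [hu, ← mul_assoc, ← zpow_add₀ pL_ne_zero, map_mul, map_pow, map_natCast, e1,
          zpow_natCast]
      · subst hi
        have : n = 0 := by omega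
        rw [this, pow_zero, one_mul]; exact u.isUnit
  choose g' hg' using key
  exact ⟨-(ord i₀), g', fun i => (hg' i).1, i₀, (hg' i₀).2 rfl⟩

end Scalars

section Mod

variable {N : Type v} [AddCommGroup N] [Module (WittVector p k) N]
  [Module (FractionRing (WittVector p k)) N]
  [IsScalarTower (WittVector p k) (FractionRing (WittVector p k)) N]

theorem natpow_smul (n : ℕ) (x : N) : ((p : L) ^ (n : ℤ)) • x = ((p : W) ^ n) • x := by
  rw [zpow_natCast, ← map_natCast (algebraMap W L), ← map_pow, algebraMap_smul]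

theorem mem_pPow {r : ℤ} {M : Submodule W N} {x : N} :
    x ∈ Isoc.pPow r M ↔ ((p : L) ^ (-r)) • x ∈ M := by
  unfold Isoc.pPow
  rw [Submodule.mem_smul_pointwise_iff_exists]
  constructor
  · rintro ⟨b, hb, rfl⟩
    rwa [smul_smul, ← zpow_add₀ pL_ne_zero, neg_add_cancel, zpow_zero, one_smul]
  · intro h
    refine ⟨_, h, ?_⟩
    rw [smul_smul, ← zpow_add₀ pL_ne_zero, add_neg_cancel, zpow_zero, one_smul]

theorem smul_mem_pPow {r : ℤ} {M : Submodule W N} {x : N} (hx : x ∈ M) :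
    ((p : L) ^ r) • x ∈ Isoc.pPow r M :=
  Submodule.smul_mem_pointwise_smul _ _ _ hx

theorem pPow_zero (M : Submodule W N) : Isoc.pPow (p := p) (k := k) 0 M = M := by
  ext x; rw [mem_pPow]; simp

theorem pPow_add (r s : ℤ) (M : Submodule W N) :
    Isoc.pPow (r + s) M = Isoc.pPow r (Isoc.pPow s M) := by
  ext x
  rw [mem_pPow, mem_pPow, mem_pPow, smul_smul, ← zpow_add₀ pL_ne_zero, neg_add_rev]

theorem pPow_mono {r : ℤ} {M M' : Submodule W N} (h : M ≤ M') :
    Isoc.pPow r M ≤ Isoc.pPow r M' :=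
  fun _ hx => mem_pPow.mpr (h (mem_pPow.mp hx))

theorem pPow_le_pPow_iff {r : ℤ} {M M' : Submodule W N} :
    Isoc.pPow r M ≤ Isoc.pPow r M' ↔ M ≤ M' := by
  refine ⟨fun h => ?_, pPow_mono⟩
  have := pPow_mono (r := -r) h
  rwa [← pPow_add, ← pPow_add, neg_add_cancel, pPow_zero, pPow_zero] at this

theorem pPow_le_of_le {r r' : ℤ} (h : r ≤ r') (M : Submodule W N) :
    Isoc.pPow r' M ≤ Isoc.pPow r M := by
  intro x hx
  rw [mem_pPow] at hx ⊢
  obtain ⟨n, hn⟩ := Int.eq_ofNat_of_zero_le (sub_nonneg.mpr h)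
  have e1 : -r = (n : ℤ) + -r' := by omega
  have : ((p : L) ^ (-r)) • x = ((p : L) ^ (n : ℤ)) • (((p : L) ^ (-r')) • x) := by
    rw [smul_smul, ← zpow_add₀ pL_ne_zero, e1]
  rw [this, natpow_smul]
  exact M.smul_mem _ hx

theorem le_pPow_iff {r : ℤ} {M M' : Submodule W N} :
    M' ≤ Isoc.pPow r M ↔ Isoc.pPow (-r) M' ≤ M := by
  rw [← pPow_le_pPow_iff (r := -r) (M := M') (M' := Isoc.pPow r M), ← pPow_add,
    neg_add_cancel, pPow_zero]

theorem pPow_sup (r : ℤ) (M M' : Submodule W N) :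
    Isoc.pPow r (M ⊔ M') = Isoc.pPow r M ⊔ Isoc.pPow r M' :=
  Submodule.smul_sup' _ _ _

theorem pPow_isLattice (r : ℤ) {M : Submodule W N} (hM : M.IsLattice L) :
    (Isoc.pPow r M).IsLattice L where
  fg := by
    rw [Isoc.pPow, Submodule.pointwise_smul_def]
    exact hM.fg.map _
  span_eq_top := by
    rw [eq_top_iff, ← hM.span_eq_top, Submodule.span_le]
    intro m hm
    have h1 : ((p : L) ^ r) • m ∈ Submodule.span L (Isoc.pPow r M : Set N) :=
      Submodule.subset_span (smul_mem_pPow hm)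
    have h2 := Submodule.smul_mem _ ((p : L) ^ (-r)) h1
    rwa [smul_smul, ← zpow_add₀ pL_ne_zero, neg_add_cancel, zpow_zero, one_smul] at h2

theorem sup_isLattice {M M' : Submodule W N} (hM : M.IsLattice L) (hM' : M'.IsLattice L) :
    (M ⊔ M').IsLattice L :=
  haveI := hM; haveI := hM'; inferInstance

/-! ### latImg -/

variable {τ : FractionRing (WittVector p k) →+* FractionRing (WittVector p k)}

theorem iter_zero' (F : N →ₛₗ[τ] N) (s : ℕ) : (⇑F)^[s] 0 = 0 := by
  have := map_zero (Isoc.iter F s)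
  rwa [Isoc.iter_apply] at this

theorem iter_add' (F : N →ₛₗ[τ] N) (s : ℕ) (x y : N) :
    (⇑F)^[s] (x + y) = (⇑F)^[s] x + (⇑F)^[s] y := by
  have := map_add (Isoc.iter F s) x y
  simpa only [Isoc.iter_apply] using this

theorem iter_smul' (F : N →ₛₗ[τ] N) (s : ℕ) (c : L) (x : N) :
    (⇑F)^[s] (c • x) = ((τ ^ s) c) • (⇑F)^[s] x := by
  have := (Isoc.iter F s).map_smulₛₗ c x
  simpa only [Isoc.iter_apply] using this

theorem iter_zpow_smul (F : N →ₛₗ[τ] N) (s : ℕ) (r : ℤ) (x : N) :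
    (⇑F)^[s] (((p : L) ^ r) • x) = ((p : L) ^ r) • (⇑F)^[s] x := by
  rw [iter_smul', map_zpow₀, map_natCast]

theorem iter_smul_int (h : Good τ) (F : N →ₛₗ[τ] N) (s : ℕ) (w : W) (x : N) :
    ∃ w' : W, (⇑F)^[s] (w • x) = w' • (⇑F)^[s] x := by
  obtain ⟨w', hw'⟩ := (h.pow s).map_int w
  refine ⟨w', ?_⟩
  rw [← algebraMap_smul L w x, iter_smul', hw', algebraMap_smul]

theorem iter_mem_latImg (F : N →ₛₗ[τ] N) (s : ℕ) {M : Submodule W N} {m : N} (hm : m ∈ M) :
    (⇑F)^[s] m ∈ Isoc.latImg F s M :=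
  Submodule.subset_span (Set.mem_image_of_mem _ hm)

theorem latImg_le_iff (F : N →ₛₗ[τ] N) (s : ℕ) {M M' : Submodule W N} :
    Isoc.latImg F s M ≤ M' ↔ ∀ m ∈ M, (⇑F)^[s] m ∈ M' := by
  unfold Isoc.latImg
  rw [Submodule.span_le]
  constructor
  · intro h m hm; exact h (Set.mem_image_of_mem _ hm)
  · rintro h _ ⟨m, hm, rfl⟩; exact h m hm

theorem latImg_mono (F : N →ₛₗ[τ] N) (s : ℕ) {M M' : Submodule W N} (h : M ≤ M') :
    Isoc.latImg F s M ≤ Isoc.latImg F s M' :=
  (latImg_le_iff F s).mpr fun _ hm => iter_mem_latImg F s (h hm)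

theorem latImg_pPow (F : N →ₛₗ[τ] N) (s : ℕ) (r : ℤ) (M : Submodule W N) :
    Isoc.latImg F s (Isoc.pPow r M) = Isoc.pPow r (Isoc.latImg F s M) := by
  apply le_antisymm
  · rw [latImg_le_iff]
    intro y hy
    rw [mem_pPow] at hy ⊢
    rw [← iter_zpow_smul]
    exact iter_mem_latImg F s hy
  · have h : Isoc.latImg F s M ≤ Isoc.pPow (-r) (Isoc.latImg F s (Isoc.pPow r M)) := by
      rw [latImg_le_iff]
      intro m hm
      rw [mem_pPow, neg_neg, ← iter_zpow_smul]
      exact iter_mem_latImg F s (smul_mem_pPow hm)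
    rw [le_pPow_iff, neg_neg] at h
    exact h

theorem latImg_zero (F : N →ₛₗ[τ] N) (M : Submodule W N) : Isoc.latImg F 0 M = M := by
  unfold Isoc.latImg
  rw [Function.iterate_zero, Set.image_id, Submodule.span_eq]

theorem latImg_sup (F : N →ₛₗ[τ] N) (s : ℕ) (M M' : Submodule W N) :
    Isoc.latImg F s (M ⊔ M') = Isoc.latImg F s M ⊔ Isoc.latImg F s M' := by
  apply le_antisymm
  · rw [latImg_le_iff]
    intro x hx
    obtain ⟨m, hm, m', hm', rfl⟩ := Submodule.mem_sup.mp hx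
    rw [iter_add']
    exact Submodule.add_mem_sup (iter_mem_latImg F s hm) (iter_mem_latImg F s hm')
  · exact sup_le (latImg_mono F s le_sup_left) (latImg_mono F s le_sup_right)

/-- Every element of `latImg` is an honest image (for good `τ`). -/
theorem exists_of_mem_latImg (h : Good τ) (F : N →ₛₗ[τ] N) (s : ℕ) {M : Submodule W N} {y : N}
    (hy : y ∈ Isoc.latImg F s M) : ∃ m ∈ M, (⇑F)^[s] m = y := by
  unfold Isoc.latImg at hy
  induction hy using Submodule.span_induction with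
  | mem y hy => obtain ⟨m, hm, rfl⟩ := hy; exact ⟨m, hm, rfl⟩
  | zero => exact ⟨0, M.zero_mem, iter_zero' F s⟩
  | add x y _ _ hx hy =>
    obtain ⟨m, hm, rfl⟩ := hx
    obtain ⟨m', hm', rfl⟩ := hy
    exact ⟨m + m', M.add_mem hm hm', iter_add' F s m m'⟩
  | smul w x _ hx =>
    obtain ⟨m, hm, rfl⟩ := hx
    obtain ⟨w', hw'⟩ := (h.pow s).surj_int w
    refine ⟨w' • m, M.smul_mem _ hm, ?_⟩
    rw [← algebraMap_smul L w' m, iter_smul', hw', algebraMap_smul]

theorem latImg_add (h : Good τ) (F : N →ₛₗ[τ] N) (s t : ℕ) (M : Submodule W N) :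
    Isoc.latImg F (s + t) M = Isoc.latImg F s (Isoc.latImg F t M) := by
  apply le_antisymm
  · rw [latImg_le_iff]
    intro m hm
    rw [Function.iterate_add_apply]
    exact iter_mem_latImg F s (iter_mem_latImg F t hm)
  · rw [latImg_le_iff]
    intro y hy
    obtain ⟨m, hm, rfl⟩ := exists_of_mem_latImg h F t hy
    rw [← Function.iterate_add_apply]
    exact iter_mem_latImg F (s + t) hm

theorem latImg_isLattice (h : Good τ) (F : N →ₛₗ[τ] N) (hF : Function.Bijective F)
    (s : ℕ) {M : Submodule W N} (hM : M.IsLattice L) : (Isoc.latImg F s M).IsLattice L where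
  fg := by
    obtain ⟨S, hS⟩ := hM.fg
    have : Isoc.latImg F s M = Submodule.span W ((⇑F)^[s] '' (S : Set N)) := by
      apply le_antisymm
      · rw [latImg_le_iff]
        intro m hm
        rw [← hS] at hm
        induction hm using Submodule.span_induction with
        | mem y hy => exact Submodule.subset_span (Set.mem_image_of_mem _ hy)
        | zero => rw [iter_zero']; exact Submodule.zero_mem _
        | add x y _ _ hx hy => rw [iter_add']; exact Submodule.add_mem _ hx hy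
        | smul w x _ hx =>
          obtain ⟨w', hw'⟩ := iter_smul_int h F s w x
          rw [hw']; exact Submodule.smul_mem _ _ hx
      · unfold Isoc.latImg
        apply Submodule.span_mono
        apply Set.image_mono
        rw [← hS]; exact Submodule.subset_span
    rw [this]
    exact Submodule.fg_span ((S.finite_toSet).image _)
  span_eq_top := by
    rw [eq_top_iff]
    rintro x -
    obtain ⟨y, rfl⟩ := (hF.iterate s).surjective x
    have hy : y ∈ Submodule.span L (M : Set N) := by rw [hM.span_eq_top]; trivial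
    induction hy using Submodule.span_induction with
    | mem y hy => exact Submodule.subset_span (iter_mem_latImg F s hy)
    | zero => rw [iter_zero']; exact Submodule.zero_mem _
    | add x y _ _ hx hy => rw [iter_add']; exact Submodule.add_mem _ hx hy
    | smul c x _ hx => rw [iter_smul']; exact Submodule.smul_mem _ _ hx

/-! ### twists -/

theorem twist_iterate (F : N →ₛₗ[τ] N) (m : ℤ) (n : ℕ) (j : ℕ) (x : N) :
    (⇑(((p : L) ^ m) • Isoc.iter F n))^[j] x = ((p : L) ^ (m * j)) • (⇑F)^[n * j] x := by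
  induction j with
  | zero => simp
  | succ j ih =>
    have e1 : m + m * (j : ℤ) = m * ((j + 1 : ℕ) : ℤ) := by push_cast; ring
    have e2 : n + n * j = n * (j + 1) := by ring
    rw [Function.iterate_succ_apply', ih, LinearMap.smul_apply, Isoc.iter_apply, iter_zpow_smul,
      smul_smul, ← zpow_add₀ pL_ne_zero, ← Function.iterate_add_apply, e1, e2]

theorem latImg_twist (F : N →ₛₗ[τ] N) (m : ℤ) (n j : ℕ) (M : Submodule W N) :
    Isoc.latImg (((p : L) ^ m) • Isoc.iter F n) j M =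
      Isoc.pPow (m * j) (Isoc.latImg F (n * j) M) := by
  apply le_antisymm
  · rw [latImg_le_iff]
    intro x hx
    rw [twist_iterate]
    exact smul_mem_pPow (iter_mem_latImg F _ hx)
  · have h : Isoc.latImg F (n * j) M ≤
        Isoc.pPow (-(m * (j : ℤ))) (Isoc.latImg (((p : L) ^ m) • Isoc.iter F n) j M) := by
      rw [latImg_le_iff]
      intro x hx
      rw [mem_pPow, neg_neg, ← twist_iterate]
      exact iter_mem_latImg _ j hx
    rw [le_pPow_iff, neg_neg] at h
    exact h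

theorem isOrd_twist {F : N →ₛₗ[τ] N} {M : Submodule W N} (m : ℤ) (n j : ℕ) {r : ℤ}
    (h : Isoc.IsOrd M F (n * j) r) :
    Isoc.IsOrd M (((p : L) ^ m) • Isoc.iter F n) j (m * j + r) := by
  unfold Isoc.IsOrd at h ⊢
  obtain ⟨h1, h2⟩ := h
  constructor
  · rw [latImg_twist, pPow_add]; exact pPow_mono h1
  · rw [latImg_twist, add_assoc, pPow_add, pPow_le_pPow_iff]; exact h2

/-! ### commensurability, Nakayama, orders -/

theorem exists_pow_smul_mem_of_mem_span {M' : Submodule W N} {x : N}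
    (hx : x ∈ Submodule.span L (M' : Set N)) : ∃ e : ℕ, ((p : L) ^ (e : ℤ)) • x ∈ M' := by
  induction hx using Submodule.span_induction with
  | mem y hy => exact ⟨0, by simpa using hy⟩
  | zero => exact ⟨0, by simp⟩
  | add x y _ _ hx hy =>
    obtain ⟨e1, h1⟩ := hx
    obtain ⟨e2, h2⟩ := hy
    refine ⟨e1 + e2, ?_⟩
    rw [smul_add]
    refine M'.add_mem ?_ ?_
    · have : ((p : L) ^ ((e1 + e2 : ℕ) : ℤ)) • x =
          ((p : L) ^ (e2 : ℤ)) • (((p : L) ^ (e1 : ℤ)) • x) := by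
        rw [smul_smul, ← zpow_add₀ pL_ne_zero, ← Nat.cast_add, Nat.add_comm e2 e1]
      rw [this, natpow_smul]; exact M'.smul_mem _ h1
    · have : ((p : L) ^ ((e1 + e2 : ℕ) : ℤ)) • y =
          ((p : L) ^ (e1 : ℤ)) • (((p : L) ^ (e2 : ℤ)) • y) := by
        rw [smul_smul, ← zpow_add₀ pL_ne_zero, ← Nat.cast_add]
      rw [this, natpow_smul]; exact M'.smul_mem _ h2
  | smul c x _ hx =>
    obtain ⟨e, he⟩ := hx
    obtain ⟨e', w, hw⟩ := exists_pow_mul_int c
    refine ⟨e' + e, ?_⟩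
    have : ((p : L) ^ ((e' + e : ℕ) : ℤ)) • (c • x) = w • (((p : L) ^ (e : ℤ)) • x) := by
      rw [← algebraMap_smul L w, ← hw, smul_smul, smul_smul]
      congr 1
      push_cast
      rw [zpow_add₀ pL_ne_zero, zpow_natCast, zpow_natCast]
      ring
    rw [this]; exact M'.smul_mem _ he

theorem exists_pPow_le {M M' : Submodule W N} (hM : M.FG)
    (hM' : Submodule.span L (M' : Set N) = ⊤) : ∃ c : ℕ, Isoc.pPow (c : ℤ) M ≤ M' := by
  obtain ⟨S, rfl⟩ := hM
  have key : ∀ x : N, ∃ e : ℕ, ((p : L) ^ (e : ℤ)) • x ∈ M' := fun x =>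
    exists_pow_smul_mem_of_mem_span (by rw [hM']; trivial)
  choose e he using key
  refine ⟨S.sup e, ?_⟩
  intro y hy
  rw [mem_pPow] at hy
  have h2 : ∀ z ∈ Submodule.span W (S : Set N), ((p : L) ^ ((S.sup e : ℕ) : ℤ)) • z ∈ M' := by
    intro z hz
    induction hz using Submodule.span_induction with
    | mem z hz =>
      have hle : e z ≤ S.sup e := Finset.le_sup (f := e) (Finset.mem_coe.mp hz)
      obtain ⟨d, hd⟩ := Nat.exists_eq_add_of_le hle
      have : ((p : L) ^ ((S.sup e : ℕ) : ℤ)) • z =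
          ((p : L) ^ (d : ℤ)) • (((p : L) ^ (e z : ℤ)) • z) := by
        rw [smul_smul, ← zpow_add₀ pL_ne_zero, hd]; congr 2; push_cast; ring
      rw [this, natpow_smul]; exact M'.smul_mem _ (he z)
    | zero => simp
    | add x y _ _ hx hy => rw [smul_add]; exact M'.add_mem hx hy
    | smul w x _ hx => rw [smul_comm]; exact M'.smul_mem _ hx
  have := h2 _ hy
  rwa [smul_smul, ← zpow_add₀ pL_ne_zero, add_neg_cancel, zpow_zero, one_smul] at this

theorem not_le_pPow_one {M : Submodule W N} (hM : M.FG) (hne : M ≠ ⊥) :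
    ¬ M ≤ Isoc.pPow 1 M := by
  intro hle
  apply hne
  apply Submodule.eq_bot_of_le_smul_of_le_jacobson_bot (Ideal.span {(p : W)}) M hM
  · intro m hm
    have := hle hm
    rw [mem_pPow] at this
    have h2 : m = (p : W) • (((p : L) ^ (-1 : ℤ)) • m) := by
      rw [← algebraMap_smul L (p : W), map_natCast, smul_smul, zpow_neg_one,
        mul_inv_cancel₀ pL_ne_zero, one_smul]
    rw [h2]
    exact Submodule.smul_mem_smul (Ideal.mem_span_singleton_self _) this
  · rw [IsLocalRing.jacobson_eq_maximalIdeal ⊥ bot_ne_top, Ideal.span_singleton_le_iff_mem,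
      IsLocalRing.mem_maximalIdeal, mem_nonunits_iff]
    exact (WittVector.irreducible p).not_isUnit

theorem le_of_pPow_le_pPow {M : Submodule W N} (hM : M.FG) (hne : M ≠ ⊥) {r r' : ℤ}
    (h : Isoc.pPow r M ≤ Isoc.pPow r' M) : r' ≤ r := by
  by_contra hlt
  rw [not_le] at hlt
  have h1 : Isoc.pPow r' M ≤ Isoc.pPow (r + 1) M := pPow_le_of_le (by omega) M
  have h2 := h.trans h1
  rw [pPow_add, pPow_le_pPow_iff] at h2
  exact not_le_pPow_one hM hne h2

theorem IsOrd.le_of_le {F : N →ₛₗ[τ] N} {M : Submodule W N} {s : ℕ} {r r' : ℤ}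
    (h : Isoc.IsOrd M F s r) (h' : Isoc.latImg F s M ≤ Isoc.pPow r' M) : r' ≤ r := by
  by_contra hlt
  rw [not_le] at hlt
  obtain ⟨_, h2⟩ := h
  exact h2 (h'.trans (pPow_le_of_le (by omega) M))

theorem exists_isOrd (hτ : Good τ) (F : N →ₛₗ[τ] N) (hF : Function.Bijective F)
    {M : Submodule W N} (hM : M.IsLattice L) (hne : M ≠ ⊥) (s : ℕ) :
    ∃ r : ℤ, Isoc.IsOrd M F s r := by
  have hΛ := latImg_isLattice hτ F hF s hM
  obtain ⟨c, hc⟩ := exists_pPow_le hΛ.fg hM.span_eq_top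
  obtain ⟨c', hc'⟩ := exists_pPow_le hM.fg hΛ.span_eq_top
  obtain ⟨r, hr, hmax⟩ := Int.exists_greatest_of_bdd
    (P := fun r => Isoc.latImg F s M ≤ Isoc.pPow r M)
    ⟨c', fun z hz => le_of_pPow_le_pPow hM.fg hne (hc'.trans hz)⟩
    ⟨-(c : ℤ), by rw [le_pPow_iff, neg_neg]; exact hc⟩
  refine ⟨r, hr, fun h => ?_⟩
  have := hmax _ h
  omega

theorem ne_bot_of_isOrd {F : N →ₛₗ[τ] N} {M : Submodule W N} {s : ℕ} {r : ℤ}
    (h : Isoc.IsOrd M F s r) : M ≠ ⊥ := by
  rintro rfl
  obtain ⟨_, h2⟩ := h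
  apply h2
  rw [latImg_le_iff]
  intro m hm
  rw [(Submodule.mem_bot _).mp hm, iter_zero']
  exact Submodule.zero_mem _

end Mod

end H8Isoc
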