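import Mathlib
import Groth.Prelude.Def_Isoc
import Groth.Agent.Lib.helper8.IsocBase

set_option autoImplicit false
set_option linter.unusedSectionVars false

noncomputable section

open scoped Pointwise

namespace H8Isoc

universe u v

variable {p : ℕ} [hp : Fact p.Prime] {k : Type u} [Field k] [CharP k p] [PerfectRing k p]

local notation "W" => WittVector p k
local notation "L" => FractionRing (WittVector p k)

variable {N : Type v} [AddCommGroup N] [Module (WittVector p k) N]
  [Module (FractionRing (WittVector p k)) N]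
  [IsScalarTower (WittVector p k) (FractionRing (WittVector p k)) N]
variable {τ : FractionRing (WittVector p k) →+* FractionRing (WittVector p k)}

/-- A chain of `h + 2` submodules between `Λ'` and `p⁻¹Λ'` in an `h`-dimensional space
has two equal consecutive terms. -/
theorem exists_eq_succ_of_chain [Module.Finite L N] {h : ℕ} (hh : Module.finrank L N = h)
    {Λ' : Submodule W N} (Λ : ℕ → Submodule W N) (hmono : Monotone Λ) (h0 : Λ' ≤ Λ 0)
    (htop : Λ (h + 1) ≤ Isoc.pPow (-1) Λ') : ∃ i, i ≤ h ∧ Λ i = Λ (i + 1) := by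
  classical
  by_contra hcon
  have hne : ∀ i : Fin (h + 1), ∃ x, x ∈ Λ (i + 1) ∧ x ∉ Λ i := by
    intro i
    have hlt : Λ i < Λ (i + 1) := by
      refine lt_of_le_of_ne (hmono (Nat.le_succ _)) fun heq => hcon ⟨i, ?_, heq⟩
      exact Nat.lt_succ_iff.mp i.isLt
    exact SetLike.exists_of_lt hlt
  choose x hx1 hx2 using hne
  have hdep : ¬ LinearIndependent L x := by
    intro hli
    have := hli.fintype_card_le_finrank
    rw [hh, Fintype.card_fin] at this
    omega
  rw [Fintype.not_linearIndependent_iff] at hdep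
  obtain ⟨g, hg0, hg1⟩ := hdep
  obtain ⟨e, g', hg', ⟨i₁, hi₁⟩⟩ := exists_normalize g hg1
  have hsum : ∑ i, g' i • x i = 0 := by
    have : ∀ i, g' i • x i = ((p : L) ^ e) • (g i • x i) := by
      intro i
      rw [smul_smul, hg' i, algebraMap_smul]
    simp only [this]
    rw [← Finset.smul_sum, hg0, smul_zero]
  let T := Finset.univ.filter (fun i : Fin (h + 1) => IsUnit (g' i))
  have hT : T.Nonempty := ⟨i₁, by simp [T, hi₁]⟩
  set i₀ := T.max' hT with hi₀def
  have hi₀T : i₀ ∈ T := Finset.max'_mem T hT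
  have hi₀u : IsUnit (g' i₀) := (Finset.mem_filter.mp hi₀T).2
  have hgt : ∀ j, i₀ < j → ¬ IsUnit (g' j) := by
    intro j hj hu
    have : j ≤ i₀ := Finset.le_max' T j (Finset.mem_filter.mpr ⟨Finset.mem_univ _, hu⟩)
    exact absurd hj (not_lt.mpr this)
  have hmem : ∀ j, j ≠ i₀ → g' j • x j ∈ Λ i₀ := by
    intro j hj
    rcases lt_or_gt_of_ne hj with hlt | hgt'
    · apply Submodule.smul_mem
      have hlt' : (j : ℕ) < (i₀ : ℕ) := hlt
      exact hmono (Nat.succ_le_of_lt hlt') (hx1 j)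
    · obtain ⟨w, hw⟩ := not_isUnit_dvd (g' j) (hgt j hgt')
      have hj' : (j : ℕ) + 1 ≤ h + 1 := by have := j.isLt; omega
      have h1 : x j ∈ Isoc.pPow (-1) Λ' := htop (hmono hj' (hx1 j))
      rw [mem_pPow, neg_neg] at h1
      have h2 : ((p : L) ^ (1 : ℤ)) • x j = (p : W) • x j := by
        rw [zpow_one, ← algebraMap_smul L (p : W), map_natCast]
      rw [h2] at h1
      rw [hw, mul_comm, mul_smul]
      apply Submodule.smul_mem
      exact hmono (Nat.zero_le _) (h0 h1)
  have hmain : g' i₀ • x i₀ ∈ Λ i₀ := by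
    have h1 := Finset.add_sum_erase Finset.univ (fun i => g' i • x i) (Finset.mem_univ i₀)
    simp only [hsum] at h1
    have h2 : g' i₀ • x i₀ = - ∑ j ∈ Finset.univ.erase i₀, g' j • x j :=
      eq_neg_of_add_eq_zero_left h1
    rw [h2]
    apply Submodule.neg_mem
    apply Submodule.sum_mem
    intro j hj
    exact hmem j (Finset.ne_of_mem_erase hj)
  obtain ⟨u, hu⟩ := hi₀u
  have : x i₀ = ((u⁻¹ : (W)ˣ) : W) • (g' i₀ • x i₀) := by
    rw [smul_smul, ← hu, Units.inv_mul, one_smul]
  apply hx2 i₀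
  rw [this]
  exact Submodule.smul_mem _ _ hmain

/-- The saturation sequence `M, M + F M, M + F M + F² M, …`. -/
def satSeq (F : N →ₛₗ[τ] N) (M : Submodule W N) : ℕ → Submodule W N
  | 0 => M
  | (j + 1) => M ⊔ Isoc.latImg F 1 (satSeq F M j)

theorem le_satSeq (F : N →ₛₗ[τ] N) (M : Submodule W N) (j : ℕ) : M ≤ satSeq F M j := by
  cases j with
  | zero => exact le_refl _
  | succ j => exact le_sup_left

theorem satSeq_mono (F : N →ₛₗ[τ] N) (M : Submodule W N) : Monotone (satSeq F M) := by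
  apply monotone_nat_of_le_succ
  intro j
  induction j with
  | zero => exact le_sup_left
  | succ j ih => exact sup_le_sup_left (latImg_mono F 1 ih) _

theorem latImg_satSeq_le (F : N →ₛₗ[τ] N) (M : Submodule W N) (j : ℕ) :
    Isoc.latImg F 1 (satSeq F M j) ≤ satSeq F M (j + 1) := le_sup_right

theorem satSeq_add (hτ : Good τ) (F : N →ₛₗ[τ] N) (M : Submodule W N) (i j : ℕ) :
    satSeq F M (i + j + 1) = satSeq F M j ⊔ Isoc.latImg F (j + 1) (satSeq F M i) := by
  induction j with
  | zero => rfl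
  | succ j ih =>
    show M ⊔ Isoc.latImg F 1 (satSeq F M (i + j + 1)) =
      (M ⊔ Isoc.latImg F 1 (satSeq F M j)) ⊔ Isoc.latImg F (j + 1 + 1) (satSeq F M i)
    rw [ih, latImg_sup, ← latImg_add hτ, sup_assoc, Nat.add_comm 1 (j + 1)]

theorem satSeq_isLattice (hτ : Good τ) (F : N →ₛₗ[τ] N) (hF : Function.Bijective F)
    {M : Submodule W N} (hM : M.IsLattice L) (j : ℕ) : (satSeq F M j).IsLattice L := by
  induction j with
  | zero => exact hM
  | succ j ih => exact sup_isLattice hM (latImg_isLattice hτ F hF 1 ih)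

theorem latImg_satSeq_le_pPow (hτ : Good τ) (F : N →ₛₗ[τ] N) {M : Submodule W N} {n : ℕ}
    {r : ℤ} (h : Isoc.latImg F n M ≤ Isoc.pPow r M) (i : ℕ) :
    Isoc.latImg F n (satSeq F M i) ≤ Isoc.pPow r (satSeq F M i) := by
  induction i with
  | zero => exact h
  | succ i ih =>
    show Isoc.latImg F n (M ⊔ Isoc.latImg F 1 (satSeq F M i)) ≤
      Isoc.pPow r (M ⊔ Isoc.latImg F 1 (satSeq F M i))
    rw [latImg_sup, pPow_sup, ← latImg_add hτ, Nat.add_comm n 1, latImg_add hτ, ← latImg_pPow]
    exact sup_le_sup h (latImg_mono F 1 ih)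

/-- If `F^{h+1} M ⊆ p⁻¹ M` in an `h`-dimensional space, some lattice is `F`-stable. -/
theorem exists_stable_of_latImg_succ_le [Module.Finite L N] (hτ : Good τ) (F : N →ₛₗ[τ] N)
    (hF : Function.Bijective F) {h : ℕ} (hh : Module.finrank L N = h)
    {M : Submodule W N} (hM : M.IsLattice L)
    (hFM : Isoc.latImg F (h + 1) M ≤ Isoc.pPow (-1) M) :
    ∃ M'' : Submodule W N, M''.IsLattice L ∧ Isoc.latImg F 1 M'' ≤ M'' := by
  have hchain := exists_eq_succ_of_chain hh (Λ' := satSeq F M h)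
    (fun i => satSeq F M (h + i))
    (fun a b hab => satSeq_mono F M (Nat.add_le_add_left hab h)) (le_refl _) (by
      show satSeq F M (h + (h + 1)) ≤ _
      rw [← Nat.add_assoc, satSeq_add hτ]
      refine sup_le ?_ (latImg_satSeq_le_pPow hτ F hFM h)
      have := pPow_le_of_le (show (-1 : ℤ) ≤ 0 by norm_num) (satSeq F M h)
      rwa [pPow_zero] at this)
  obtain ⟨i, _, hi⟩ := hchain
  refine ⟨satSeq F M (h + i), satSeq_isLattice hτ F hF hM _, ?_⟩
  have := latImg_satSeq_le F M (h + i)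
  rw [Nat.add_assoc] at this
  exact this.trans (le_of_eq hi.symm)

/-- If `F^{j+1} M ⊆ M`, some lattice is `F`-stable. -/
theorem exists_stable_of_latImg_le (hτ : Good τ) (F : N →ₛₗ[τ] N)
    (hF : Function.Bijective F) {M : Submodule W N} (hM : M.IsLattice L) (j : ℕ)
    (hFM : Isoc.latImg F (j + 1) M ≤ M) :
    ∃ M'' : Submodule W N, M''.IsLattice L ∧ Isoc.latImg F 1 M'' ≤ M'' := by
  refine ⟨satSeq F M j, satSeq_isLattice hτ F hF hM _, ?_⟩
  have h1 := satSeq_add hτ F M 0 j
  rw [Nat.zero_add] at h1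
  refine (latImg_satSeq_le F M j).trans ?_
  rw [h1]
  exact sup_le (le_refl _) (hFM.trans (le_satSeq F M j))

end H8Isoc
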