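import Mathlib
import Groth.Prelude.Def_Isoc
import Groth.Agent.Lib.helper8.IsocChain

set_option autoImplicit false
set_option linter.unusedSectionVars false

noncomputable section

open scoped Pointwise

namespace H8Isoc

universe u v

variable {p : ℕ} [hp : Fact p.Prime] {k : Type u} [Field k] [CharP k p] [PerfectRing k p]

local notation "W" => WittVector p k
local notation "L" => FractionRing (WittVector p k)

variable {N : Type v} [AddCommGroup N] [Module (WittVector p k) N]
  [Module (FractionRing (WittVector p k)) N]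
  [IsScalarTower (WittVector p k) (FractionRing (WittVector p k)) N]
variable {τ : FractionRing (WittVector p k) →+* FractionRing (WittVector p k)}

theorem IsOrd.unique {F : N →ₛₗ[τ] N} {M : Submodule W N} {s : ℕ} {r r' : ℤ}
    (h : Isoc.IsOrd M F s r) (h' : Isoc.IsOrd M F s r') : r = r' := by
  obtain ⟨h1, _⟩ := id h
  obtain ⟨h1', _⟩ := id h'
  exact le_antisymm (IsOrd.le_of_le h' h1) (IsOrd.le_of_le h h1')

theorem isOrd_zero (F : N →ₛₗ[τ] N) {M : Submodule W N} (hM : M.FG) (hne : M ≠ ⊥) :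
    Isoc.IsOrd M F 0 0 := by
  unfold Isoc.IsOrd
  rw [latImg_zero, pPow_zero]
  exact ⟨le_refl _, not_le_pPow_one hM hne⟩

theorem latImg_le_pPow_add (hτ : Good τ) (F : N →ₛₗ[τ] N) {M : Submodule W N} {s t : ℕ}
    {r r' : ℤ} (h : Isoc.latImg F s M ≤ Isoc.pPow r M) (h' : Isoc.latImg F t M ≤ Isoc.pPow r' M) :
    Isoc.latImg F (s + t) M ≤ Isoc.pPow (r + r') M := by
  rw [latImg_add hτ, add_comm r r', pPow_add]
  refine (latImg_mono F s h').trans ?_
  rw [latImg_pPow]
  exact pPow_mono h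

theorem latImg_le_pPow_mul (hτ : Good τ) (F : N →ₛₗ[τ] N) {M : Submodule W N} {s : ℕ}
    {r : ℤ} (h : Isoc.latImg F s M ≤ Isoc.pPow r M) (n : ℕ) :
    Isoc.latImg F (s * n) M ≤ Isoc.pPow (r * n) M := by
  induction n with
  | zero => simp [latImg_zero, pPow_zero]
  | succ n ih =>
    have e1 : s * (n + 1) = s * n + s := by ring
    have e2 : r * ((n + 1 : ℕ) : ℤ) = r * n + r := by push_cast; ring
    rw [e1, e2]
    exact latImg_le_pPow_add hτ F ih h

theorem latImg_eq_pPow_mul (hτ : Good τ) (F : N →ₛₗ[τ] N) {M : Submodule W N} {s : ℕ}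
    {r : ℤ} (h : Isoc.latImg F s M = Isoc.pPow r M) (n : ℕ) :
    Isoc.latImg F (s * n) M = Isoc.pPow (r * n) M := by
  induction n with
  | zero => simp [latImg_zero, pPow_zero]
  | succ n ih =>
    have e1 : s * (n + 1) = s + s * n := by ring
    have e2 : r * ((n + 1 : ℕ) : ℤ) = r * n + r := by push_cast; ring
    rw [e1, e2, latImg_add hτ, ih, latImg_pPow, h, ← pPow_add]

theorem isOrd_superadd (hτ : Good τ) {F : N →ₛₗ[τ] N} {M : Submodule W N} {s t : ℕ}
    {r r' r'' : ℤ} (h : Isoc.IsOrd M F s r) (h' : Isoc.IsOrd M F t r')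
    (h'' : Isoc.IsOrd M F (s + t) r'') : r + r' ≤ r'' := by
  obtain ⟨h1, _⟩ := id h
  obtain ⟨h1', _⟩ := id h'
  exact IsOrd.le_of_le h'' (latImg_le_pPow_add hτ F h1 h1')

end H8Isoc
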