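import Mathlib
import Groth.Prelude.Def_Isoc
import Groth.Agent.Lib.helper8.IsocMore

set_option autoImplicit false
set_option linter.unusedSectionVars false

noncomputable section

open scoped Pointwise

namespace H8Isoc

universe u v

variable {p : ℕ} [hp : Fact p.Prime] {k : Type u} [Field k] [CharP k p] [PerfectRing k p]

local notation "W" => WittVector p k
local notation "L" => FractionRing (WittVector p k)

/-! ### p-adic orders of scalars -/

theorem IsOrdP.ne_zero {x : L} {r : ℤ} (hx : Isoc.IsOrdP x r) : x ≠ 0 := by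
  obtain ⟨u, rfl⟩ := hx
  refine mul_ne_zero (zpow_ne_zero _ pL_ne_zero) ?_
  exact (map_ne_zero_iff _ (IsFractionRing.injective W L)).mpr u.ne_zero

theorem IsOrdP.mul {x y : L} {r s : ℤ} (hx : Isoc.IsOrdP x r) (hy : Isoc.IsOrdP y s) :
    Isoc.IsOrdP (x * y) (r + s) := by
  obtain ⟨u, rfl⟩ := hx
  obtain ⟨v, rfl⟩ := hy
  exact ⟨u * v, by rw [zpow_add₀ pL_ne_zero, Units.val_mul, map_mul]; ring⟩

theorem IsOrdP.map {τ : L →+* L} (hτ : Good τ) {x : L} {r : ℤ} (hx : Isoc.IsOrdP x r) :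
    Isoc.IsOrdP (τ x) r := by
  obtain ⟨u, rfl⟩ := hx
  obtain ⟨w, hw⟩ := hτ.map_int (u : W)
  obtain ⟨w', hw'⟩ := hτ.map_int ((u⁻¹ : (W)ˣ) : W)
  have hww : algebraMap W L (w * w') = 1 := by
    rw [map_mul, ← hw, ← hw', ← map_mul, ← map_mul, Units.mul_inv]
    simp
  have hww' : w * w' = 1 := IsFractionRing.injective W L (by rw [hww, map_one])
  refine ⟨Units.mkOfMulEqOne w w' hww', ?_⟩
  rw [map_mul, map_zpow₀, map_natCast, hw]
  rfl

theorem isOrdP_aux {x : L} {r s : ℤ} (hx : Isoc.IsOrdP x r) (hy : Isoc.IsOrdP x s) : ¬ r < s := by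
  intro hlt
  obtain ⟨u, hu⟩ := hx
  obtain ⟨v, hv⟩ := hy
  obtain ⟨n, hn⟩ := Int.eq_ofNat_of_zero_le (sub_nonneg.mpr hlt.le)
  have hn1 : 1 ≤ n := by omega
  have hs : s = r + n := by omega
  rw [hu, hs, zpow_add₀ pL_ne_zero, mul_assoc] at hv
  have h2 := mul_left_cancel₀ (zpow_ne_zero r pL_ne_zero) hv
  rw [zpow_natCast, ← map_natCast (algebraMap W L), ← map_pow, ← map_mul] at h2
  have h3 : (u : W) = (p : W) ^ n * v := IsFractionRing.injective W L h2
  have hdvd : (p : W) ∣ (u : W) :=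
    ⟨(p : W) ^ (n - 1) * v, by rw [h3, ← mul_assoc, ← pow_succ', Nat.sub_add_cancel hn1]⟩
  exact (WittVector.irreducible p).not_isUnit (isUnit_of_dvd_unit hdvd u.isUnit)

theorem IsOrdP.unique {x : L} {r s : ℤ} (hx : Isoc.IsOrdP x r) (hy : Isoc.IsOrdP x s) : r = s :=
  le_antisymm (not_lt.mp (isOrdP_aux hy hx)) (not_lt.mp (isOrdP_aux hx hy))

theorem isOrdP_zpow (r : ℤ) : Isoc.IsOrdP (((p : L)) ^ r) r :=
  ⟨1, by simp⟩

theorem exists_isOrdP_int (w : W) (hw : w ≠ 0) : ∃ m : ℕ, Isoc.IsOrdP (algebraMap W L w) m := by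
  obtain ⟨m, u, hu⟩ := WittVector.exists_eq_pow_p_mul' w hw
  exact ⟨m, u, by rw [hu, map_mul, map_pow, map_natCast, zpow_natCast]⟩

/-! ### matrices of semilinear maps -/

variable {N : Type v} [AddCommGroup N] [Module (WittVector p k) N]
  [Module (FractionRing (WittVector p k)) N]
  [IsScalarTower (WittVector p k) (FractionRing (WittVector p k)) N]
variable {τ : FractionRing (WittVector p k) →+* FractionRing (WittVector p k)}
variable {h : ℕ}

/-- The matrix of a function in a basis (columns = coordinates of images of basis vectors). -/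
def mat (b : Module.Basis (Fin h) L N) (f : N → N) : Matrix (Fin h) (Fin h) L :=
  Matrix.of fun i j => b.repr (f (b j)) i

theorem mat_apply (b : Module.Basis (Fin h) L N) (f : N → N) (i j : Fin h) :
    mat b f i j = b.repr (f (b j)) i := rfl

theorem detCoeff_eq (b : Module.Basis (Fin h) L N) (F : N →ₛₗ[τ] N) :
    Isoc.detCoeff b F = (mat b ⇑F).det := rfl

theorem repr_map (b : Module.Basis (Fin h) L N) {σ : L →+* L} (f : N →ₛₗ[σ] N) (x : N)
    (i : Fin h) : b.repr (f x) i = ∑ j, mat b f i j * σ (b.repr x j) := by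
  conv_lhs => rw [← b.sum_repr x]
  rw [map_sum, map_sum, Finsupp.finsetSum_apply]
  apply Finset.sum_congr rfl
  intro j _
  rw [map_smulₛₗ, map_smul, Finsupp.smul_apply, smul_eq_mul, mul_comm, mat_apply]

theorem mat_comp (b : Module.Basis (Fin h) L N) {σ : L →+* L} (f : N →ₛₗ[σ] N) (g : N → N) :
    mat b (fun x => f (g x)) = mat b f * (mat b g).map σ := by
  ext i j
  rw [Matrix.mul_apply, mat_apply, repr_map]
  rfl

theorem mat_basis_change (b b' : Module.Basis (Fin h) L N) {σ : L →+* L} (f : N →ₛₗ[σ] N) :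
    b.toMatrix b' * mat b' f = mat b f * (b.toMatrix b').map σ := by
  ext i j
  rw [Matrix.mul_apply, Matrix.mul_apply]
  have hR : ∑ l, mat b f i l * ((b.toMatrix b').map σ) l j = b.repr (f (b' j)) i := by
    rw [repr_map]; rfl
  rw [hR]
  conv_rhs => rw [← b'.sum_repr (f (b' j))]
  rw [map_sum, Finsupp.finsetSum_apply]
  apply Finset.sum_congr rfl
  intro l _
  rw [map_smul, Finsupp.smul_apply, smul_eq_mul, mul_comm]
  rfl

theorem isOrdP_det_basis_change {σ : L →+* L} (hσ : Good σ) (f : N →ₛₗ[σ] N)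
    (b b' : Module.Basis (Fin h) L N) {d : ℤ} (hd : Isoc.IsOrdP (mat b f).det d) :
    Isoc.IsOrdP (mat b' f).det d := by
  have hP : (b.toMatrix b').det * (b'.toMatrix b).det = 1 := by
    rw [← Matrix.det_mul, Module.Basis.toMatrix_mul_toMatrix_flip, Matrix.det_one]
  have hP0 : (b.toMatrix b').det ≠ 0 := left_ne_zero_of_mul_eq_one hP
  have heq : (b.toMatrix b').det * (mat b' f).det = (mat b f).det * σ (b.toMatrix b').det := by
    have := congrArg Matrix.det (mat_basis_change b b' f)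
    rw [Matrix.det_mul, Matrix.det_mul] at this
    rw [this, RingHom.map_det]
    rfl
  obtain ⟨e₀, he₀⟩ := exists_isOrdP _ hP0
  have h1 : Isoc.IsOrdP ((mat b f).det * σ (b.toMatrix b').det) (d + e₀) :=
    IsOrdP.mul hd (IsOrdP.map hσ he₀)
  rw [← heq] at h1
  have hA0 : (mat b' f).det ≠ 0 := right_ne_zero_of_mul (IsOrdP.ne_zero h1)
  obtain ⟨d', hd'⟩ := exists_isOrdP _ hA0
  have h2 := IsOrdP.mul he₀ hd'
  have := IsOrdP.unique h1 h2
  have hdd : d' = d := by omega
  rw [← hdd]; exact hd'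

theorem isOrdP_det_iter (hτ : Good τ) (b : Module.Basis (Fin h) L N) (F : N →ₛₗ[τ] N) {d : ℤ}
    (hd : Isoc.IsOrdP (mat b ⇑F).det d) (n : ℕ) :
    Isoc.IsOrdP (mat b ((⇑F)^[n])).det (n * d) := by
  induction n with
  | zero =>
    have : mat b ((⇑F)^[0]) = 1 := by
      ext i j
      rw [mat_apply, Function.iterate_zero, id, Module.Basis.repr_self, Finsupp.single_apply,
        Matrix.one_apply]
      by_cases hij : i = j
      · subst hij; simp
      · simp [hij, Ne.symm hij]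
    rw [this, Matrix.det_one]
    exact ⟨1, by simp⟩
  | succ n ih =>
    have h1 : mat b ((⇑F)^[n + 1]) = mat b ⇑F * (mat b ((⇑F)^[n])).map τ := by
      rw [← mat_comp b F ((⇑F)^[n])]
      congr 1
      ext x
      rw [Function.iterate_succ_apply']
    have h2 : ((mat b ((⇑F)^[n])).map τ).det = τ (mat b ((⇑F)^[n])).det := by
      rw [RingHom.map_det]; rfl
    rw [h1, Matrix.det_mul, h2]
    have e2 : ((n + 1 : ℕ) : ℤ) * d = d + n * d := by push_cast; ring
    rw [e2]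
    exact IsOrdP.mul hd (IsOrdP.map hτ ih)

theorem exists_lattice_basis (b : Module.Basis (Fin h) L N) {M : Submodule W N}
    (hM : M.IsLattice L) :
    ∃ e : Module.Basis (Fin h) L N, (∀ j, e j ∈ M) ∧
      (∀ m ∈ M, ∀ i, ∃ w : W, e.repr m i = algebraMap W L w) := by
  haveI := hM
  haveI : Module.Free W M := inferInstance
  haveI : Module.Finite W M := inferInstance
  have hrank : Module.finrank W M = h := by
    apply Module.finrank_eq_of_rank_eq
    rw [Submodule.IsLattice.rank' L M, rank_eq_card_basis b, Fintype.card_fin]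
  let e₀ : Module.Basis (Fin h) W M := Module.finBasisOfFinrankEq W M hrank
  refine ⟨e₀.extendOfIsLattice L, fun j => ?_, fun m hm i => ?_⟩
  · rw [Module.Basis.extendOfIsLattice_apply]; exact (e₀ j).2
  · refine ⟨e₀.repr ⟨m, hm⟩ i, ?_⟩
    have h1 : m = ∑ l, algebraMap W L (e₀.repr ⟨m, hm⟩ l) • (e₀.extendOfIsLattice L) l := by
      have h2 := congrArg Subtype.val (e₀.sum_repr ⟨m, hm⟩)
      rw [Submodule.coe_sum] at h2
      refine h2.symm.trans (Finset.sum_congr rfl fun l _ => ?_)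
      rw [Module.Basis.extendOfIsLattice_apply, algebraMap_smul, Submodule.coe_smul]
    conv_lhs => rw [h1]
    rw [Module.Basis.repr_sum_self]

theorem det_mat_of_le_pPow {e : Module.Basis (Fin h) L N} {M : Submodule W N}
    (he2 : ∀ m ∈ M, ∀ i, ∃ w : W, e.repr m i = algebraMap W L w)
    (f : N → N) (r : ℤ) (hf : ∀ j, f (e j) ∈ Isoc.pPow r M) :
    ∃ w₀ : W, (mat e f).det = ((p : L) ^ (r * h)) * algebraMap W L w₀ := by
  have key : ∀ i j, ∃ w : W, mat e f i j = ((p : L) ^ r) * algebraMap W L w := by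
    intro i j
    have h1 := hf j
    rw [mem_pPow] at h1
    obtain ⟨w, hw⟩ := he2 _ h1 i
    refine ⟨w, ?_⟩
    rw [map_smul, Finsupp.smul_apply, smul_eq_mul] at hw
    rw [← hw, mat_apply, ← mul_assoc, ← zpow_add₀ pL_ne_zero, add_neg_cancel, zpow_zero, one_mul]
  choose w hw using key
  refine ⟨(Matrix.of w).det, ?_⟩
  have hmat : mat e f = ((p : L) ^ r) • (algebraMap W L).mapMatrix (Matrix.of w) := by
    ext i j
    rw [hw i j]
    rfl
  rw [hmat, Matrix.det_smul, Fintype.card_fin, ← RingHom.map_det, ← zpow_natCast, ← zpow_mul]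

/-- `F^s M ⊆ p^r M` forces `r h ≤ s d`. -/
theorem mul_le_of_latImg_le (hτ : Good τ) (F : N →ₛₗ[τ] N) (b : Module.Basis (Fin h) L N)
    {d : ℤ} (hd : Isoc.IsOrdP (Isoc.detCoeff b F) d) {M : Submodule W N} (hM : M.IsLattice L)
    {s : ℕ} {r : ℤ} (hle : Isoc.latImg F s M ≤ Isoc.pPow r M) : r * h ≤ s * d := by
  obtain ⟨e, he1, he2⟩ := exists_lattice_basis b hM
  have h1 : Isoc.IsOrdP (mat b ((⇑F)^[s])).det (s * d) := isOrdP_det_iter hτ b F hd s
  have h2 : Isoc.IsOrdP (mat e ((⇑F)^[s])).det (s * d) :=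
    isOrdP_det_basis_change (hτ.pow s) (Isoc.iter F s) b e h1
  obtain ⟨w₀, hw₀⟩ := det_mat_of_le_pPow he2 ((⇑F)^[s]) r
    (fun j => (latImg_le_iff F s).mp hle _ (he1 j))
  have hw0 : w₀ ≠ 0 := by
    rintro rfl
    rw [map_zero, mul_zero] at hw₀
    exact IsOrdP.ne_zero h2 hw₀
  obtain ⟨m, hm⟩ := exists_isOrdP_int w₀ hw0
  have h3 : Isoc.IsOrdP (mat e ((⇑F)^[s])).det (r * h + m) := by
    rw [hw₀]; exact IsOrdP.mul (isOrdP_zpow _) hm
  have := IsOrdP.unique h2 h3
  omega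

/-- `p^r M ⊆ F^s M` forces `s d ≤ r h`. -/
theorem mul_le_of_pPow_le_latImg (hτ : Good τ) (F : N →ₛₗ[τ] N) (b : Module.Basis (Fin h) L N)
    {d : ℤ} (hd : Isoc.IsOrdP (Isoc.detCoeff b F) d) {M : Submodule W N} (hM : M.IsLattice L)
    {s : ℕ} {r : ℤ} (hge : Isoc.pPow r M ≤ Isoc.latImg F s M) : s * d ≤ r * h := by
  obtain ⟨e, he1, he2⟩ := exists_lattice_basis b hM
  have h1 : Isoc.IsOrdP (mat b ((⇑F)^[s])).det (s * d) := isOrdP_det_iter hτ b F hd s
  have h2 : Isoc.IsOrdP (mat e ((⇑F)^[s])).det (s * d) :=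
    isOrdP_det_basis_change (hτ.pow s) (Isoc.iter F s) b e h1
  have hpre : ∀ j, ∃ m' ∈ M, (⇑F)^[s] m' = ((p : L) ^ r) • e j := fun j =>
    exists_of_mem_latImg hτ F s (hge (smul_mem_pPow (he1 j)))
  choose m' hm'M hm' using hpre
  let g : N →ₗ[L] N := e.constr L m'
  have hg : ∀ j, g (e j) = m' j := fun j => e.constr_basis L m' j
  have hcomp := mat_comp e (Isoc.iter F s) ⇑g
  have hL : mat e (fun x => (Isoc.iter F s) (g x)) = ((p : L) ^ r) • (1 : Matrix (Fin h) (Fin h) L) := by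
    ext i j
    rw [mat_apply, Matrix.smul_apply, Matrix.one_apply]
    show e.repr ((⇑F)^[s] (g (e j))) i = _
    rw [hg j, hm' j, map_smul, Finsupp.smul_apply, Module.Basis.repr_self, Finsupp.single_apply]
    by_cases hij : i = j
    · subst hij; simp
    · simp [hij, Ne.symm hij]
  obtain ⟨v₀, hv₀⟩ := det_mat_of_le_pPow he2 (⇑g) 0 (fun j => by
    rw [pPow_zero, hg j]; exact hm'M j)
  rw [zero_mul, zpow_zero, one_mul] at hv₀
  obtain ⟨v₁, hv₁⟩ := (hτ.pow s).map_int v₀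
  have hdet := congrArg Matrix.det hcomp
  rw [hL, Matrix.det_smul, Matrix.det_one, mul_one, Fintype.card_fin, Matrix.det_mul] at hdet
  have h4 : ((mat e ⇑g).map (τ ^ s)).det = algebraMap W L v₁ := by
    rw [← hv₁, ← hv₀, RingHom.map_det]; rfl
  rw [h4, ← zpow_natCast, ← zpow_mul] at hdet
  have hv1 : v₁ ≠ 0 := by
    rintro rfl
    rw [map_zero, mul_zero] at hdet
    exact (zpow_ne_zero _ pL_ne_zero) hdet
  obtain ⟨m, hm⟩ := exists_isOrdP_int v₁ hv1
  have h5 : Isoc.IsOrdP (((p : L)) ^ (r * (h : ℤ))) (s * d + m) := by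
    rw [hdet]; exact IsOrdP.mul h2 hm
  have := IsOrdP.unique (isOrdP_zpow (p := p) (k := k) (r * (h : ℤ))) h5
  omega

end H8Isoc
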