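import Mathlib
import Groth.Prelude.Def_Isoc
import Groth.Agent.Lib.helper8.IsocBase
import Groth.Agent.Lib.helper8.IsocChain
import Groth.Agent.Lib.helper8.IsocDet

/-!
# Fitting decomposition of a lattice under a semilinear endomorphism (helper8)

chains of lattices stabilise, lattices are `p`-adically complete, and for a bijective semilinear
`G` with `G M ⊆ M` we construct `Minf = ⋂ G^n M` and `Tnil = {x | G^n x → 0}` with
`M ⊆ Minf + Tnil`.
-/

set_option autoImplicit false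
set_option linter.unusedSectionVars false

noncomputable section

open scoped Pointwise

namespace H8Isoc

universe u v

variable {p : ℕ} [hp : Fact p.Prime] {k : Type u} [Field k] [CharP k p] [PerfectRing k p]

local notation "W" => WittVector p k
local notation "L" => FractionRing (WittVector p k)

variable {N : Type v} [AddCommGroup N] [Module (WittVector p k) N]
  [Module (FractionRing (WittVector p k)) N]
  [IsScalarTower (WittVector p k) (FractionRing (WittVector p k)) N]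
variable {τ : FractionRing (WittVector p k) →+* FractionRing (WittVector p k)}

theorem iter_sub' (F : N →ₛₗ[τ] N) (s : ℕ) (x y : N) :
    (⇑F)^[s] (x - y) = (⇑F)^[s] x - (⇑F)^[s] y := by
  have := map_sub (Isoc.iter F s) x y
  simpa only [Isoc.iter_apply] using this

theorem pPow_nat_le (j : ℕ) (M : Submodule W N) : Isoc.pPow (j : ℤ) M ≤ M := by
  have := pPow_le_of_le (show (0 : ℤ) ≤ (j : ℤ) from Int.natCast_nonneg j) M
  rwa [pPow_zero] at this

/-! ### chains -/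

theorem antitone_stabilizes_one [Module.Finite L N] {Λ : Submodule W N} (A : ℕ → Submodule W N)
    (hA : Antitone A) (hlo : ∀ n, Isoc.pPow 1 Λ ≤ A n) (hhi : ∀ n, A n ≤ Λ) :
    ∃ n₀, ∀ n, n₀ ≤ n → A n = A n₀ := by
  by_contra hcon
  push_neg at hcon
  choose t ht1 ht2 using hcon
  obtain ⟨h, hh⟩ : ∃ h, Module.finrank L N = h := ⟨_, rfl⟩
  let u : ℕ → ℕ := fun i => t^[i] 0
  have hu : ∀ i, u (i + 1) = t (u i) := fun i => Function.iterate_succ_apply' t i 0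
  have humono : Monotone u := monotone_nat_of_le_succ fun i => by rw [hu]; exact ht1 _
  obtain ⟨i, hi, hieq⟩ := exists_eq_succ_of_chain hh (Λ' := Isoc.pPow 1 Λ)
    (fun i => A (u (h + 1 - i)))
    (fun a b hab => hA (humono (Nat.sub_le_sub_left hab (h + 1))))
    (hlo _)
    (by
      show A (u (h + 1 - (h + 1))) ≤ Isoc.pPow (-1) (Isoc.pPow 1 Λ)
      rw [← pPow_add, neg_add_cancel, pPow_zero]
      exact hhi _)
  have e1 : h + 1 - i = (h - i) + 1 := by omega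
  have e2 : h + 1 - (i + 1) = h - i := by omega
  simp only [e1, e2] at hieq
  rw [hu] at hieq
  exact ht2 (u (h - i)) hieq

theorem antitone_stabilizes [Module.Finite L N] (j : ℕ) :
    ∀ {Λ : Submodule W N} (A : ℕ → Submodule W N),
    Antitone A → (∀ n, Isoc.pPow (j : ℤ) Λ ≤ A n) → (∀ n, A n ≤ Λ) →
    ∃ n₀, ∀ n, n₀ ≤ n → A n = A n₀ := by
  induction j with
  | zero =>
    intro Λ A hA hlo hhi
    refine ⟨0, fun n _ => le_antisymm ((hhi n).trans ?_) ((hhi 0).trans ?_)⟩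
    · have := hlo 0; rwa [Nat.cast_zero, pPow_zero] at this
    · have := hlo n; rwa [Nat.cast_zero, pPow_zero] at this
  | succ j ih =>
    intro Λ A hA hlo hhi
    have hPΛ : Isoc.pPow (j : ℤ) Λ ≤ Λ := pPow_nat_le j Λ
    obtain ⟨n₁, hn₁⟩ := ih (Λ := Λ) (fun n => A n ⊔ Isoc.pPow (j : ℤ) Λ)
      (fun a b hab => sup_le_sup_right (hA hab) _) (fun n => le_sup_right)
      (fun n => sup_le (hhi n) hPΛ)
    have hn₁' : ∀ n, n₁ ≤ n → A n ⊔ Isoc.pPow (j : ℤ) Λ = A n₁ ⊔ Isoc.pPow (j : ℤ) Λ := hn₁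
    have h1P : Isoc.pPow 1 (Isoc.pPow (j : ℤ) Λ) ≤ Isoc.pPow (j : ℤ) Λ := by
      have := pPow_le_of_le (show (0 : ℤ) ≤ 1 by norm_num) (Isoc.pPow (j : ℤ) Λ)
      rwa [pPow_zero] at this
    obtain ⟨n₂, hn₂⟩ := antitone_stabilizes_one (Λ := Isoc.pPow (j : ℤ) Λ)
      (fun n => A n ⊓ Isoc.pPow (j : ℤ) Λ)
      (fun a b hab => inf_le_inf_right _ (hA hab))
      (fun n => le_inf (by
        have := hlo n
        rwa [Nat.cast_succ, add_comm, pPow_add] at this) h1P)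
      (fun n => inf_le_right)
    have hn₂' : ∀ n, n₂ ≤ n → A n ⊓ Isoc.pPow (j : ℤ) Λ = A n₂ ⊓ Isoc.pPow (j : ℤ) Λ := hn₂
    refine ⟨max n₁ n₂, fun n hn => ?_⟩
    have hB : A n ⊔ Isoc.pPow (j : ℤ) Λ = A (max n₁ n₂) ⊔ Isoc.pPow (j : ℤ) Λ := by
      rw [hn₁' n ((le_max_left _ _).trans hn), hn₁' (max n₁ n₂) (le_max_left _ _)]
    have hC : A n ⊓ Isoc.pPow (j : ℤ) Λ = A (max n₁ n₂) ⊓ Isoc.pPow (j : ℤ) Λ := by
      rw [hn₂' n ((le_max_right _ _).trans hn), hn₂' (max n₁ n₂) (le_max_right _ _)]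
    exact eq_of_le_of_inf_le_of_le_sup (hA hn) (hC.symm.le.trans inf_le_left)
      (le_sup_left.trans hB.symm.le)

theorem monotone_stabilizes_of_le {M : Submodule W N} (hM : M.FG) (K : ℕ → Submodule W N)
    (hK : Monotone K) (hKM : ∀ n, K n ≤ M) : ∃ n₀, ∀ n, n₀ ≤ n → K n = K n₀ := by
  haveI : IsNoetherian W M := isNoetherian_of_fg_of_noetherian M hM
  obtain ⟨n₀, hn₀⟩ := monotone_stabilizes_iff_noetherian.mpr ‹IsNoetherian W M›
    ⟨fun n => (K n).comap M.subtype, fun a b hab => Submodule.comap_mono (hK hab)⟩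
  refine ⟨n₀, fun n hn => ?_⟩
  have h1 : (K n₀).comap M.subtype = (K n).comap M.subtype := hn₀ n hn
  have h2 : ∀ n, K n = ((K n).comap M.subtype).map M.subtype := fun n => by
    rw [Submodule.map_comap_subtype, inf_eq_right.mpr (hKM n)]
  rw [h2 n, h2 n₀, h1]

/-! ### completeness -/

theorem witt_exists_limit (f : ℕ → W)
    (hf : ∀ j : ℕ, ∃ w : W, f (j + 1) - f j = (p : W) ^ j * w) :
    ∃ y : W, ∀ j : ℕ, ∃ w : W, y - f j = (p : W) ^ j * w := by
  have hdvd : ∀ m n, m ≤ n → ∃ w, f n - f m = (p : W) ^ m * w := by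
    intro m n hmn
    induction n, hmn using Nat.le_induction with
    | base => exact ⟨0, by simp⟩
    | succ n hmn ih =>
      obtain ⟨w₁, hw₁⟩ := ih
      obtain ⟨w₂, hw₂⟩ := hf n
      obtain ⟨t, rfl⟩ := Nat.exists_eq_add_of_le hmn
      refine ⟨w₁ + (p : W) ^ t * w₂, ?_⟩
      have e : f (m + t + 1) - f m = (f (m + t + 1) - f (m + t)) + (f (m + t) - f m) := by ring
      rw [e, hw₁, hw₂, pow_add]
      ring
  have hmem : ∀ (m : ℕ) (z : W),
      z ∈ (Ideal.span {(p : W)} ^ m • ⊤ : Submodule W W) ↔ ∃ w, z = (p : W) ^ m * w := by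
    intro m z
    simp only [Ideal.span_singleton_pow, smul_eq_mul, Ideal.mul_top, Ideal.mem_span_singleton']
    constructor
    · rintro ⟨a, ha⟩; exact ⟨a, by rw [← ha, mul_comm]⟩
    · rintro ⟨w, hw⟩; exact ⟨w, by rw [hw, mul_comm]⟩
  obtain ⟨y, hy⟩ := IsPrecomplete.prec (I := Ideal.span {(p : W)}) (M := W) inferInstance
    (f := f) (by
      intro m n hmn
      rw [SModEq.sub_mem, hmem]
      obtain ⟨w, hw⟩ := hdvd m n hmn
      exact ⟨-w, by rw [mul_neg, ← hw]; ring⟩)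
  refine ⟨y, fun j => ?_⟩
  have := hy j
  rw [SModEq.sub_mem, hmem] at this
  obtain ⟨w, hw⟩ := this
  exact ⟨-w, by rw [mul_neg, ← hw]; ring⟩

theorem exists_limit [Module.Finite L N] {M : Submodule W N} (hM : M.IsLattice L) (x : ℕ → N)
    (hx0 : x 0 ∈ M) (hx : ∀ j : ℕ, x (j + 1) - x j ∈ Isoc.pPow (j : ℤ) M) :
    ∃ y ∈ M, ∀ j : ℕ, y - x j ∈ Isoc.pPow (j : ℤ) M := by
  obtain ⟨h, hh⟩ : ∃ h, Module.finrank L N = h := ⟨_, rfl⟩
  let b : Module.Basis (Fin h) L N := Module.finBasisOfFinrankEq L N hh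
  obtain ⟨e, he1, he2⟩ := exists_lattice_basis b hM
  have hxM : ∀ j, x j ∈ M := by
    intro j
    induction j with
    | zero => exact hx0
    | succ j ih =>
      have := M.add_mem (pPow_nat_le j M (hx j)) ih
      rwa [sub_add_cancel] at this
  choose c hc using fun j i => he2 (x j) (hxM j) i
  have hcd : ∀ i (j : ℕ), ∃ w : W, c (j + 1) i - c j i = (p : W) ^ j * w := by
    intro i j
    have h1 := hx j
    rw [mem_pPow] at h1
    obtain ⟨w, hw⟩ := he2 _ h1 i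
    refine ⟨w, IsFractionRing.injective W L ?_⟩
    rw [map_smul, Finsupp.smul_apply, smul_eq_mul, map_sub, Finsupp.sub_apply, hc, hc] at hw
    rw [map_sub, map_mul, map_pow, map_natCast, ← hw, ← mul_assoc, ← zpow_natCast,
      ← zpow_add₀ pL_ne_zero, add_neg_cancel, zpow_zero, one_mul]
  choose cl hcl using fun i => witt_exists_limit (fun j => c j i) (hcd i)
  have hxsum : ∀ j, x j = ∑ i, c j i • e i := by
    intro j
    conv_lhs => rw [← e.sum_repr (x j)]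
    exact Finset.sum_congr rfl fun i _ => by rw [hc, algebraMap_smul]
  refine ⟨∑ i, cl i • e i, Submodule.sum_mem _ fun i _ => M.smul_mem _ (he1 i), fun j => ?_⟩
  choose w hw using fun i => hcl i j
  have : ∑ i, cl i • e i - x j = ((p : L) ^ (j : ℤ)) • ∑ i, w i • e i := by
    rw [hxsum j, ← Finset.sum_sub_distrib, natpow_smul, Finset.smul_sum]
    exact Finset.sum_congr rfl fun i _ => by rw [← sub_smul, hw i, mul_smul]
  rw [this]
  exact smul_mem_pPow (Submodule.sum_mem _ fun i _ => M.smul_mem _ (he1 i))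

theorem exists_limit' [Module.Finite L N] {M : Submodule W N} (hM : M.IsLattice L) (x : ℕ → N)
    (hx : ∀ j : ℕ, x (j + 1) - x j ∈ Isoc.pPow (j : ℤ) M) :
    ∃ y, ∀ j : ℕ, y - x j ∈ Isoc.pPow (j : ℤ) M := by
  obtain ⟨y, -, hy⟩ := exists_limit hM (fun j => x j - x 0) (by simp) (fun j => by
    have e : x (j + 1) - x 0 - (x j - x 0) = x (j + 1) - x j := by abel
    rw [e]; exact hx j)
  refine ⟨y + x 0, fun j => ?_⟩
  have e : y + x 0 - x j = y - (x j - x 0) := by abel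
  rw [e]; exact hy j

theorem exists_limit_tower [Module.Finite L N] {M : Submodule W N} (hM : M.IsLattice L)
    (S : ℕ → Set N)
    (hS : ∀ j : ℕ, ∀ x ∈ S j, ∃ x' ∈ S (j + 1), x' - x ∈ Isoc.pPow (j : ℤ) M) {x₀ : N}
    (hx₀ : x₀ ∈ S 0) :
    ∃ y, y - x₀ ∈ M ∧ ∀ j : ℕ, ∃ x ∈ S j, y - x ∈ Isoc.pPow (j : ℤ) M := by
  choose! g hg1 hg2 using hS
  let f : ℕ → N := fun j => Nat.rec (motive := fun _ => N) x₀ (fun j y => g j y) j
  have hfs : ∀ j, f (j + 1) = g j (f j) := fun j => rfl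
  have hfS : ∀ j, f j ∈ S j := by
    intro j
    induction j with
    | zero => exact hx₀
    | succ j ih => rw [hfs]; exact hg1 j _ ih
  obtain ⟨y, hy⟩ := exists_limit' hM f (fun j => by rw [hfs]; exact hg2 j _ (hfS j))
  refine ⟨y, ?_, fun j => ⟨f j, hfS j, hy j⟩⟩
  have := hy 0
  rwa [Nat.cast_zero, pPow_zero] at this

/-! ### the Fitting decomposition -/

section Fitting

variable {σ : FractionRing (WittVector p k) →+* FractionRing (WittVector p k)}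

theorem latImg_succ_le (hσ : Good σ) (G : N →ₛₗ[σ] N) {M : Submodule W N}
    (hGM : Isoc.latImg G 1 M ≤ M) (n : ℕ) : Isoc.latImg G (n + 1) M ≤ Isoc.latImg G n M := by
  rw [latImg_add hσ G n 1]
  exact latImg_mono G n hGM

theorem latImg_antitone (hσ : Good σ) (G : N →ₛₗ[σ] N) {M : Submodule W N}
    (hGM : Isoc.latImg G 1 M ≤ M) : Antitone fun n => Isoc.latImg G n M :=
  antitone_nat_of_succ_le (latImg_succ_le hσ G hGM)

theorem latImg_le_self (hσ : Good σ) (G : N →ₛₗ[σ] N) {M : Submodule W N}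
    (hGM : Isoc.latImg G 1 M ≤ M) (n : ℕ) : Isoc.latImg G n M ≤ M := by
  have := latImg_antitone hσ G hGM (Nat.zero_le n)
  simpa [latImg_zero] using this

theorem iter_mem_pPow (hσ : Good σ) (G : N →ₛₗ[σ] N) {M : Submodule W N}
    (hGM : Isoc.latImg G 1 M ≤ M) (r : ℤ) (m : ℕ) {x : N} (hx : x ∈ Isoc.pPow r M) :
    (⇑G)^[m] x ∈ Isoc.pPow r M := by
  have h1 : (⇑G)^[m] x ∈ Isoc.latImg G m (Isoc.pPow r M) := iter_mem_latImg G m hx
  rw [latImg_pPow] at h1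
  exact pPow_mono (latImg_le_self hσ G hGM m) h1

/-- the image chain at level `j` -/
def imCh (G : N →ₛₗ[σ] N) (M : Submodule W N) (j n : ℕ) : Submodule W N :=
  Isoc.latImg G n M ⊔ Isoc.pPow (j : ℤ) M

/-- the stable image at level `j` -/
def Iinf (G : N →ₛₗ[σ] N) (M : Submodule W N) (j : ℕ) : Submodule W N :=
  ⨅ n, imCh G M j n

/-- the stable image -/
def Minf (G : N →ₛₗ[σ] N) (M : Submodule W N) : Submodule W N := ⨅ n, Isoc.latImg G n M

/-- the topologically nilpotent part -/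
def Tnil (hσ : Good σ) (G : N →ₛₗ[σ] N) (M : Submodule W N) : Submodule L N where
  carrier := {x | ∀ j : ℕ, ∃ n : ℕ, ∀ m, n ≤ m → (⇑G)^[m] x ∈ Isoc.pPow (j : ℤ) M}
  add_mem' := by
    intro x y hx hy j
    obtain ⟨n₁, h₁⟩ := hx j
    obtain ⟨n₂, h₂⟩ := hy j
    refine ⟨max n₁ n₂, fun m hm => ?_⟩
    rw [iter_add']
    exact Submodule.add_mem _ (h₁ m ((le_max_left _ _).trans hm))
      (h₂ m ((le_max_right _ _).trans hm))
  zero_mem' := fun j => ⟨0, fun m _ => by rw [iter_zero']; exact Submodule.zero_mem _⟩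
  smul_mem' := by
    intro c x hx j
    obtain ⟨e, w, hw⟩ := exists_pow_mul_int c
    obtain ⟨n, hn⟩ := hx (j + e)
    refine ⟨n, fun m hm => ?_⟩
    have hc : c = ((p : L) ^ (-(e : ℤ))) * algebraMap W L w := by
      rw [← hw, zpow_neg, zpow_natCast, ← mul_assoc,
        inv_mul_cancel₀ (pow_ne_zero _ pL_ne_zero), one_mul]
    obtain ⟨w', hw'⟩ := (hσ.pow m).map_int w
    rw [iter_smul', hc, map_mul, map_zpow₀, map_natCast, hw', mul_smul, algebraMap_smul, mem_pPow]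
    have h3 := hn m hm
    rw [mem_pPow] at h3
    have e1 : ((p : L) ^ (-(j : ℤ))) * ((p : L) ^ (-(e : ℤ))) =
        (p : L) ^ (-((j + e : ℕ) : ℤ)) := by
      rw [← zpow_add₀ pL_ne_zero]; congr 1; push_cast; ring
    rw [smul_smul, e1, smul_comm]
    exact M.smul_mem _ h3

theorem mem_Tnil (hσ : Good σ) (G : N →ₛₗ[σ] N) (M : Submodule W N) {x : N} :
    x ∈ Tnil hσ G M ↔
      ∀ j : ℕ, ∃ n : ℕ, ∀ m, n ≤ m → (⇑G)^[m] x ∈ Isoc.pPow (j : ℤ) M := Iff.rfl

theorem Minf_le (G : N →ₛₗ[σ] N) (M : Submodule W N) : Minf G M ≤ M := by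
  have h := iInf_le (fun n => Isoc.latImg G n M) 0
  rwa [latImg_zero] at h

theorem Minf_le_Iinf (G : N →ₛₗ[σ] N) (M : Submodule W N) (j : ℕ) : Minf G M ≤ Iinf G M j :=
  le_iInf fun n => (iInf_le (fun n => Isoc.latImg G n M) n).trans le_sup_left

theorem pPow_le_Iinf (G : N →ₛₗ[σ] N) (M : Submodule W N) (j : ℕ) :
    Isoc.pPow (j : ℤ) M ≤ Iinf G M j :=
  le_iInf fun _ => le_sup_right

theorem Iinf_le_imCh (G : N →ₛₗ[σ] N) (M : Submodule W N) (j n : ℕ) :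
    Iinf G M j ≤ imCh G M j n := iInf_le _ n

theorem Iinf_anti (G : N →ₛₗ[σ] N) (M : Submodule W N) {j j' : ℕ} (h : j ≤ j') :
    Iinf G M j' ≤ Iinf G M j :=
  le_iInf fun n => (Iinf_le_imCh G M j' n).trans
    (sup_le_sup_left (pPow_le_of_le (by exact_mod_cast h) M) _)

theorem imCh_antitone (hσ : Good σ) (G : N →ₛₗ[σ] N) {M : Submodule W N}
    (hGM : Isoc.latImg G 1 M ≤ M) (j : ℕ) : Antitone (imCh G M j) :=
  fun _ _ hab => sup_le_sup_right (latImg_antitone hσ G hGM hab) _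

theorem Iinf_eq [Module.Finite L N] (hσ : Good σ) (G : N →ₛₗ[σ] N) {M : Submodule W N}
    (hGM : Isoc.latImg G 1 M ≤ M) (j : ℕ) :
    ∃ n₀, ∀ n, n₀ ≤ n → Iinf G M j = imCh G M j n := by
  obtain ⟨n₀, hn₀⟩ := antitone_stabilizes j (Λ := M) (imCh G M j) (imCh_antitone hσ G hGM j)
    (fun n => le_sup_right) (fun n => sup_le (latImg_le_self hσ G hGM n) (pPow_nat_le j M))
  refine ⟨n₀, fun n hn => le_antisymm (Iinf_le_imCh G M j n) (le_iInf fun n' => ?_)⟩
  rcases le_total n' n with h | h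
  · exact imCh_antitone hσ G hGM j h
  · rw [hn₀ n hn, hn₀ n' (hn.trans h)]

/-- the kernel chain at level `j` -/
def kerCh (hσ : Good σ) (G : N →ₛₗ[σ] N) (M : Submodule W N) (j n : ℕ) : Submodule W N where
  carrier := {x | x ∈ M ∧ (⇑G)^[n] x ∈ Isoc.pPow (j : ℤ) M}
  add_mem' := fun hx hy =>
    ⟨M.add_mem hx.1 hy.1, by rw [iter_add']; exact Submodule.add_mem _ hx.2 hy.2⟩
  zero_mem' := ⟨M.zero_mem, by rw [iter_zero']; exact Submodule.zero_mem _⟩
  smul_mem' := fun w x hx => ⟨M.smul_mem w hx.1, by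
    obtain ⟨w', hw'⟩ := iter_smul_int hσ G n w x
    rw [hw']; exact Submodule.smul_mem _ _ hx.2⟩

theorem mem_kerCh (hσ : Good σ) (G : N →ₛₗ[σ] N) (M : Submodule W N) (j n : ℕ) {x : N} :
    x ∈ kerCh hσ G M j n ↔ x ∈ M ∧ (⇑G)^[n] x ∈ Isoc.pPow (j : ℤ) M := Iff.rfl

theorem exists_kerCh_stab (hσ : Good σ) (G : N →ₛₗ[σ] N) {M : Submodule W N} (hM : M.FG)
    (hGM : Isoc.latImg G 1 M ≤ M) (j : ℕ) :
    ∃ n₀, ∀ n, n₀ ≤ n → kerCh hσ G M j n = kerCh hσ G M j n₀ :=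
  monotone_stabilizes_of_le hM _ (monotone_nat_of_le_succ fun n x hx => by
    rw [mem_kerCh] at hx ⊢
    refine ⟨hx.1, ?_⟩
    rw [Function.iterate_succ_apply']
    exact iter_mem_pPow hσ G hGM _ 1 hx.2) (fun n x hx => hx.1)

theorem mem_pPow_of_mem_Iinf (hσ : Good σ) (G : N →ₛₗ[σ] N) {M : Submodule W N} (hM : M.FG)
    (hGM : Isoc.latImg G 1 M ≤ M) (j : ℕ) {δ : N} (hδ : δ ∈ Iinf G M j) {m : ℕ}
    (hm : (⇑G)^[m] δ ∈ Isoc.pPow (j : ℤ) M) : δ ∈ Isoc.pPow (j : ℤ) M := by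
  obtain ⟨n₁, hn₁⟩ := exists_kerCh_stab hσ G hM hGM j
  have hδ' : δ ∈ imCh G M j n₁ := Iinf_le_imCh G M j n₁ hδ
  obtain ⟨a, ha, b, hb, rfl⟩ := Submodule.mem_sup.mp hδ'
  obtain ⟨ε, hε, rfl⟩ := exists_of_mem_latImg hσ G n₁ ha
  have h1 : (⇑G)^[m] ((⇑G)^[n₁] ε) ∈ Isoc.pPow (j : ℤ) M := by
    have h2 := iter_mem_pPow hσ G hGM (j : ℤ) m hb
    rw [iter_add'] at hm
    have := Submodule.sub_mem _ hm h2
    rwa [add_sub_cancel_right] at this
  rw [← Function.iterate_add_apply] at h1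
  have h3 : ε ∈ kerCh hσ G M j (m + n₁) := ⟨hε, h1⟩
  rw [hn₁ (m + n₁) (Nat.le_add_left _ _)] at h3
  exact Submodule.add_mem _ h3.2 hb

theorem mem_Minf_of_forall_mem_Iinf [Module.Finite L N] (hσ : Good σ) (G : N →ₛₗ[σ] N)
    (hG : Function.Bijective G) {M : Submodule W N} (hM : M.IsLattice L) {y : N}
    (hy : ∀ j, y ∈ Iinf G M j) : y ∈ Minf G M := by
  rw [Minf, Submodule.mem_iInf]
  intro n
  have hlat := latImg_isLattice hσ G hG n hM
  obtain ⟨c, hc⟩ := exists_pPow_le hM.fg hlat.span_eq_top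
  have h1 : y ∈ imCh G M c n := Iinf_le_imCh G M c n (hy c)
  have h2 : imCh G M c n = Isoc.latImg G n M := sup_eq_left.mpr hc
  rwa [h2] at h1

theorem Iinf_step [Module.Finite L N] (hσ : Good σ) (G : N →ₛₗ[σ] N) {M : Submodule W N}
    (hGM : Isoc.latImg G 1 M ≤ M) (j : ℕ) {x : N} (hx : x ∈ Iinf G M j) :
    ∃ x' ∈ Iinf G M (j + 1), x' - x ∈ Isoc.pPow (j : ℤ) M := by
  obtain ⟨n₁, hn₁⟩ := Iinf_eq hσ G hGM (j + 1)
  have hx' : x ∈ imCh G M j n₁ := Iinf_le_imCh G M j n₁ hx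
  obtain ⟨a, ha, b, hb, rfl⟩ := Submodule.mem_sup.mp hx'
  refine ⟨a, ?_, ?_⟩
  · rw [hn₁ n₁ le_rfl]; exact Submodule.mem_sup_left ha
  · rw [sub_add_cancel_left]; exact Submodule.neg_mem _ hb

theorem latImg_Minf (hσ : Good σ) (G : N →ₛₗ[σ] N) (hG : Function.Injective G)
    {M : Submodule W N} (hGM : Isoc.latImg G 1 M ≤ M) :
    Isoc.latImg G 1 (Minf G M) = Minf G M := by
  apply le_antisymm
  · rw [latImg_le_iff]
    intro x hx
    rw [Minf, Submodule.mem_iInf] at hx ⊢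
    intro n
    have h1 : (⇑G)^[1] x ∈ Isoc.latImg G 1 (Isoc.latImg G n M) := iter_mem_latImg G 1 (hx n)
    rw [← latImg_add hσ G 1 n, Nat.add_comm] at h1
    exact latImg_succ_le hσ G hGM n h1
  · intro y hy
    rw [Minf, Submodule.mem_iInf] at hy
    have key : ∀ n, ∃ z ∈ Isoc.latImg G n M, G z = y := by
      intro n
      obtain ⟨m, hm, hmy⟩ := exists_of_mem_latImg hσ G (n + 1) (hy (n + 1))
      refine ⟨(⇑G)^[n] m, iter_mem_latImg G n hm, ?_⟩
      rw [← hmy, Function.iterate_succ_apply']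
    obtain ⟨z, -, hz⟩ := key 0
    have hzmem : z ∈ Minf G M := by
      rw [Minf, Submodule.mem_iInf]
      intro n
      obtain ⟨z', hz', hz'y⟩ := key n
      have : z' = z := hG (hz'y.trans hz.symm)
      rwa [this] at hz'
    have := iter_mem_latImg G 1 hzmem
    rwa [Function.iterate_one, hz] at this

theorem exists_mem_Minf_not_mem [Module.Finite L N] (hσ : Good σ) (G : N →ₛₗ[σ] N)
    (hG : Function.Bijective G) {M : Submodule W N} (hM : M.IsLattice L)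
    (hGM : Isoc.latImg G 1 M ≤ M) (hnil : ∀ n, ¬ Isoc.latImg G n M ≤ Isoc.pPow 1 M) :
    ∃ y ∈ Minf G M, y ∉ Isoc.pPow 1 M := by
  obtain ⟨n₁, hn₁⟩ := Iinf_eq hσ G hGM 1
  obtain ⟨x₁, hx₁, hx₁'⟩ := SetLike.not_le_iff_exists.mp (hnil n₁)
  have hx₁I : x₁ ∈ Iinf G M 1 := by
    rw [hn₁ n₁ le_rfl]; exact Submodule.mem_sup_left hx₁
  have hM1 := pPow_isLattice 1 hM
  have hcast : ∀ j : ℕ, ((j : ℤ) + 1) = ((j + 1 : ℕ) : ℤ) := fun j => by omega
  obtain ⟨y, hy0, hy⟩ := exists_limit_tower hM1 (fun j => (Iinf G M (j + 1) : Set N))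
    (fun j x hx => by
      obtain ⟨x', hx', hd⟩ := Iinf_step hσ G hGM (j + 1) hx
      refine ⟨x', hx', ?_⟩
      rw [← pPow_add, hcast]
      exact hd) (x₀ := x₁) hx₁I
  refine ⟨y, ?_, ?_⟩
  · apply mem_Minf_of_forall_mem_Iinf hσ G hG hM
    intro j
    obtain ⟨x, hx, hd⟩ := hy j
    have h2 : y - x ∈ Iinf G M (j + 1) := by
      apply pPow_le_Iinf G M (j + 1)
      rw [← pPow_add, hcast] at hd
      exact hd
    have h3 : y ∈ Iinf G M (j + 1) := by
      have := Submodule.add_mem _ h2 hx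
      rwa [sub_add_cancel] at this
    exact Iinf_anti G M (Nat.le_succ j) h3
  · intro hy1
    apply hx₁'
    have := Submodule.sub_mem _ hy1 hy0
    rwa [sub_sub_cancel] at this

theorem Minf_ne_bot [Module.Finite L N] (hσ : Good σ) (G : N →ₛₗ[σ] N)
    (hG : Function.Bijective G) {M : Submodule W N} (hM : M.IsLattice L)
    (hGM : Isoc.latImg G 1 M ≤ M) (hnil : ∀ n, ¬ Isoc.latImg G n M ≤ Isoc.pPow 1 M) :
    Minf G M ≠ ⊥ := by
  obtain ⟨y, hy, hy1⟩ := exists_mem_Minf_not_mem hσ G hG hM hGM hnil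
  intro hbot
  rw [hbot, Submodule.mem_bot] at hy
  exact hy1 (hy ▸ Submodule.zero_mem _)

theorem Tnil_ne_top [Module.Finite L N] (hσ : Good σ) (G : N →ₛₗ[σ] N)
    (hG : Function.Bijective G) {M : Submodule W N} (hM : M.IsLattice L)
    (hGM : Isoc.latImg G 1 M ≤ M) (hnil : ∀ n, ¬ Isoc.latImg G n M ≤ Isoc.pPow 1 M) :
    Tnil hσ G M ≠ ⊤ := by
  intro htop
  obtain ⟨y, hyM, hy1⟩ := exists_mem_Minf_not_mem hσ G hG hM hGM hnil
  have hyT : y ∈ Tnil hσ G M := by rw [htop]; trivial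
  rw [mem_Tnil] at hyT
  obtain ⟨n, hn⟩ := hyT 1
  have := mem_pPow_of_mem_Iinf hσ G hM.fg hGM 1 (Minf_le_Iinf G M 1 hyM) (hn n le_rfl)
  rw [Nat.cast_one] at this
  exact hy1 this

theorem exists_decomp [Module.Finite L N] (hσ : Good σ) (G : N →ₛₗ[σ] N)
    (hG : Function.Bijective G) {M : Submodule W N} (hM : M.IsLattice L)
    (hGM : Isoc.latImg G 1 M ≤ M) {x : N} (hx : x ∈ M) :
    ∃ y ∈ Minf G M, x - y ∈ Tnil hσ G M := by
  let S : ℕ → Set N := fun j =>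
    {y | y ∈ Iinf G M j ∧ ∃ n, (⇑G)^[n] (x - y) ∈ Isoc.pPow (j : ℤ) M}
  have hne : ∀ j, ∃ y, y ∈ S j := by
    intro j
    obtain ⟨n₀, hn₀⟩ := Iinf_eq hσ G hGM j
    have h1 : (⇑G)^[n₀] x ∈ imCh G M j (n₀ + n₀) := by
      rw [← hn₀ (n₀ + n₀) (Nat.le_add_left _ _), hn₀ n₀ le_rfl]
      exact Submodule.mem_sup_left (iter_mem_latImg G n₀ hx)
    obtain ⟨a, ha, b, hb, hab⟩ := Submodule.mem_sup.mp h1
    obtain ⟨w, hw, rfl⟩ := exists_of_mem_latImg hσ G (n₀ + n₀) ha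
    refine ⟨(⇑G)^[n₀] w, ⟨?_, n₀, ?_⟩⟩
    · rw [hn₀ n₀ le_rfl]; exact Submodule.mem_sup_left (iter_mem_latImg G n₀ hw)
    · rw [iter_sub', ← Function.iterate_add_apply, ← hab, add_sub_cancel_left]; exact hb
  have hstep : ∀ j : ℕ, ∀ y ∈ S j, ∃ y' ∈ S (j + 1), y' - y ∈ Isoc.pPow (j : ℤ) M := by
    intro j y hy
    obtain ⟨y', hy'⟩ := hne (j + 1)
    refine ⟨y', hy', ?_⟩
    obtain ⟨hyI, n, hn⟩ := hy
    obtain ⟨hy'I, n', hn'⟩ := hy'
    have hδI : y' - y ∈ Iinf G M j :=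
      Submodule.sub_mem _ (Iinf_anti G M (Nat.le_succ j) hy'I) hyI
    apply mem_pPow_of_mem_Iinf hσ G hM.fg hGM j hδI (m := n + n')
    have e : y' - y = (x - y) - (x - y') := by abel
    rw [e, iter_sub']
    apply Submodule.sub_mem
    · rw [Nat.add_comm n n', Function.iterate_add_apply]
      exact iter_mem_pPow hσ G hGM _ n' hn
    · rw [Function.iterate_add_apply]
      apply iter_mem_pPow hσ G hGM _ n
      exact pPow_le_of_le (by exact_mod_cast Nat.le_succ j) M hn'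
  have hx0 : x ∈ S 0 := by
    refine ⟨pPow_le_Iinf G M 0 ?_, 0, ?_⟩
    · rw [Nat.cast_zero, pPow_zero]; exact hx
    · rw [sub_self]; exact Submodule.zero_mem _
  obtain ⟨y, -, hy⟩ := exists_limit_tower hM S hstep hx0
  refine ⟨y, ?_, ?_⟩
  · apply mem_Minf_of_forall_mem_Iinf hσ G hG hM
    intro j
    obtain ⟨z, ⟨hzI, -⟩, hd⟩ := hy j
    have := Submodule.add_mem _ (pPow_le_Iinf G M j hd) hzI
    rwa [sub_add_cancel] at this
  · rw [mem_Tnil]
    intro j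
    obtain ⟨z, ⟨-, n, hn⟩, hd⟩ := hy j
    refine ⟨n, fun m hm => ?_⟩
    have e : x - y = (x - z) - (y - z) := by abel
    rw [e, iter_sub']
    apply Submodule.sub_mem
    · obtain ⟨t, rfl⟩ := Nat.exists_eq_add_of_le hm
      rw [Nat.add_comm n t, Function.iterate_add_apply]
      exact iter_mem_pPow hσ G hGM _ t hn
    · exact iter_mem_pPow hσ G hGM _ m hd

end Fitting

end H8Isoc
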