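import Mathlib
import Groth.Prelude.Def_Isoc
import Groth.Agent.Lib.helper8.IsocMore

set_option autoImplicit false
set_option linter.unusedSectionVars false
set_option linter.style.haveILetI false

noncomputable section

open scoped Pointwise

namespace H8Isoc

universe u v

variable {p : ℕ} [hp : Fact p.Prime] {k : Type u} [Field k] [CharP k p] [PerfectRing k p]

local notation "W" => WittVector p k
local notation "L" => FractionRing (WittVector p k)

variable {N : Type v} [AddCommGroup N] [Module (WittVector p k) N]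
  [Module (FractionRing (WittVector p k)) N]
  [IsScalarTower (WittVector p k) (FractionRing (WittVector p k)) N]
variable {τ : FractionRing (WittVector p k) →+* FractionRing (WittVector p k)}

/-- A stable subspace of a finite-dimensional space is mapped onto itself by an injective
semilinear map (with bijective twist). -/
theorem exists_preimage_of_stable [Module.Finite L N] {σ : L →+* L} (hσ : Good σ)
    (f : N →ₛₗ[σ] N) (hf : Function.Injective f) (P : Submodule L N)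
    (hP : ∀ x ∈ P, f x ∈ P) : ∀ y ∈ P, ∃ x ∈ P, f x = y := by
  haveI : RingHomSurjective σ := ⟨hσ.bij.surjective⟩
  have hle : P.map f ≤ P := by
    rintro _ ⟨x, hx, rfl⟩; exact hP x hx
  let j₀ : P →+ (P.map f) :=
    { toFun := fun x => ⟨f x, Submodule.mem_map_of_mem x.2⟩
      map_zero' := Subtype.ext (map_zero f)
      map_add' := fun x y => Subtype.ext (map_add f _ _) }
  let j : P ≃+ (P.map f) := AddEquiv.ofBijective j₀
    ⟨fun x y hxy => Subtype.ext (hf (congrArg Subtype.val hxy)),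
     fun ⟨y, hy⟩ => by obtain ⟨x, hx, rfl⟩ := hy; exact ⟨⟨x, hx⟩, rfl⟩⟩
  have hrank : Module.rank L P = Module.rank L (P.map f) :=
    rank_eq_of_equiv_equiv σ j hσ.bij (fun r m => Subtype.ext (map_smulₛₗ f r (m : N)))
  have hfin : Module.finrank L (P.map f) = Module.finrank L P := by
    unfold Module.finrank; rw [hrank]
  have heq : P.map f = P := Submodule.eq_of_le_of_finrank_eq hle hfin
  intro y hy
  rw [← heq] at hy
  obtain ⟨x, hx, rfl⟩ := hy
  exact ⟨x, hx, rfl⟩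

theorem iterate_mem_of_stable (F : N →ₛₗ[τ] N) {P : Submodule L N} (hP : ∀ x ∈ P, F x ∈ P)
    (s : ℕ) {x : N} (hx : x ∈ P) : (⇑F)^[s] x ∈ P := by
  induction s generalizing x with
  | zero => exact hx
  | succ s ih => rw [Function.iterate_succ_apply]; exact ih (hP x hx)

theorem coe_restrict_iterate (F : N →ₛₗ[τ] N) {P : Submodule L N} (hP : ∀ x ∈ P, F x ∈ P)
    (s : ℕ) (y : P) : (((⇑(F.restrict hP))^[s] y : P) : N) = (⇑F)^[s] (y : N) := by
  induction s generalizing y with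
  | zero => rfl
  | succ s ih =>
    rw [Function.iterate_succ_apply, Function.iterate_succ_apply, ih]
    rfl

/-- a generalized commensurability statement -/
theorem exists_pPow_le_of_le_span {M M' : Submodule W N} (hM : M.FG)
    (hM' : (M : Set N) ⊆ Submodule.span L (M' : Set N)) : ∃ c : ℕ, Isoc.pPow (c : ℤ) M ≤ M' := by
  obtain ⟨S, rfl⟩ := hM
  have key : ∀ x : N, ∃ e : ℕ, x ∈ Submodule.span W (S : Set N) → ((p : L) ^ (e : ℤ)) • x ∈ M' := by
    intro x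
    by_cases hx : x ∈ Submodule.span W (S : Set N)
    · obtain ⟨e, he⟩ := exists_pow_smul_mem_of_mem_span (hM' hx)
      exact ⟨e, fun _ => he⟩
    · exact ⟨0, fun h => absurd h hx⟩
  choose e he using key
  refine ⟨S.sup e, ?_⟩
  intro y hy
  rw [mem_pPow] at hy
  have h2 : ∀ z ∈ Submodule.span W (S : Set N), ((p : L) ^ ((S.sup e : ℕ) : ℤ)) • z ∈ M' := by
    intro z hz
    induction hz using Submodule.span_induction with
    | mem z hz =>
      have hle : e z ≤ S.sup e := Finset.le_sup (f := e) (Finset.mem_coe.mp hz)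
      obtain ⟨d, hd⟩ := Nat.exists_eq_add_of_le hle
      have : ((p : L) ^ ((S.sup e : ℕ) : ℤ)) • z =
          ((p : L) ^ (d : ℤ)) • (((p : L) ^ (e z : ℤ)) • z) := by
        rw [smul_smul, ← zpow_add₀ pL_ne_zero, hd, ← Nat.cast_add, Nat.add_comm d (e z)]
      rw [this, natpow_smul]; exact M'.smul_mem _ (he z (Submodule.subset_span hz))
    | zero => simp
    | add x y _ _ hx hy => rw [smul_add]; exact M'.add_mem hx hy
    | smul w x _ hx => rw [smul_comm]; exact M'.smul_mem _ hx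
  have := h2 _ hy
  rwa [smul_smul, ← zpow_add₀ pL_ne_zero, add_neg_cancel, zpow_zero, one_smul] at this

/-- Internal form of "isoclinic of slope `μ`" for a subspace `P`. -/
def IsoIn (F : N →ₛₗ[τ] N) (μ : ℚ) (P : Submodule L N) : Prop :=
  ∃ Λ : Submodule W N, Λ.FG ∧ Submodule.span L (Λ : Set N) = P ∧
    ∃ (r : ℤ) (s : ℕ), 0 < s ∧ (r : ℚ) / s = μ ∧ Isoc.latImg F s Λ = Isoc.pPow r Λ

theorem isoIn_top_of_isIsoclinic {F : N →ₛₗ[τ] N} {μ : ℚ} (h : Isoc.IsIsoclinic F μ) :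
    IsoIn F μ ⊤ := by
  obtain ⟨M, hM, r, s, hs, hμ, hFM⟩ := h
  exact ⟨M, hM.fg, hM.span_eq_top, r, s, hs, hμ, hFM⟩

theorem isIsoclinic_of_isoIn_top {F : N →ₛₗ[τ] N} {μ : ℚ} (h : IsoIn F μ ⊤) :
    Isoc.IsIsoclinic F μ := by
  obtain ⟨M, hM, hspan, r, s, hs, hμ, hFM⟩ := h
  exact ⟨M, ⟨hM, hspan⟩, r, s, hs, hμ, hFM⟩

section Transfer

variable (P : Submodule (FractionRing (WittVector p k)) N)

/-- the `W`-linear inclusion of a subspace -/
def incl : P →ₗ[W] N := P.subtype.restrictScalars W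

theorem incl_apply (y : P) : incl P y = (y : N) := rfl

theorem incl_injective : Function.Injective (incl P) := Subtype.val_injective

theorem map_incl_pPow (r : ℤ) (M' : Submodule W P) :
    (Isoc.pPow r M').map (incl P) = Isoc.pPow r (M'.map (incl P)) := by
  ext x
  rw [mem_pPow]
  constructor
  · rintro ⟨y, hy, rfl⟩
    rw [SetLike.mem_coe, mem_pPow] at hy
    exact ⟨_, hy, rfl⟩
  · rintro ⟨z, hz, hzx⟩
    refine ⟨((p : L) ^ r) • z, smul_mem_pPow hz, ?_⟩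
    rw [incl_apply] at hzx ⊢
    rw [Submodule.coe_smul, hzx, smul_smul, ← zpow_add₀ pL_ne_zero, add_neg_cancel, zpow_zero,
      one_smul]

theorem map_incl_latImg (F : N →ₛₗ[τ] N) (hP : ∀ x ∈ P, F x ∈ P) (s : ℕ) (M' : Submodule W P) :
    (Isoc.latImg (F.restrict hP) s M').map (incl P) = Isoc.latImg F s (M'.map (incl P)) := by
  unfold Isoc.latImg
  rw [Submodule.map_span, Submodule.map_coe, Set.image_image, Set.image_image]
  congr 1
  exact Set.image_congr' (fun y => coe_restrict_iterate F hP s y)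

theorem span_map_incl (M' : Submodule W P) :
    Submodule.span L ((M'.map (incl P) : Submodule W N) : Set N) =
      (Submodule.span L (M' : Set P)).map P.subtype := by
  rw [Submodule.map_span, Submodule.map_coe]
  rfl

theorem isoIn_of_isIsoclinic_restrict {F : N →ₛₗ[τ] N} (hP : ∀ x ∈ P, F x ∈ P) {μ : ℚ}
    (h : Isoc.IsIsoclinic (F.restrict hP) μ) : IsoIn F μ P := by
  obtain ⟨M', hM', r, s, hs, hμ, hFM⟩ := h
  refine ⟨M'.map (incl P), hM'.fg.map _, ?_, r, s, hs, hμ, ?_⟩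
  · rw [span_map_incl, hM'.span_eq_top, Submodule.map_top, Submodule.range_subtype]
  · rw [← map_incl_latImg P F hP, hFM, map_incl_pPow]

theorem isIsoclinic_restrict_of_isoIn {F : N →ₛₗ[τ] N} (hP : ∀ x ∈ P, F x ∈ P) {μ : ℚ}
    (h : IsoIn F μ P) : Isoc.IsIsoclinic (F.restrict hP) μ := by
  obtain ⟨Λ, hΛ, hspan, r, s, hs, hμ, hFΛ⟩ := h
  have hΛP : ∀ x ∈ Λ, x ∈ P := fun x hx => by
    rw [← hspan]; exact Submodule.subset_span hx
  have hmap : (Λ.comap (incl P)).map (incl P) = Λ := by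
    apply Submodule.map_comap_eq_of_le
    intro x hx
    exact ⟨⟨x, hΛP x hx⟩, rfl⟩
  refine ⟨Λ.comap (incl P), ⟨?_, ?_⟩, r, s, hs, hμ, ?_⟩
  · exact Submodule.fg_of_fg_map_injective (incl P) (incl_injective P) (by rw [hmap]; exact hΛ)
  · apply Submodule.map_injective_of_injective (f := P.subtype) P.injective_subtype
    rw [← span_map_incl, hmap, hspan, Submodule.map_top, Submodule.range_subtype]
  · apply Submodule.map_injective_of_injective (f := incl P) (incl_injective P)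
    rw [map_incl_latImg P F hP, map_incl_pPow, hmap, hFΛ]

end Transfer

/-! ### internal lemmas -/

theorem IsoIn.bot (F : N →ₛₗ[τ] N) (μ : ℚ) : IsoIn F μ ⊥ := by
  refine ⟨⊥, Submodule.fg_bot, ?_, μ.num, μ.den, μ.den_pos, Rat.num_div_den μ, ?_⟩
  · rw [Submodule.bot_coe, Submodule.span_zero_singleton]
  · have h1 : Isoc.latImg F μ.den (⊥ : Submodule W N) = ⊥ := by
      rw [eq_bot_iff, latImg_le_iff]
      intro m hm
      rw [(Submodule.mem_bot _).mp hm, iter_zero']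
      exact Submodule.zero_mem _
    rw [h1]
    exact (Submodule.smul_bot' _).symm

theorem IsoIn.sup (hτ : Good τ) {F : N →ₛₗ[τ] N} {μ : ℚ} {P₁ P₂ : Submodule L N}
    (h₁ : IsoIn F μ P₁) (h₂ : IsoIn F μ P₂) : IsoIn F μ (P₁ ⊔ P₂) := by
  obtain ⟨Λ₁, hΛ₁, hsp₁, r₁, s₁, hs₁, hμ₁, hF₁⟩ := h₁
  obtain ⟨Λ₂, hΛ₂, hsp₂, r₂, s₂, hs₂, hμ₂, hF₂⟩ := h₂
  have hs₁' : (s₁ : ℚ) ≠ 0 := by exact_mod_cast hs₁.ne'
  have hs₂' : (s₂ : ℚ) ≠ 0 := by exact_mod_cast hs₂.ne'
  have hcross : r₁ * (s₂ : ℤ) = r₂ * (s₁ : ℤ) := by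
    have h := hμ₁.trans hμ₂.symm
    rw [div_eq_div_iff hs₁' hs₂'] at h
    exact_mod_cast h
  refine ⟨Λ₁ ⊔ Λ₂, hΛ₁.sup hΛ₂, ?_, r₁ * s₂, s₁ * s₂, Nat.mul_pos hs₁ hs₂, ?_, ?_⟩
  · apply le_antisymm
    · rw [Submodule.span_le]
      intro x hx
      obtain ⟨a, ha, b, hb, rfl⟩ := Submodule.mem_sup.mp hx
      refine Submodule.add_mem _ (Submodule.mem_sup_left ?_) (Submodule.mem_sup_right ?_)
      · rw [← hsp₁]; exact Submodule.subset_span ha
      · rw [← hsp₂]; exact Submodule.subset_span hb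
    · rw [← hsp₁, ← hsp₂]
      exact sup_le (Submodule.span_mono (fun x hx => (le_sup_left : Λ₁ ≤ Λ₁ ⊔ Λ₂) hx))
        (Submodule.span_mono (fun x hx => (le_sup_right : Λ₂ ≤ Λ₁ ⊔ Λ₂) hx))
  · rw [← hμ₁]
    push_cast
    rw [mul_div_mul_right _ _ hs₂']
  · have e1 := latImg_eq_pPow_mul hτ F hF₁ s₂
    have e2 := latImg_eq_pPow_mul hτ F hF₂ s₁
    rw [Nat.mul_comm s₂ s₁, ← hcross] at e2
    rw [latImg_sup, pPow_sup, e1, e2]

theorem IsoIn.of_le [Module.Finite L N] (hτ : Good τ) {F : N →ₛₗ[τ] N}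
    (hF : Function.Injective F) {μ : ℚ} {Q P : Submodule L N} (h : IsoIn F μ Q) (hPQ : P ≤ Q)
    (hP : ∀ x ∈ P, F x ∈ P) : IsoIn F μ P := by
  obtain ⟨Λ, hΛ, hspan, r, s, hs, hμ, hFΛ⟩ := h
  have hmemP : ∀ {c : L} {x : N}, x ∈ P → c • x ∈ P := fun hx => P.smul_mem _ hx
  refine ⟨Λ ⊓ P.restrictScalars W, ?_, ?_, r, s, hs, hμ, ?_⟩
  · haveI : IsNoetherian W Λ := isNoetherian_of_fg_of_noetherian Λ hΛ
    haveI : IsNoetherian W (Λ ⊓ P.restrictScalars W : Submodule W N) :=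
      isNoetherian_of_le inf_le_left
    exact Module.Finite.iff_fg.mp inferInstance
  · apply le_antisymm
    · rw [Submodule.span_le]
      intro x hx
      exact hx.2
    · intro x hx
      have hxQ : x ∈ Submodule.span L (Λ : Set N) := by rw [hspan]; exact hPQ hx
      obtain ⟨e, he⟩ := exists_pow_smul_mem_of_mem_span hxQ
      have h1 : ((p : L) ^ (e : ℤ)) • x ∈ (Λ ⊓ P.restrictScalars W : Submodule W N) :=
        ⟨he, hmemP hx⟩
      have h2 := Submodule.smul_mem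
        (Submodule.span L ((Λ ⊓ P.restrictScalars W : Submodule W N) : Set N))
        ((p : L) ^ (-(e : ℤ))) (Submodule.subset_span h1)
      rwa [smul_smul, ← zpow_add₀ pL_ne_zero, neg_add_cancel, zpow_zero, one_smul] at h2
  · apply le_antisymm
    · rw [latImg_le_iff]
      intro y hy
      rw [mem_pPow]
      have h1 : (⇑F)^[s] y ∈ Isoc.latImg F s Λ := iter_mem_latImg F s hy.1
      rw [hFΛ, mem_pPow] at h1
      exact ⟨h1, hmemP (iterate_mem_of_stable F hP s hy.2)⟩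
    · intro y hy
      rw [mem_pPow] at hy
      have hyP : y ∈ P := by
        have := hmemP (c := (p : L) ^ r) hy.2
        rwa [smul_smul, ← zpow_add₀ pL_ne_zero, add_neg_cancel, zpow_zero, one_smul] at this
      have h1 : y ∈ Isoc.pPow r Λ := by rw [mem_pPow]; exact hy.1
      rw [← hFΛ] at h1
      obtain ⟨m, hm, hmy⟩ := exists_of_mem_latImg hτ F s h1
      obtain ⟨m', hm'P, hm'⟩ := exists_preimage_of_stable (hτ.pow s) (Isoc.iter F s)
        (hF.iterate s) P (fun x hx => iterate_mem_of_stable F hP s hx) y hyP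
      have hmm : m = m' := (hF.iterate s) (hmy.trans hm'.symm)
      rw [← hmy]
      exact iter_mem_latImg F s ⟨hm, hmm ▸ hm'P⟩

theorem IsoIn.unique (hτ : Good τ) {F : N →ₛₗ[τ] N} {μ μ' : ℚ} {P : Submodule L N}
    (h : IsoIn F μ P) (h' : IsoIn F μ' P) (hP : P ≠ ⊥) : μ = μ' := by
  obtain ⟨Λ₁, hΛ₁, hsp₁, r₁, s₁, hs₁, hμ₁, hF₁⟩ := h
  obtain ⟨Λ₂, hΛ₂, hsp₂, r₂, s₂, hs₂, hμ₂, hF₂⟩ := h'
  have hne₁ : Λ₁ ≠ ⊥ := by
    rintro rfl
    rw [Submodule.bot_coe, Submodule.span_zero_singleton] at hsp₁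
    exact hP hsp₁.symm
  have hne₂ : Λ₂ ≠ ⊥ := by
    rintro rfl
    rw [Submodule.bot_coe, Submodule.span_zero_singleton] at hsp₂
    exact hP hsp₂.symm
  obtain ⟨c, hc⟩ := exists_pPow_le_of_le_span (M := Λ₁) (M' := Λ₂) hΛ₁ (by
    rw [hsp₂, ← hsp₁]; exact Submodule.subset_span)
  obtain ⟨c', hc'⟩ := exists_pPow_le_of_le_span (M := Λ₂) (M' := Λ₁) hΛ₂ (by
    rw [hsp₁, ← hsp₂]; exact Submodule.subset_span)
  have key : ∀ (Λ Λ' : Submodule W N) (a b : ℤ) (s : ℕ) (c c' : ℕ), Λ.FG → Λ ≠ ⊥ →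
      Isoc.pPow (c : ℤ) Λ ≤ Λ' → Isoc.pPow (c' : ℤ) Λ' ≤ Λ →
      (∀ n : ℕ, Isoc.latImg F (s * n) Λ = Isoc.pPow (a * n) Λ) →
      (∀ n : ℕ, Isoc.latImg F (s * n) Λ' = Isoc.pPow (b * n) Λ') →
      ∀ n : ℕ, (b - a) * n ≤ (c : ℤ) + c' := by
    intro Λ Λ' a b s c c' hfg hne hc hc' hA hB n
    have h1 : Isoc.pPow ((c : ℤ) + a * n) Λ ≤ Isoc.pPow (b * n + -(c' : ℤ)) Λ := by
      calc Isoc.pPow ((c : ℤ) + a * n) Λ = Isoc.latImg F (s * n) (Isoc.pPow (c : ℤ) Λ) := by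
            rw [latImg_pPow, hA n, ← pPow_add]
        _ ≤ Isoc.latImg F (s * n) Λ' := latImg_mono F _ hc
        _ = Isoc.pPow (b * n) Λ' := hB n
        _ ≤ Isoc.pPow (b * n) (Isoc.pPow (-(c' : ℤ)) Λ) := by
            apply pPow_mono
            rw [le_pPow_iff, neg_neg]; exact hc'
        _ = Isoc.pPow (b * n + -(c' : ℤ)) Λ := (pPow_add _ _ _).symm
    have := le_of_pPow_le_pPow hfg hne h1
    linarith
  have hA : ∀ n : ℕ, Isoc.latImg F (s₁ * s₂ * n) Λ₁ = Isoc.pPow (r₁ * s₂ * n) Λ₁ := fun n =>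
    latImg_eq_pPow_mul hτ F (latImg_eq_pPow_mul hτ F hF₁ s₂) n
  have hB : ∀ n : ℕ, Isoc.latImg F (s₁ * s₂ * n) Λ₂ = Isoc.pPow (r₂ * s₁ * n) Λ₂ := fun n => by
    have := latImg_eq_pPow_mul hτ F (latImg_eq_pPow_mul hτ F hF₂ s₁) n
    rwa [Nat.mul_comm s₂ s₁] at this
  have k1 := key Λ₁ Λ₂ (r₁ * s₂) (r₂ * s₁) (s₁ * s₂) c c' hΛ₁ hne₁ hc hc' hA hB (c + c' + 1)
  have k2 := key Λ₂ Λ₁ (r₂ * s₁) (r₁ * s₂) (s₁ * s₂) c' c hΛ₂ hne₂ hc' hc hB hA (c + c' + 1)
  have hcross : r₁ * (s₂ : ℤ) = r₂ * (s₁ : ℤ) := by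
    push_cast at k1 k2
    nlinarith
  have hs₁' : (s₁ : ℚ) ≠ 0 := by exact_mod_cast hs₁.ne'
  have hs₂' : (s₂ : ℚ) ≠ 0 := by exact_mod_cast hs₂.ne'
  rw [← hμ₁, ← hμ₂, div_eq_div_iff hs₁' hs₂']
  exact_mod_cast hcross

end H8Isoc
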