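import Mathlib
import Groth.Prelude.Def_Isoc
import Groth.Agent.Lib.helper8.IsocSub

set_option autoImplicit false
set_option linter.unusedSectionVars false
set_option linter.style.haveILetI false

noncomputable section

open scoped Pointwise

namespace H8Isoc

universe u v w

variable {p : ℕ} [hp : Fact p.Prime] {k : Type u} [Field k] [CharP k p] [PerfectRing k p]

local notation "W" => WittVector p k
local notation "L" => FractionRing (WittVector p k)

variable {N₁ : Type v} [AddCommGroup N₁] [Module (WittVector p k) N₁]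
  [Module (FractionRing (WittVector p k)) N₁]
  [IsScalarTower (WittVector p k) (FractionRing (WittVector p k)) N₁]
variable {N₂ : Type w} [AddCommGroup N₂] [Module (WittVector p k) N₂]
  [Module (FractionRing (WittVector p k)) N₂]
  [IsScalarTower (WittVector p k) (FractionRing (WittVector p k)) N₂]
variable {τ : FractionRing (WittVector p k) →+* FractionRing (WittVector p k)}

theorem iterate_comm_of_comm (F₁ : N₁ →ₛₗ[τ] N₁) (F₂ : N₂ →ₛₗ[τ] N₂) (f : N₁ →ₗ[L] N₂)
    (hf : ∀ x, f (F₁ x) = F₂ (f x)) (n : ℕ) (x : N₁) :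
    f ((⇑F₁)^[n] x) = (⇑F₂)^[n] (f x) := by
  induction n generalizing x with
  | zero => rfl
  | succ n ih => rw [Function.iterate_succ_apply, Function.iterate_succ_apply, ih, hf]

theorem latImg_map_of_comm (F₁ : N₁ →ₛₗ[τ] N₁) (F₂ : N₂ →ₛₗ[τ] N₂) (f : N₁ →ₗ[L] N₂)
    (hf : ∀ x, f (F₁ x) = F₂ (f x)) (s : ℕ) (M : Submodule W N₁) :
    Isoc.latImg F₂ s (M.map (f.restrictScalars W)) =
      (Isoc.latImg F₁ s M).map (f.restrictScalars W) := by
  unfold Isoc.latImg
  rw [Submodule.map_span, Submodule.map_coe, Set.image_image, Set.image_image]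
  congr 1
  exact Set.image_congr' (fun y => (iterate_comm_of_comm F₁ F₂ f hf s y).symm)

theorem map_pPow_linear (f : N₁ →ₗ[L] N₂) (r : ℤ) (M : Submodule W N₁) :
    (Isoc.pPow r M).map (f.restrictScalars W) = Isoc.pPow r (M.map (f.restrictScalars W)) := by
  ext x
  rw [mem_pPow]
  constructor
  · rintro ⟨y, hy, rfl⟩
    rw [SetLike.mem_coe, mem_pPow] at hy
    exact ⟨_, hy, map_smul f _ y⟩
  · rintro ⟨z, hz, hzx⟩
    refine ⟨((p : L) ^ r) • z, smul_mem_pPow hz, ?_⟩
    have hzx' : f z = ((p : L) ^ (-r)) • x := hzx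
    show f (((p : L) ^ r) • z) = x
    rw [map_smul, hzx', smul_smul, ← zpow_add₀ pL_ne_zero, add_neg_cancel, zpow_zero, one_smul]

theorem IsoIn.map {F₁ : N₁ →ₛₗ[τ] N₁} {F₂ : N₂ →ₛₗ[τ] N₂} (f : N₁ →ₗ[L] N₂)
    (hf : ∀ x, f (F₁ x) = F₂ (f x)) {μ : ℚ} {Q : Submodule L N₁} (h : IsoIn F₁ μ Q) :
    IsoIn F₂ μ (Q.map f) := by
  obtain ⟨Λ, hΛ, hspan, r, s, hs, hμ, hFΛ⟩ := h
  refine ⟨Λ.map (f.restrictScalars W), hΛ.map _, ?_, r, s, hs, hμ, ?_⟩
  · rw [Submodule.map_coe]
    show Submodule.span L (⇑f '' (Λ : Set N₁)) = Q.map f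
    rw [← Submodule.map_span, hspan]
  · rw [latImg_map_of_comm F₁ F₂ f hf, hFΛ, map_pPow_linear]

end H8Isoc
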