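import Mathlib
import Groth.Prelude.Def_Isoc
import Groth.Agent.Lib.helper8.IsocDet

set_option autoImplicit false
set_option linter.unusedSectionVars false
set_option linter.style.haveILetI false

noncomputable section

open scoped Pointwise

namespace H8Isoc

universe u v

variable {p : ℕ} [hp : Fact p.Prime] {k : Type u} [Field k] [CharP k p] [PerfectRing k p]

local notation "W" => WittVector p k
local notation "L" => FractionRing (WittVector p k)

variable {N : Type v} [AddCommGroup N] [Module (WittVector p k) N]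
  [Module (FractionRing (WittVector p k)) N]
  [IsScalarTower (WittVector p k) (FractionRing (WittVector p k)) N]
variable {τ : FractionRing (WittVector p k) →+* FractionRing (WittVector p k)}
variable {h : ℕ}

theorem exists_int_matrix {e : Module.Basis (Fin h) L N} {M : Submodule W N}
    (he2 : ∀ m ∈ M, ∀ i, ∃ w : W, e.repr m i = algebraMap W L w)
    (f : N → N) (r : ℤ) (hf : ∀ j, f (e j) ∈ Isoc.pPow r M) :
    ∃ w : Matrix (Fin h) (Fin h) W, (∀ i j, mat e f i j = ((p : L) ^ r) * algebraMap W L (w i j)) ∧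
      (mat e f).det = ((p : L) ^ (r * h)) * algebraMap W L w.det := by
  have key : ∀ i j, ∃ w : W, mat e f i j = ((p : L) ^ r) * algebraMap W L w := by
    intro i j
    have h1 := hf j
    rw [mem_pPow] at h1
    obtain ⟨w, hw⟩ := he2 _ h1 i
    refine ⟨w, ?_⟩
    rw [map_smul, Finsupp.smul_apply, smul_eq_mul] at hw
    rw [← hw, mat_apply, ← mul_assoc, ← zpow_add₀ pL_ne_zero, add_neg_cancel, zpow_zero, one_mul]
  choose w hw using key
  refine ⟨Matrix.of w, hw, ?_⟩
  have hmat : mat e f = ((p : L) ^ r) • (algebraMap W L).mapMatrix (Matrix.of w) := by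
    ext i j
    rw [hw i j]
    rfl
  rw [hmat, Matrix.det_smul, Fintype.card_fin, ← RingHom.map_det, ← zpow_natCast, ← zpow_mul]

/-- If `F^s M ⊆ p^r M` and the determinant has exactly the right order, equality holds. -/
theorem latImg_eq_of_le_of_ord (hτ : Good τ) (F : N →ₛₗ[τ] N) (b : Module.Basis (Fin h) L N)
    {d' : ℤ} (hd : Isoc.IsOrdP (Isoc.detCoeff b F) d') {M : Submodule W N} (hM : M.IsLattice L)
    {s : ℕ} {r : ℤ} (hle : Isoc.latImg F s M ≤ Isoc.pPow r M) (heq : r * h = s * d') :
    Isoc.latImg F s M = Isoc.pPow r M := by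
  apply le_antisymm hle
  obtain ⟨e, he1, he2⟩ := exists_lattice_basis b hM
  have h1 : Isoc.IsOrdP (mat b ((⇑F)^[s])).det (s * d') := isOrdP_det_iter hτ b F hd s
  have h2 : Isoc.IsOrdP (mat e ((⇑F)^[s])).det (s * d') :=
    isOrdP_det_basis_change (hτ.pow s) (Isoc.iter F s) b e h1
  obtain ⟨w, hw, hdet⟩ := exists_int_matrix he2 ((⇑F)^[s]) r
    (fun j => (latImg_le_iff F s).mp hle _ (he1 j))
  have hw0 : w.det ≠ 0 := by
    intro h0
    rw [h0, map_zero, mul_zero] at hdet
    exact IsOrdP.ne_zero h2 hdet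
  obtain ⟨m, hm⟩ := exists_isOrdP_int w.det hw0
  have h3 : Isoc.IsOrdP (mat e ((⇑F)^[s])).det (r * h + m) := by
    rw [hdet]; exact IsOrdP.mul (isOrdP_zpow _) hm
  have hm0 : m = 0 := by
    have := IsOrdP.unique h2 h3
    omega
  have hunit : IsUnit w.det := by
    obtain ⟨u, hu⟩ := hm
    rw [hm0, Nat.cast_zero, zpow_zero, one_mul] at hu
    rw [IsFractionRing.injective W L hu]; exact u.isUnit
  intro y hy
  rw [mem_pPow] at hy
  have hc : ∀ i, ∃ c : W, e.repr (((p : L) ^ (-r)) • y) i = algebraMap W L c := he2 _ hy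
  choose c hc using hc
  let z : Fin h → W := w⁻¹.mulVec c
  have hz : w.mulVec z = c := by
    rw [Matrix.mulVec_mulVec, Matrix.mul_nonsing_inv w hunit, Matrix.one_mulVec]
  have hx : ∀ j, ∃ x : W, (τ ^ s) (algebraMap W L x) = algebraMap W L (z j) := fun j =>
    (hτ.pow s).surj_int (z j)
  choose x hx using hx
  have hxM : (∑ j, x j • e j) ∈ M := Submodule.sum_mem _ fun j _ => M.smul_mem _ (he1 j)
  have hrepr : ∀ j, e.repr (∑ j, x j • e j) j = algebraMap W L (x j) := by
    intro j
    have : (∑ j, x j • e j) = ∑ j, algebraMap W L (x j) • e j :=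
      Finset.sum_congr rfl fun j _ => (algebraMap_smul L (x j) (e j)).symm
    rw [this, Module.Basis.repr_sum_self]
  have hFx : (⇑F)^[s] (∑ j, x j • e j) = ((p : L) ^ r) • (((p : L) ^ (-r)) • y) := by
    apply e.repr.injective
    ext i
    have h5 := repr_map e (Isoc.iter F s) (∑ j, x j • e j) i
    rw [Isoc.iter_apply] at h5
    rw [h5, map_smul, Finsupp.smul_apply, hc i, smul_eq_mul]
    have h6 : ∀ j, mat e (⇑(Isoc.iter F s)) i j * (τ ^ s) (e.repr (∑ j, x j • e j) j) =
        ((p : L) ^ r) * algebraMap W L (w i j * z j) := by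
      intro j
      rw [hrepr j, hx j, map_mul, ← mul_assoc]
      congr 1
      exact hw i j
    rw [Finset.sum_congr rfl fun j _ => h6 j, ← Finset.mul_sum, ← map_sum]
    congr 2
    exact congrFun hz i
  rw [smul_smul, ← zpow_add₀ pL_ne_zero, add_neg_cancel, zpow_zero, one_smul] at hFx
  rw [← hFx]
  exact iter_mem_latImg F s hxM

end H8Isoc
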