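import Mathlib
import Groth.Prelude.Def_Isoc
import Groth.Agent.Lib.helper8.IsocFit
import Groth.Agent.Lib.helper8.IsocMap
import Groth.Agent.Lib.helper8.IsocSub
import Groth.Agent.Lib.helper8.IsocMore
import Groth.Agent.S17141
import Groth.Agent.S17142
import Groth.Agent.S17146
import Groth.Agent.S17151

/-!
# The slope decomposition (helper8)
-/

set_option autoImplicit false
set_option linter.unusedSectionVars false

noncomputable section

open scoped Pointwise

namespace H8Isoc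

universe u v

variable {p : ℕ} [hp : Fact p.Prime] {k : Type u} [Field k] [CharP k p] [PerfectRing k p]

local notation "W" => WittVector p k
local notation "L" => FractionRing (WittVector p k)

variable {N : Type v} [AddCommGroup N] [Module (WittVector p k) N]
  [Module (FractionRing (WittVector p k)) N]
  [IsScalarTower (WittVector p k) (FractionRing (WittVector p k)) N]
variable {τ : FractionRing (WittVector p k) →+* FractionRing (WittVector p k)}

theorem det_mat_ne_zero_of_surjective {h : ℕ}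
    (b : Module.Basis (Fin h) (FractionRing (WittVector p k)) N)
    {σ : FractionRing (WittVector p k) →+* FractionRing (WittVector p k)}
    (f : N →ₛₗ[σ] N) (hf : Function.Surjective f) : (mat b ⇑f).det ≠ 0 := by
  choose x hx using fun j => hf (b j)
  have h1 : mat b (fun y => f ((b.constr (FractionRing (WittVector p k)) x) y)) = 1 := by
    ext i j
    rw [mat_apply]
    show b.repr (f ((b.constr (FractionRing (WittVector p k)) x) (b j))) i = _
    rw [b.constr_basis, hx j, b.repr_self, Matrix.one_apply, Finsupp.single_apply]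
    simp only [eq_comm]
  have h3 : (1 : Matrix (Fin h) (Fin h) (FractionRing (WittVector p k))) = _ :=
    h1.symm.trans (mat_comp b f _)
  intro h0
  have h2 := congrArg Matrix.det h3
  rw [Matrix.det_mul, h0, zero_mul, Matrix.det_one] at h2
  exact one_ne_zero h2

theorem exists_lattice [Module.Finite L N] : ∃ M : Submodule W N, M.IsLattice L := by
  obtain ⟨h, hh⟩ : ∃ h, Module.finrank L N = h := ⟨_, rfl⟩
  let b : Module.Basis (Fin h) L N := Module.finBasisOfFinrankEq L N hh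
  refine ⟨Submodule.span W (Set.range b), ⟨Submodule.fg_span (Set.finite_range _), ?_⟩⟩
  rw [Submodule.span_span_of_tower, b.span_eq]

theorem stable_finset_sup (F : N →ₛₗ[τ] N) (t : Finset (Submodule L N))
    (h : ∀ Q ∈ t, ∀ x ∈ Q, F x ∈ Q) : ∀ x ∈ t.sup id, F x ∈ t.sup id := by
  classical
  induction t using Finset.induction_on with
  | empty =>
    intro x hx
    rw [Finset.sup_empty, Submodule.mem_bot] at hx
    rw [hx, map_zero]; exact Submodule.zero_mem _
  | insert Q t hQt ih =>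
    intro x hx
    rw [Finset.sup_insert, id] at hx ⊢
    obtain ⟨a', ha, b, hb, rfl⟩ := Submodule.mem_sup.mp hx
    rw [map_add]
    exact Submodule.add_mem _ (Submodule.mem_sup_left (h Q (Finset.mem_insert_self Q t) a' ha))
      (Submodule.mem_sup_right (ih (fun Q' hQ' => h Q' (Finset.mem_insert_of_mem hQ')) b hb))

theorem le_slopePart_of_isoIn (F : N →ₛₗ[τ] N) {μ : ℚ} {P : Submodule L N}
    (hP : ∀ x ∈ P, F x ∈ P) (h : IsoIn F μ P) : P ≤ Isoc.slopePart F μ :=
  le_sSup ⟨hP, isIsoclinic_restrict_of_isoIn P hP h⟩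

section Frob

variable (a : ℤ)

theorem le_firstSlope_of_latImg_le (F : N →ₛₗ[Isoc.frob p k a] N) (hF : Isoc.IsIsoc F)
    {lam : ℝ} (hlam : Isoc.IsFirstSlope F lam) {M : Submodule W N} (hM : M.IsLattice L)
    {m : ℕ} (hm : 0 < m) {t : ℤ} (hle : Isoc.latImg F m M ≤ Isoc.pPow t M) :
    (t : ℝ) / m ≤ lam := by
  have hτ := good_frob (p := p) (k := k) a
  obtain ⟨M0, hM0, o0, ho0, hlim0⟩ := id hlam
  have hM0ne : M0 ≠ ⊥ := ne_bot_of_isOrd (ho0 1 le_rfl)
  haveI : Nontrivial N := by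
    obtain ⟨x, _, hx⟩ := Submodule.exists_mem_ne_zero_of_ne_bot hM0ne
    exact ⟨⟨x, 0, hx⟩⟩
  obtain ⟨o₂, ho₂, lam₂, hlim₂⟩ := Groth.Agent.S17141.result p k a N F hF M hM
  have hlam₂ : lam = lam₂ := Groth.Agent.S17142.result p k a N F hF M0 M hM0 hM o0 o₂ ho0 ho₂
    lam lam₂ hlim0 hlim₂
  have hmul : ∀ n : ℕ, Isoc.latImg F (m * n) M ≤ Isoc.pPow (t * n) M := fun n =>
    latImg_le_pPow_mul hτ F hle n
  have hge : ∀ n : ℕ, 1 ≤ n → t * n ≤ o₂ (m * n) := fun n hn =>
    IsOrd.le_of_le (ho₂ (m * n) (Nat.mul_pos hm hn)) (hmul n)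
  have hmulT : Filter.Tendsto (fun n : ℕ => m * n) Filter.atTop Filter.atTop :=
    Filter.tendsto_atTop_mono (fun n => le_mul_of_one_le_left (Nat.zero_le n) hm)
      Filter.tendsto_id
  have hcomp : Filter.Tendsto (fun n : ℕ => (o₂ (m * n) : ℝ) / ((m * n : ℕ) : ℝ))
      Filter.atTop (nhds lam₂) := hlim₂.comp hmulT
  rw [hlam₂]
  refine ge_of_tendsto hcomp ?_
  filter_upwards [Filter.eventually_ge_atTop 1] with n hn
  have hn' : (0 : ℝ) < n := by exact_mod_cast hn
  have hmR : (0 : ℝ) < m := by exact_mod_cast hm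
  have h5 : ((t * n : ℤ) : ℝ) ≤ ((o₂ (m * n) : ℤ) : ℝ) := by exact_mod_cast hge n hn
  push_cast at h5 ⊢
  rw [div_le_div_iff₀ hmR (mul_pos hmR hn')]
  nlinarith [mul_le_mul_of_nonneg_left h5 hmR.le]

theorem isIsoc_restrict (F : N →ₛₗ[Isoc.frob p k a] N) (hF : Isoc.IsIsoc F)
    {T : Submodule L N} (hT : ∀ x ∈ T, F x ∈ T) : Isoc.IsIsoc (F.restrict hT) := by
  haveI := hF.finite
  have hτ := good_frob (p := p) (k := k) a
  refine ⟨inferInstance, ?_, ?_⟩
  · intro x y hxy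
    exact Subtype.ext (hF.bijective.injective (congrArg Subtype.val hxy))
  · intro y
    obtain ⟨x, hx, hxy⟩ := exists_preimage_of_stable hτ F hF.bijective.injective T hT y.1 y.2
    exact ⟨⟨x, hx⟩, Subtype.ext hxy⟩

theorem isoIn_slopePart (F : N →ₛₗ[Isoc.frob p k a] N) (hF : Isoc.IsIsoc F) (μ : ℚ) :
    IsoIn F μ (Isoc.slopePart F μ) ∧ ∀ x ∈ Isoc.slopePart F μ, F x ∈ Isoc.slopePart F μ := by
  obtain ⟨hP, hIso⟩ := Groth.Agent.S17151.result p k a N F hF μ
  exact ⟨isoIn_of_isIsoclinic_restrict _ hP hIso, hP⟩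

theorem map_slopePart_restrict_le (F : N →ₛₗ[Isoc.frob p k a] N) (hF : Isoc.IsIsoc F)
    {T : Submodule L N} (hT : ∀ x ∈ T, F x ∈ T) (ν : ℚ) :
    (Isoc.slopePart (F.restrict hT) ν).map T.subtype ≤ Isoc.slopePart F ν := by
  have hIsoT := isIsoc_restrict a F hF hT
  obtain ⟨h1, hQ⟩ := isoIn_slopePart a (F.restrict hT) hIsoT ν
  have h2 : IsoIn F ν ((Isoc.slopePart (F.restrict hT) ν).map T.subtype) :=
    IsoIn.map (F₁ := F.restrict hT) (F₂ := F) T.subtype (fun x => rfl) h1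
  apply le_slopePart_of_isoIn F _ h2
  rintro _ ⟨q, hq, rfl⟩
  exact ⟨(F.restrict hT) q, hQ q hq, rfl⟩

theorem exists_isoIn_and_compl (F : N →ₛₗ[Isoc.frob p k a] N) (hF : Isoc.IsIsoc F)
    [Nontrivial N] :
    ∃ (μ : ℚ) (P : Submodule L N) (T : Submodule L N), (∀ x ∈ P, F x ∈ P) ∧ IsoIn F μ P ∧
      (∀ x ∈ T, F x ∈ T) ∧ T ≠ ⊤ ∧ P ⊔ T = ⊤ := by
  haveI := hF.finite
  have hτ := good_frob (p := p) (k := k) a
  obtain ⟨M₀, hM₀⟩ := exists_lattice (p := p) (k := k) (N := N)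
  obtain ⟨o, ho, lam, hlim⟩ := Groth.Agent.S17141.result p k a N F hF M₀ hM₀
  have hlam : Isoc.IsFirstSlope F lam := ⟨M₀, hM₀, o, ho, hlim⟩
  obtain ⟨h, hh⟩ : ∃ h, Module.finrank L N = h := ⟨_, rfl⟩
  let b : Module.Basis (Fin h) L N := Module.finBasisOfFinrankEq L N hh
  have hdet : Isoc.detCoeff b F ≠ 0 :=
    det_mat_ne_zero_of_surjective b F hF.bijective.surjective
  obtain ⟨d, hd⟩ := exists_isOrdP _ hdet
  obtain ⟨r, s, M, hs, -, hlam_eq, hM, hord, -⟩ :=
    Groth.Agent.S17146.result p k a N F hF h b d hd lam hlam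
  have hτs := hτ.pow s
  have hp0 : ((p : ℕ) : L) ≠ 0 := pL_ne_zero
  let G : N →ₛₗ[(Isoc.frob p k a) ^ s] N := ((p : L) ^ (-r)) • Isoc.iter F s
  have hGbij : Function.Bijective G := by
    have : ⇑G = (fun y : N => ((p : L) ^ (-r)) • y) ∘ (⇑F)^[s] := by
      ext x; rfl
    rw [this]
    exact (MulAction.bijective₀ (zpow_ne_zero _ hp0)).comp (hF.bijective.iterate s)
  have hGtw : ∀ (j : ℕ) (X : Submodule W N),
      Isoc.latImg G j X = Isoc.pPow (-r * (j : ℤ)) (Isoc.latImg F (s * j) X) := fun j X =>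
    latImg_twist F (-r) s j X
  have hMne : M ≠ ⊥ := ne_bot_of_isOrd hord
  obtain ⟨hord1, -⟩ := id hord
  have hGM : Isoc.latImg G 1 M ≤ M := by
    rw [hGtw, Nat.cast_one, mul_one, Nat.mul_one]
    exact le_pPow_iff.mp hord1
  have hsR : (0 : ℝ) < (s : ℝ) := by exact_mod_cast hs
  have hnil : ∀ n, ¬ Isoc.latImg G n M ≤ Isoc.pPow 1 M := by
    intro n hn
    rw [hGtw, neg_mul, ← le_pPow_iff, ← pPow_add] at hn
    rcases Nat.eq_zero_or_pos n with rfl | hnpos
    · rw [Nat.mul_zero, latImg_zero, Nat.cast_zero, mul_zero, zero_add] at hn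
      exact not_le_pPow_one hM.fg hMne hn
    · have h1 := le_firstSlope_of_latImg_le a F hF hlam hM (Nat.mul_pos hs hnpos) hn
      have hnR : (0 : ℝ) < (n : ℝ) := by exact_mod_cast hnpos
      rw [hlam_eq] at h1
      push_cast at h1
      rw [div_le_div_iff₀ (mul_pos hsR hnR) hsR] at h1
      have e : ((r : ℝ) * n + 1) * s = r * (s * n) + s := by ring
      linarith
  have hMinfG := latImg_Minf hτs G hGbij.injective hGM
  have hΛne : Minf G M ≠ ⊥ := Minf_ne_bot hτs G hGbij hM hGM hnil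
  have hΛF : Isoc.latImg F s (Minf G M) = Isoc.pPow r (Minf G M) := by
    have h1 := hMinfG
    rw [hGtw, Nat.cast_one, mul_one, Nat.mul_one] at h1
    have h2 : Isoc.pPow r (Minf G M) =
        Isoc.pPow r (Isoc.pPow (-r) (Isoc.latImg F s (Minf G M))) := by rw [h1]
    rw [h2, ← pPow_add, add_neg_cancel, pPow_zero]
  have hΛfg : (Minf G M).FG := by
    haveI : IsNoetherian W M := isNoetherian_of_fg_of_noetherian M hM.fg
    haveI : IsNoetherian W (Minf G M) := isNoetherian_of_le (Minf_le G M)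
    exact Module.Finite.iff_fg.mp inferInstance
  have hFlat := latImg_isLattice hτ F hF.bijective 1 hM
  obtain ⟨c, hc⟩ := exists_pPow_le hFlat.fg hM.span_eq_top
  have hFG : ∀ z, F (G z) = G (F z) := by
    intro z
    show F (((p : L) ^ (-r)) • (⇑F)^[s] z) = ((p : L) ^ (-r)) • (⇑F)^[s] (F z)
    rw [map_smulₛₗ, map_zpow₀, map_natCast, ← Function.iterate_succ_apply' (⇑F) s z,
      ← Function.iterate_succ_apply (⇑F) s z]
  have hFGn : ∀ (n : ℕ) z, F ((⇑G)^[n] z) = (⇑G)^[n] (F z) := by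
    intro n
    induction n with
    | zero => intro z; rfl
    | succ n ih =>
      intro z
      rw [Function.iterate_succ_apply, Function.iterate_succ_apply, ih, hFG]
  have hP : ∀ x ∈ Submodule.span L ((Minf G M : Submodule W N) : Set N),
      F x ∈ Submodule.span L ((Minf G M : Submodule W N) : Set N) := by
    intro x hx
    induction hx using Submodule.span_induction with
    | mem x hx =>
      have h1 : ((p : L) ^ (c : ℤ)) • F x ∈ Minf G M := by
        rw [SetLike.mem_coe, Minf, Submodule.mem_iInf] at hx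
        rw [Minf, Submodule.mem_iInf]
        intro n
        obtain ⟨m, hm, rfl⟩ := exists_of_mem_latImg hτs G n (hx n)
        rw [hFGn, ← iter_zpow_smul]
        apply iter_mem_latImg
        apply hc
        exact smul_mem_pPow (iter_mem_latImg F 1 hm)
      have h2 := Submodule.smul_mem (Submodule.span L ((Minf G M : Submodule W N) : Set N))
        ((p : L) ^ (-(c : ℤ))) (Submodule.subset_span h1)
      rwa [smul_smul, ← zpow_add₀ pL_ne_zero, neg_add_cancel, zpow_zero, one_smul] at h2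
    | zero => rw [map_zero]; exact Submodule.zero_mem _
    | add x y _ _ hx hy => rw [map_add]; exact Submodule.add_mem _ hx hy
    | smul c' x _ hx => rw [map_smulₛₗ]; exact Submodule.smul_mem _ _ hx
  have hPiso : IsoIn F ((r : ℚ) / (s : ℚ))
      (Submodule.span L ((Minf G M : Submodule W N) : Set N)) :=
    ⟨Minf G M, hΛfg, rfl, r, s, hs, rfl, hΛF⟩
  have hT : ∀ x ∈ Tnil hτs G M, F x ∈ Tnil hτs G M := by
    intro x hx
    rw [mem_Tnil] at hx ⊢
    intro j
    obtain ⟨n, hn⟩ := hx (j + c)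
    refine ⟨n, fun m hm => ?_⟩
    rw [← hFGn]
    have h1 : F ((⇑G)^[m] x) ∈ Isoc.latImg F 1 (Isoc.pPow ((j + c : ℕ) : ℤ) M) :=
      iter_mem_latImg F 1 (hn m hm)
    rw [latImg_pPow, Nat.cast_add, pPow_add] at h1
    exact pPow_mono hc h1
  have hTtop : Tnil hτs G M ≠ ⊤ := Tnil_ne_top hτs G hGbij hM hGM hnil
  refine ⟨(r : ℚ) / (s : ℚ), _, Tnil hτs G M, hP, hPiso, hT, hTtop, ?_⟩
  rw [eq_top_iff, ← hM.span_eq_top, Submodule.span_le]
  intro x hx
  obtain ⟨y, hy, hxy⟩ := exists_decomp hτs G hGbij hM hGM hx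
  have hyP : y ∈ Submodule.span L ((Minf G M : Submodule W N) : Set N) ⊔ Tnil hτs G M :=
    Submodule.mem_sup_left (Submodule.subset_span hy)
  have hxyT : x - y ∈ Submodule.span L ((Minf G M : Submodule W N) : Set N) ⊔ Tnil hτs G M :=
    Submodule.mem_sup_right hxy
  have h3 := Submodule.add_mem _ hyP hxyT
  rwa [add_sub_cancel] at h3

theorem indep_aux (F : N →ₛₗ[Isoc.frob p k a] N) (hF : Isoc.IsIsoc F) (μ : ℚ)
    (t : Finset (Submodule L N)) :
    (∀ Q ∈ t, (∀ x ∈ Q, F x ∈ Q) ∧ ∃ ν, ν ≠ μ ∧ IsoIn F ν Q) →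
    ∀ P : Submodule L N, (∀ x ∈ P, F x ∈ P) → IsoIn F μ P → P ≤ t.sup id → P = ⊥ := by
  classical
  haveI := hF.finite
  have hτ := good_frob (p := p) (k := k) a
  induction t using Finset.induction_on with
  | empty =>
    intro _ P _ _ hle
    rw [Finset.sup_empty] at hle
    exact le_bot_iff.mp hle
  | insert Q₀ t hQ₀t ih =>
    intro ht P hP hPiso hle
    rw [Finset.sup_insert, id] at hle
    obtain ⟨hQ₀st, ν₀, hν₀, hQ₀iso⟩ := ht Q₀ (Finset.mem_insert_self Q₀ t)
    have ht' : ∀ Q ∈ t, (∀ x ∈ Q, F x ∈ Q) ∧ ∃ ν, ν ≠ μ ∧ IsoIn F ν Q := fun Q hQ =>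
      ht Q (Finset.mem_insert_of_mem hQ)
    have hQst0 := stable_finset_sup F t (fun Q hQ => (ht' Q hQ).1)
    obtain ⟨Q, hQdef⟩ : ∃ Q, Q = t.sup id := ⟨_, rfl⟩
    rw [← hQdef] at hle hQst0
    have hQst : ∀ x ∈ Q, F x ∈ Q := hQst0
    have hP₁ : P ⊓ Q = ⊥ := ih ht' (P ⊓ Q) (fun x hx => ⟨hP x hx.1, hQst x hx.2⟩)
      (IsoIn.of_le hτ hF.bijective.injective hPiso inf_le_left
        (fun x hx => ⟨hP x hx.1, hQst x hx.2⟩)) (inf_le_right.trans hQdef.le)
    have hQ' : Q ≤ Q.comap F := fun x hx => hQst x hx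
    have hcomm : ∀ x, Q.mkQ (F x) = (Q.mapQ Q F hQ') (Q.mkQ x) := fun x =>
      (Submodule.mapQ_apply Q Q F x).symm
    have h1 : IsoIn (Q.mapQ Q F hQ') μ (P.map Q.mkQ) :=
      IsoIn.map (F₁ := F) (F₂ := Q.mapQ Q F hQ') Q.mkQ hcomm hPiso
    have h2 : IsoIn (Q.mapQ Q F hQ') ν₀ (Q₀.map Q.mkQ) :=
      IsoIn.map (F₁ := F) (F₂ := Q.mapQ Q F hQ') Q.mkQ hcomm hQ₀iso
    have hle' : P.map Q.mkQ ≤ Q₀.map Q.mkQ := by
      have := Submodule.map_mono (f := Q.mkQ) hle
      rwa [Submodule.map_sup, Submodule.mkQ_map_self, sup_bot_eq] at this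
    have hinj : Function.Injective (Q.mapQ Q F hQ') := by
      rw [injective_iff_map_eq_zero]
      intro z hz
      obtain ⟨x, rfl⟩ := Submodule.Quotient.mk_surjective Q z
      rw [Submodule.mapQ_apply, Submodule.Quotient.mk_eq_zero] at hz
      rw [Submodule.Quotient.mk_eq_zero]
      obtain ⟨q, hq, hqx⟩ :=
        exists_preimage_of_stable hτ F hF.bijective.injective Q hQst (F x) hz
      rwa [← hF.bijective.injective hqx]
    have hst' : ∀ z ∈ P.map Q.mkQ, (Q.mapQ Q F hQ') z ∈ P.map Q.mkQ := by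
      rintro _ ⟨x, hx, rfl⟩
      exact ⟨F x, hP x hx, hcomm x⟩
    have h3 : IsoIn (Q.mapQ Q F hQ') ν₀ (P.map Q.mkQ) := IsoIn.of_le hτ hinj h2 hle' hst'
    have hbot : P.map Q.mkQ = ⊥ := by
      by_contra hne
      exact hν₀ (IsoIn.unique hτ h3 h1 hne)
    have hPQ : P ≤ Q := by
      have := (LinearMap.le_ker_iff_map (f := Q.mkQ) (p := P)).mpr hbot
      rwa [Submodule.ker_mkQ] at this
    rw [← inf_eq_left.mpr hPQ]
    exact hP₁

theorem iSupIndep_slopePart (F : N →ₛₗ[Isoc.frob p k a] N) (hF : Isoc.IsIsoc F) :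
    iSupIndep (fun μ : ℚ => Isoc.slopePart F μ) := by
  haveI := hF.finite
  have hτ := good_frob (p := p) (k := k) a
  intro μ
  show Disjoint (Isoc.slopePart F μ) (⨆ ν, ⨆ (_ : ν ≠ μ), Isoc.slopePart F ν)
  rw [disjoint_iff]
  obtain ⟨hμiso, hμst⟩ := isoIn_slopePart a F hF μ
  have hQ' : (⨆ ν, ⨆ (_ : ν ≠ μ), Isoc.slopePart F ν) =
      sSup ((fun ν => Isoc.slopePart F ν) '' {ν | ν ≠ μ}) := by
    rw [sSup_image]; rfl
  rw [hQ']
  haveI : IsNoetherian L N := inferInstance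
  obtain ⟨t, hts, hsup⟩ := CompleteLattice.WellFoundedGT.isSupFiniteCompact
    (α := Submodule L N) ((fun ν => Isoc.slopePart F ν) '' {ν | ν ≠ μ})
  rw [hsup]
  have ht : ∀ Q ∈ t, (∀ x ∈ Q, F x ∈ Q) ∧ ∃ ν, ν ≠ μ ∧ IsoIn F ν Q := by
    intro Q hQ
    obtain ⟨ν, hν, rfl⟩ := hts (Finset.mem_coe.mpr hQ)
    obtain ⟨h1, h2⟩ := isoIn_slopePart a F hF ν
    exact ⟨h2, ν, hν, h1⟩
  have hst := stable_finset_sup F t (fun Q hQ => (ht Q hQ).1)
  apply indep_aux a F hF μ t ht
  · intro x hx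
    exact ⟨hμst x hx.1, hst x hx.2⟩
  · exact IsoIn.of_le hτ hF.bijective.injective hμiso inf_le_left
      (fun x hx => ⟨hμst x hx.1, hst x hx.2⟩)
  · exact inf_le_right

end Frob

theorem iSup_slopePart_eq_top_aux (a : ℤ) : ∀ (h : ℕ) (N' : Type v) [AddCommGroup N']
    [Module (WittVector p k) N'] [Module (FractionRing (WittVector p k)) N']
    [IsScalarTower (WittVector p k) (FractionRing (WittVector p k)) N']
    (F : N' →ₛₗ[Isoc.frob p k a] N') (_ : Isoc.IsIsoc F),
    Module.finrank (FractionRing (WittVector p k)) N' = h →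
    ⨆ μ : ℚ, Isoc.slopePart F μ = ⊤ := by
  intro h
  induction h using Nat.strong_induction_on with
  | _ h ih =>
    intro N' _ _ _ _ F hF hfin
    haveI := hF.finite
    rcases subsingleton_or_nontrivial N' with hsub | hnt
    · exact eq_top_iff.mpr fun x _ => by
        rw [Subsingleton.elim x 0]; exact Submodule.zero_mem _
    obtain ⟨μ, P, T, hP, hPiso, hT, hTtop, hsup⟩ := exists_isoIn_and_compl a F hF
    have hPle : P ≤ ⨆ μ, Isoc.slopePart F μ :=
      (le_slopePart_of_isoIn F hP hPiso).trans (le_iSup (fun μ => Isoc.slopePart F μ) μ)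
    have hTlt : Module.finrank (FractionRing (WittVector p k)) T < h := by
      rw [← hfin]; exact Submodule.finrank_lt hTtop
    have hIsoT : Isoc.IsIsoc (F.restrict hT) := isIsoc_restrict a F hF hT
    have hTspan := ih _ hTlt T (F.restrict hT) hIsoT rfl
    have hTle : T ≤ ⨆ μ, Isoc.slopePart F μ := by
      have h1 : T = (⊤ : Submodule (FractionRing (WittVector p k)) T).map T.subtype := by
        rw [Submodule.map_top, Submodule.range_subtype]
      rw [h1, ← hTspan, Submodule.map_iSup]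
      exact iSup_le fun ν => (map_slopePart_restrict_le a F hF hT ν).trans
        (le_iSup (fun μ => Isoc.slopePart F μ) ν)
    rw [eq_top_iff, ← hsup]
    exact sup_le hPle hTle

theorem iSup_slopePart_eq_top (a : ℤ) (F : N →ₛₗ[Isoc.frob p k a] N) (hF : Isoc.IsIsoc F) :
    ⨆ μ : ℚ, Isoc.slopePart F μ = ⊤ :=
  iSup_slopePart_eq_top_aux a _ N F hF rfl

end H8Isoc
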