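import Mathlib
import Groth.Prelude.Def_Isoc
import Groth.Agent.Lib.helper8.IsocDecomp

/-!
# Eigenvalues of the linear Frobenius power on an isocrystal over a finite field (helper8)
-/

set_option autoImplicit false
set_option linter.unusedSectionVars false

noncomputable section

open scoped Pointwise TensorProduct

namespace H8Isoc

universe u v w

section LinAlg

theorem countP_bind_finset {ι α : Type*} (q : α → Prop) [DecidablePred q] (s : Finset ι)
    (f : ι → Multiset α) :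
    Multiset.countP q (s.val.bind f) = ∑ i ∈ s, Multiset.countP q (f i) := by
  classical
  induction s using Finset.induction_on with
  | empty => simp
  | insert i s hi ih =>
    rw [Finset.insert_val_of_notMem hi, Multiset.cons_bind, Multiset.countP_add, ih,
      Finset.sum_insert hi]

theorem det_blockDiagonal'_eq {o : Type*} [Fintype o] [DecidableEq o] [LinearOrder o]
    {m' : o → Type*} [∀ i, Fintype (m' i)] [∀ i, DecidableEq (m' i)] {R : Type*} [CommRing R]
    (d : ∀ i, Matrix (m' i) (m' i) R) :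
    (Matrix.blockDiagonal' d).det = ∏ k, (d k).det := by
  rw [(Matrix.blockTriangular_blockDiagonal' d).det_fintype]
  refine Finset.prod_congr rfl fun k _ => ?_
  have hblk : (Matrix.blockDiagonal' d).toSquareBlock Sigma.fst k =
      Matrix.reindex (Equiv.sigmaSubtype k).symm (Equiv.sigmaSubtype k).symm (d k) := by
    ext ⟨⟨k', x⟩, h⟩ ⟨⟨k'', y⟩, h'⟩
    cases h
    cases h'
    simp [Matrix.toSquareBlock_def]
  rw [hblk, Matrix.det_reindex_self]

theorem charmatrix_blockDiagonal' {o : Type*} [Fintype o] [DecidableEq o]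
    {m' : o → Type*} [∀ i, Fintype (m' i)] [∀ i, DecidableEq (m' i)] {R : Type*} [CommRing R]
    (d : ∀ i, Matrix (m' i) (m' i) R) :
    Matrix.charmatrix (Matrix.blockDiagonal' d) =
      Matrix.blockDiagonal' (fun i => Matrix.charmatrix (d i)) := by
  ext ⟨i, x⟩ ⟨j, y⟩
  by_cases hij : i = j
  · subst hij
    rw [Matrix.blockDiagonal'_apply_eq]
    by_cases hxy : x = y
    · subst hxy
      rw [Matrix.charmatrix_apply_eq, Matrix.charmatrix_apply_eq, Matrix.blockDiagonal'_apply_eq]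
    · have hne : (⟨i, x⟩ : Σ i, m' i) ≠ ⟨i, y⟩ := by
        intro h
        apply hxy
        cases h
        rfl
      rw [Matrix.charmatrix_apply_ne _ _ _ hxy, Matrix.charmatrix_apply_ne _ _ _ hne,
        Matrix.blockDiagonal'_apply_eq]
  · have hne : (⟨i, x⟩ : Σ i, m' i) ≠ ⟨j, y⟩ := fun h => hij (congrArg Sigma.fst h)
    rw [Matrix.blockDiagonal'_apply_ne _ _ _ hij, Matrix.charmatrix_apply_ne _ _ _ hne,
      Matrix.blockDiagonal'_apply_ne _ _ _ hij, map_zero, neg_zero]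

theorem charpoly_eq_prod_of_isInternal {K V : Type*} [Field K] [AddCommGroup V] [Module K V]
    [Module.Finite K V] {ι : Type*} [Fintype ι] [DecidableEq ι] [LinearOrder ι]
    (A : ι → Submodule K V) (hA : DirectSum.IsInternal A)
    (f : V →ₗ[K] V) (hf : ∀ i, ∀ x ∈ A i, f x ∈ A i) :
    f.charpoly = ∏ i, (f.restrict (hf i)).charpoly := by
  classical
  let bb : ∀ i, Module.Basis (Fin (Module.finrank K (A i))) K (A i) := fun i =>
    Module.finBasis K (A i)
  obtain ⟨B, hBdef⟩ : ∃ B : Module.Basis (Σ i, Fin (Module.finrank K (A i))) K V,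
      B = hA.collectedBasis bb := ⟨_, rfl⟩
  have hmat : LinearMap.toMatrix B B f = Matrix.blockDiagonal'
      (fun i => LinearMap.toMatrix (bb i) (bb i) (f.restrict (hf i))) := by
    ext ⟨i, x⟩ ⟨j, y⟩
    rw [LinearMap.toMatrix_apply]
    have hB : B ⟨j, y⟩ = ((bb j y : A j) : V) := by
      rw [hBdef, DirectSum.IsInternal.collectedBasis_coe]
    have hz : f ((bb j y : A j) : V) ∈ A j := hf j _ (bb j y).2
    rw [hB]
    by_cases hij : i = j
    · subst hij
      rw [Matrix.blockDiagonal'_apply_eq, LinearMap.toMatrix_apply, hBdef,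
        hA.collectedBasis_repr_of_mem bb hz]
      rfl
    · rw [Matrix.blockDiagonal'_apply_ne _ _ _ hij, hBdef,
        hA.collectedBasis_repr_of_mem_ne bb (Ne.symm hij) hz]
  rw [← LinearMap.charpoly_toMatrix f B, hmat, Matrix.charpoly, charmatrix_blockDiagonal',
    det_blockDiagonal'_eq]
  refine Finset.prod_congr rfl fun i _ => ?_
  rw [← LinearMap.charpoly_toMatrix (f.restrict (hf i)) (bb i)]
  rfl

variable {K : Type*} {Ω : Type*} {V : Type*} [Field K] [Field Ω] [Algebra K Ω] [AddCommGroup V]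
  [Module K V] [Module.Finite K V]

theorem isRoot_map_charpoly_iff (f : Module.End K V) (α : Ω) :
    (f.charpoly.map (algebraMap K Ω)).IsRoot α ↔
      Module.End.HasEigenvalue (f.baseChange Ω) α := by
  rw [← LinearMap.charpoly_baseChange, ← Module.End.hasEigenvalue_iff_isRoot_charpoly]

theorem hasEigenvalue_baseChange_smul_pow (f : Module.End K V) (c : K) (s : ℕ) {α : Ω}
    (h : Module.End.HasEigenvalue (f.baseChange Ω) α) :
    Module.End.HasEigenvalue ((c • f ^ s).baseChange Ω) (algebraMap K Ω c * α ^ s) := by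
  obtain ⟨v, hv⟩ := h.exists_hasEigenvector
  apply Module.End.hasEigenvalue_of_hasEigenvector (x := v)
  refine ⟨Module.End.mem_eigenspace_iff.mpr ?_, hv.2⟩
  rw [LinearMap.baseChange_smul, LinearMap.smul_apply, LinearMap.baseChange_pow, hv.pow_apply,
    ← algebraMap_smul Ω c, smul_smul]

theorem hasEigenvalue_baseChange_inv (f g : Module.End K V) (hgf : g * f = 1) {α : Ω}
    (h : Module.End.HasEigenvalue (f.baseChange Ω) α) :
    α ≠ 0 ∧ Module.End.HasEigenvalue (g.baseChange Ω) α⁻¹ := by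
  obtain ⟨v, hv⟩ := h.exists_hasEigenvector
  have h1 : (g.baseChange Ω) ((f.baseChange Ω) v) = v := by
    rw [← Module.End.mul_apply, ← LinearMap.baseChange_mul, hgf, LinearMap.baseChange_one,
      Module.End.one_apply]
  rw [hv.apply_eq_smul, map_smul] at h1
  have hα : α ≠ 0 := by
    rintro rfl
    rw [zero_smul] at h1
    exact hv.2 h1.symm
  refine ⟨hα, Module.End.hasEigenvalue_of_hasEigenvector (x := v)
    ⟨Module.End.mem_eigenspace_iff.mpr ?_, hv.2⟩⟩
  exact ((inv_smul_eq_iff₀ hα).mpr h1.symm).symm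

end LinAlg

section UInt

/-- a unit of the integral closure -/
def UInt (R : Type*) {Ω : Type*} [CommRing R] [Field Ω] [Algebra R Ω] (x : Ω) : Prop :=
  IsIntegral R x ∧ IsIntegral R x⁻¹

variable {R : Type*} {Ω : Type*} [CommRing R] [Field Ω] [Algebra R Ω]

theorem UInt.mul {x y : Ω} (hx : UInt R x) (hy : UInt R y) : UInt R (x * y) :=
  ⟨hx.1.mul hy.1, by rw [mul_inv]; exact hx.2.mul hy.2⟩

theorem UInt.pow {x : Ω} (hx : UInt R x) (n : ℕ) : UInt R (x ^ n) :=
  ⟨hx.1.pow n, by rw [← inv_pow]; exact hx.2.pow n⟩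

theorem UInt.inv {x : Ω} (hx : UInt R x) : UInt R x⁻¹ :=
  ⟨hx.2, by rw [inv_inv]; exact hx.1⟩

theorem UInt.of_pow {x : Ω} {n : ℕ} (hn : 0 < n) (hx : UInt R (x ^ n)) : UInt R x :=
  ⟨(IsIntegral.pow_iff hn).mp hx.1, by
    have := hx.2
    rw [← inv_pow] at this
    exact (IsIntegral.pow_iff hn).mp this⟩

end UInt

theorem exists_mul_of_div_eq {ν : ℚ} {r : ℤ} {s : ℕ} (hs : 0 < s) (h : (r : ℚ) / (s : ℚ) = ν) :
    ∃ t : ℕ, 0 < t ∧ s = ν.den * t ∧ r = ν.num * t := by
  have hsQ : ((s : ℕ) : ℚ) ≠ 0 := by exact_mod_cast hs.ne'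
  have hdQ : ((ν.den : ℕ) : ℚ) ≠ 0 := by exact_mod_cast ν.den_pos.ne'
  have hcross : r * (ν.den : ℤ) = ν.num * (s : ℤ) := by
    have h1 : (r : ℚ) / (s : ℚ) = (ν.num : ℚ) / (ν.den : ℚ) := by rw [h, Rat.num_div_den]
    have := (div_eq_div_iff hsQ hdQ).mp h1
    exact_mod_cast this
  have hgcd : Int.gcd ν.num (ν.den : ℤ) = 1 := by
    show Nat.gcd ν.num.natAbs ((ν.den : ℤ)).natAbs = 1
    rw [Int.natAbs_natCast]
    exact ν.reduced
  have hcop : IsCoprime ν.num (ν.den : ℤ) := Int.isCoprime_iff_gcd_eq_one.mpr hgcd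
  have hdvd : (ν.den : ℤ) ∣ (s : ℤ) :=
    hcop.symm.dvd_of_dvd_mul_left ⟨r, by rw [← hcross, mul_comm]⟩
  obtain ⟨t, ht⟩ := Int.natCast_dvd_natCast.mp hdvd
  have htpos : 0 < t := by
    rcases Nat.eq_zero_or_pos t with h0 | h0
    · rw [h0, Nat.mul_zero] at ht; omega
    · exact h0
  refine ⟨t, htpos, ht, ?_⟩
  have hd0 : (ν.den : ℤ) ≠ 0 := by exact_mod_cast ν.den_pos.ne'
  apply mul_right_cancel₀ hd0
  rw [hcross, ht]
  push_cast
  ring

section Witt

variable {p : ℕ} [hp : Fact p.Prime] {k : Type u} [Field k] [CharP k p] [PerfectRing k p]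

local notation "W" => WittVector p k
local notation "L" => FractionRing (WittVector p k)

variable {Ω : Type w} [Field Ω] [Algebra (WittVector p k) Ω]
  [Algebra (FractionRing (WittVector p k)) Ω]
  [IsScalarTower (WittVector p k) (FractionRing (WittVector p k)) Ω]

theorem not_isIntegral_p_zpow_neg (n : ℕ) (hn : 0 < n) :
    ¬ IsIntegral W ((algebraMap L Ω (p : L)) ^ (-(n : ℤ))) := by
  intro h
  rw [← map_zpow₀] at h
  have h2 : IsIntegral W ((p : L) ^ (-(n : ℤ))) :=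
    (isIntegral_algebraMap_iff (algebraMap L Ω).injective).mp h
  obtain ⟨w, hw⟩ := IsIntegrallyClosed.isIntegral_iff.mp h2
  have h3 : (p : W) ^ n * w = 1 := by
    apply IsFractionRing.injective W L
    rw [map_mul, map_pow, map_natCast, hw, map_one, ← zpow_natCast, ← zpow_add₀ pL_ne_zero,
      add_neg_cancel, zpow_zero]
  have h4 : IsUnit ((p : W) ^ n) := IsUnit.of_mul_eq_one w h3
  exact (WittVector.irreducible p).not_isUnit ((isUnit_pow_iff hn.ne').mp h4)

theorem not_uInt_of_ne {α : Ω} (hα : α ≠ 0) {m : ℕ} (hm : m ≠ 0) {μ ν : ℚ} (hne : ν ≠ μ)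
    (hν : UInt W (α ^ ν.den * (algebraMap L Ω (p : L)) ^ (-(ν.num * (m : ℤ)))))
    (hμ : UInt W (α ^ μ.den * (algebraMap L Ω (p : L)) ^ (-(μ.num * (m : ℤ))))) : False := by
  obtain ⟨P, hP⟩ : ∃ P : Ω, P = algebraMap L Ω (p : L) := ⟨_, rfl⟩
  rw [← hP] at hν hμ
  have hP0 : P ≠ 0 := by rw [hP, Ne, map_eq_zero]; exact pL_ne_zero
  obtain ⟨E, hE⟩ : ∃ E : ℤ, E = (-(ν.num * (m : ℤ))) * μ.den - (-(μ.num * (m : ℤ))) * ν.den :=
    ⟨_, rfl⟩
  have hE0 : E ≠ 0 := by
    intro h0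
    apply hne
    rw [Rat.eq_iff_mul_eq_mul]
    have hmZ : (m : ℤ) ≠ 0 := by exact_mod_cast hm
    have h1 : (m : ℤ) * (ν.num * μ.den - μ.num * ν.den) = 0 := by
      rw [hE] at h0; linarith
    rcases mul_eq_zero.mp h1 with h | h
    · exact absurd h hmZ
    · linarith
  have hα' : α ^ (ν.den * μ.den) ≠ 0 := pow_ne_zero _ hα
  have e1 : (α ^ ν.den * P ^ (-(ν.num * (m : ℤ)))) ^ μ.den =
      α ^ (ν.den * μ.den) * P ^ ((-(ν.num * (m : ℤ))) * (μ.den : ℤ)) := by
    rw [mul_pow, ← pow_mul, ← zpow_natCast (P ^ (-(ν.num * (m : ℤ)))) μ.den, ← zpow_mul]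
  have e2 : (α ^ μ.den * P ^ (-(μ.num * (m : ℤ)))) ^ ν.den =
      α ^ (ν.den * μ.den) * P ^ ((-(μ.num * (m : ℤ))) * (ν.den : ℤ)) := by
    rw [mul_pow, ← pow_mul, ← zpow_natCast (P ^ (-(μ.num * (m : ℤ)))) ν.den, ← zpow_mul,
      Nat.mul_comm μ.den ν.den]
  have hkey : (α ^ ν.den * P ^ (-(ν.num * (m : ℤ)))) ^ μ.den *
      ((α ^ μ.den * P ^ (-(μ.num * (m : ℤ)))) ^ ν.den)⁻¹ = P ^ E := by
    rw [e1, e2, mul_inv, hE, zpow_sub₀ hP0]
    calc α ^ (ν.den * μ.den) * P ^ (-(ν.num * (m : ℤ)) * (μ.den : ℤ)) *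
          ((α ^ (ν.den * μ.den))⁻¹ * (P ^ (-(μ.num * (m : ℤ)) * (ν.den : ℤ)))⁻¹)
        = (α ^ (ν.den * μ.den) * (α ^ (ν.den * μ.den))⁻¹) *
          (P ^ (-(ν.num * (m : ℤ)) * (μ.den : ℤ)) *
            (P ^ (-(μ.num * (m : ℤ)) * (ν.den : ℤ)))⁻¹) := by ring
      _ = _ := by rw [mul_inv_cancel₀ hα', one_mul, div_eq_mul_inv]
  have hU : UInt W (P ^ E) := by
    rw [← hkey]; exact (hν.pow _).mul (hμ.pow _).inv
  rw [hP] at hU
  rcases lt_or_gt_of_ne hE0 with hneg | hpos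
  · obtain ⟨n, hn⟩ := Int.eq_ofNat_of_zero_le (neg_nonneg.mpr hneg.le)
    have hn0 : 0 < n := by omega
    have h2 : E = -(n : ℤ) := by omega
    rw [h2] at hU
    exact not_isIntegral_p_zpow_neg n hn0 hU.1
  · obtain ⟨n, hn⟩ := Int.eq_ofNat_of_zero_le hpos.le
    have hn0 : 0 < n := by omega
    rw [hn] at hU
    have h3 := hU.2
    rw [← zpow_neg] at h3
    exact not_isIntegral_p_zpow_neg n hn0 h3

variable {N : Type v} [AddCommGroup N] [Module (WittVector p k) N]
  [Module (FractionRing (WittVector p k)) N]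
  [IsScalarTower (WittVector p k) (FractionRing (WittVector p k)) N]

theorem isIntegral_of_isRoot_of_stable [Module.Finite L N] (g : N →ₗ[L] N)
    {M : Submodule W N} (hM : M.IsLattice L) (hg : ∀ x ∈ M, g x ∈ M) {β : Ω}
    (hβ : (g.charpoly.map (algebraMap L Ω)).IsRoot β) : IsIntegral W β := by
  obtain ⟨h, hh⟩ : ∃ h, Module.finrank L N = h := ⟨_, rfl⟩
  let b : Module.Basis (Fin h) L N := Module.finBasisOfFinrankEq L N hh
  obtain ⟨e, he1, he2⟩ := exists_lattice_basis b hM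
  choose A hA using fun i j => he2 (g (e j)) (hg _ (he1 j)) i
  have hmat : LinearMap.toMatrix e e g = (Matrix.of A).map (algebraMap W L) := by
    ext i j
    rw [LinearMap.toMatrix_apply, hA]
    rfl
  have hchar : g.charpoly = (Matrix.of A).charpoly.map (algebraMap W L) := by
    rw [← LinearMap.charpoly_toMatrix g e, hmat, Matrix.charpoly_map]
  refine ⟨(Matrix.of A).charpoly, Matrix.charpoly_monic _, ?_⟩
  rw [hchar, Polynomial.map_map, ← IsScalarTower.algebraMap_eq W L Ω] at hβ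
  rw [Polynomial.IsRoot.def, Polynomial.eval_map] at hβ
  exact hβ

theorem uInt_root_of_isIsoclinic [Module.Finite L N] (a : ℤ) (F : N →ₛₗ[Isoc.frob p k a] N)
    (hFinj : Function.Injective F) {m : ℕ} (π : N →ₗ[L] N) (hπ : ∀ x, π x = (⇑F)^[m] x)
    {ν : ℚ} (hiso : Isoc.IsIsoclinic F ν) {α : Ω}
    (hα : (π.charpoly.map (algebraMap L Ω)).IsRoot α) :
    α ≠ 0 ∧ UInt W (α ^ ν.den * (algebraMap L Ω (p : L)) ^ (-(ν.num * (m : ℤ)))) := by
  have hτ := good_frob (p := p) (k := k) a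
  obtain ⟨M, hM, r, s, hs, hrs, hFM⟩ := hiso
  obtain ⟨t, ht, hst, hrt⟩ := exists_mul_of_div_eq hs hrs
  have hFMm : Isoc.latImg F (s * m) M = Isoc.pPow (r * (m : ℤ)) M :=
    latImg_eq_pPow_mul hτ F hFM m
  have hπs : ∀ x, (π ^ s) x = (⇑F)^[s * m] x := by
    intro x
    rw [Module.End.pow_apply, Nat.mul_comm, Function.iterate_mul]
    have : (⇑π) = (⇑F)^[m] := funext hπ
    rw [this]
  obtain ⟨c, hc⟩ : ∃ c : L, c = (p : L) ^ (-(r * (m : ℤ))) := ⟨_, rfl⟩
  obtain ⟨g, hg⟩ : ∃ g : Module.End L N, g = c • π ^ s := ⟨_, rfl⟩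
  have hgx : ∀ x, g x = c • (⇑F)^[s * m] x := fun x => by
    rw [hg, LinearMap.smul_apply, hπs]
  have hgM : ∀ x ∈ M, g x ∈ M := by
    intro x hx
    rw [hgx, hc, ← mem_pPow, ← hFMm]
    exact iter_mem_latImg F (s * m) hx
  have hgsurj : ∀ y ∈ M, ∃ x ∈ M, g x = y := by
    intro y hy
    have h1 : ((p : L) ^ (r * (m : ℤ))) • y ∈ Isoc.latImg F (s * m) M := by
      rw [hFMm]; exact smul_mem_pPow hy
    obtain ⟨x, hx, hxy⟩ := exists_of_mem_latImg hτ F (s * m) h1
    refine ⟨x, hx, ?_⟩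
    rw [hgx, hxy, hc, smul_smul, ← zpow_add₀ pL_ne_zero, neg_add_cancel, zpow_zero, one_smul]
  have hginj : Function.Injective g := by
    rw [injective_iff_map_eq_zero]
    intro x hx
    rw [hgx] at hx
    have hc0 : c ≠ 0 := by rw [hc]; exact zpow_ne_zero _ pL_ne_zero
    have h2 : (⇑F)^[s * m] x = 0 := (smul_eq_zero.mp hx).resolve_left hc0
    have h3 : (⇑F)^[s * m] x = (⇑F)^[s * m] 0 := by rw [h2, iter_zero']
    exact (hFinj.iterate (s * m)) h3
  have hgbij : Function.Bijective g := ⟨hginj, LinearMap.injective_iff_surjective.mp hginj⟩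
  let ge : N ≃ₗ[L] N := LinearEquiv.ofBijective g hgbij
  obtain ⟨g', hg'⟩ : ∃ g' : Module.End L N, g' = ge.symm.toLinearMap := ⟨_, rfl⟩
  have hg'g : g' * g = 1 := by
    ext x
    rw [Module.End.mul_apply, Module.End.one_apply, hg']
    exact ge.symm_apply_apply x
  have hg'M : ∀ y ∈ M, g' y ∈ M := by
    intro y hy
    obtain ⟨x, hx, rfl⟩ := hgsurj y hy
    have : g' (g x) = x := by rw [hg']; exact ge.symm_apply_apply x
    rw [this]; exact hx
  have hE := (isRoot_map_charpoly_iff (Ω := Ω) π α).mp hα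
  have hE1 : Module.End.HasEigenvalue (g.baseChange Ω) (algebraMap L Ω c * α ^ s) := by
    rw [hg]; exact hasEigenvalue_baseChange_smul_pow π c s hE
  obtain ⟨hβ0, hE2⟩ := hasEigenvalue_baseChange_inv g g' hg'g hE1
  have hI1 : IsIntegral W (algebraMap L Ω c * α ^ s) :=
    isIntegral_of_isRoot_of_stable g hM hgM ((isRoot_map_charpoly_iff g _).mpr hE1)
  have hI2 : IsIntegral W (algebraMap L Ω c * α ^ s)⁻¹ :=
    isIntegral_of_isRoot_of_stable g' hM hg'M ((isRoot_map_charpoly_iff g' _).mpr hE2)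
  have hα0 : α ≠ 0 := by
    rintro rfl
    apply hβ0
    rw [zero_pow hs.ne', mul_zero]
  refine ⟨hα0, UInt.of_pow ht ?_⟩
  have e1 : (α ^ ν.den) ^ t = α ^ s := by rw [← pow_mul, ← hst]
  have e2 : ((algebraMap L Ω (p : L)) ^ (-(ν.num * (m : ℤ)))) ^ t = algebraMap L Ω c := by
    rw [hc, map_zpow₀, ← zpow_natCast, ← zpow_mul, hrt]
    congr 1
    ring
  rw [mul_pow, e1, e2, mul_comm]
  exact ⟨hI1, hI2⟩

end Witt

end H8Isoc
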