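import Mathlib

/-!
# Frobenius-semilinear algebra over an algebraically closed field (helper8)

For `ρ x = x ^ q` (`q ≥ 2`) on an algebraically closed field `k` and a `ρ`-semilinear endomorphism
`φ` of a finite-dimensional `k`-vector space: `φ - 1` is surjective, and if `φ` is injective and the
space is non-zero there is a non-zero fixed vector (Lang's theorem, elementary form).
-/

set_option autoImplicit false

namespace H8Lang

open Polynomial

section Poly

variable {k : Type*} [Field k] [IsAlgClosed k]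

theorem two_le_pow_succ {q : ℕ} (hq : 2 ≤ q) (j : ℕ) : 2 ≤ q ^ (j + 1) :=
  calc 2 ≤ q := hq
    _ = q ^ 1 := (pow_one q).symm
    _ ≤ q ^ (j + 1) := Nat.pow_le_pow_right (by omega) (by omega)

theorem exists_ne_zero_additive_fixed {q : ℕ} (hq : 2 ≤ q) (m : ℕ) (c : ℕ → k)
    (hc : ∃ j, j < m ∧ c j ≠ 0) :
    ∃ t : k, t ≠ 0 ∧ ∑ j ∈ Finset.range m, c j * t ^ (q ^ (j + 1)) = t := by
  classical
  have hexp : ∀ j : ℕ, 1 ≤ q ^ (j + 1) - 1 := by
    intro j
    have := two_le_pow_succ hq j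
    omega
  have hinj : ∀ i j : ℕ, q ^ (i + 1) - 1 = q ^ (j + 1) - 1 → i = j := by
    intro i j hij
    have h1 := hexp i
    have h2 := hexp j
    have h3 : q ^ (i + 1) = q ^ (j + 1) := by omega
    have h4 := Nat.pow_right_injective hq h3
    omega
  obtain ⟨j₀, hj₀m, hj₀⟩ := hc
  obtain ⟨P, hP⟩ : ∃ P : k[X],
      P = ∑ j ∈ Finset.range m, C (c j) * X ^ (q ^ (j + 1) - 1) - 1 := ⟨_, rfl⟩
  have hcoeff : P.coeff (q ^ (j₀ + 1) - 1) = c j₀ := by
    have hne : q ^ (j₀ + 1) - 1 ≠ 0 := by have := hexp j₀; omega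
    have h1 : (∑ j ∈ Finset.range m, C (c j) * X ^ (q ^ (j + 1) - 1) : k[X]).coeff
        (q ^ (j₀ + 1) - 1) = c j₀ := by
      rw [finset_sum_coeff, Finset.sum_eq_single j₀]
      · rw [coeff_C_mul, coeff_X_pow, if_pos rfl, mul_one]
      · intro j _ hj
        rw [coeff_C_mul, coeff_X_pow, if_neg (fun h => hj (by have := hinj _ _ h; omega)), mul_zero]
      · intro h; exact absurd (Finset.mem_range.mpr hj₀m) h
    rw [hP, coeff_sub, h1, coeff_one, if_neg hne, sub_zero]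
  have hdeg : P.degree ≠ 0 := by
    intro h0
    have h2 := eq_C_of_degree_eq_zero h0
    have h1 : P.coeff (q ^ (j₀ + 1) - 1) = 0 := by
      rw [h2, coeff_C, if_neg (by have := hexp j₀; omega)]
    rw [hcoeff] at h1
    exact hj₀ h1
  obtain ⟨t, ht⟩ := IsAlgClosed.exists_root P hdeg
  have hev : ∑ j ∈ Finset.range m, c j * t ^ (q ^ (j + 1) - 1) = 1 := by
    have h1 : P.eval t = 0 := ht
    rw [hP] at h1
    simp only [eval_sub, eval_finset_sum, eval_mul, eval_C, eval_pow, eval_X, eval_one] at h1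
    exact sub_eq_zero.mp h1
  have ht0 : t ≠ 0 := by
    rintro rfl
    rw [Finset.sum_eq_zero] at hev
    · exact zero_ne_one hev
    · intro j _
      rw [zero_pow (by have := hexp j; omega), mul_zero]
  refine ⟨t, ht0, ?_⟩
  calc ∑ j ∈ Finset.range m, c j * t ^ (q ^ (j + 1))
      = ∑ j ∈ Finset.range m, (c j * t ^ (q ^ (j + 1) - 1)) * t := by
        refine Finset.sum_congr rfl fun j _ => ?_
        rw [mul_assoc, ← pow_succ, Nat.sub_add_cancel (by have := hexp j; omega)]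
    _ = t := by rw [← Finset.sum_mul, hev, one_mul]

theorem exists_additive_root {q : ℕ} (hq : 2 ≤ q) (m : ℕ) (c : ℕ → k) (c₀ : k) :
    ∃ t : k, ∑ j ∈ Finset.range m, c j * t ^ (q ^ (j + 1)) - t + c₀ = 0 := by
  classical
  have hexp : ∀ j : ℕ, q ^ (j + 1) ≠ 1 := by
    intro j
    have := two_le_pow_succ hq j
    omega
  obtain ⟨P, hP⟩ : ∃ P : k[X],
      P = ∑ j ∈ Finset.range m, C (c j) * X ^ (q ^ (j + 1)) - X + C c₀ := ⟨_, rfl⟩
  have hcoeff : P.coeff 1 = -1 := by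
    have h1 : (∑ j ∈ Finset.range m, C (c j) * X ^ (q ^ (j + 1)) : k[X]).coeff 1 = 0 := by
      rw [finset_sum_coeff]
      refine Finset.sum_eq_zero fun j _ => ?_
      rw [coeff_C_mul, coeff_X_pow, if_neg (fun h => hexp j h.symm), mul_zero]
    rw [hP, coeff_add, coeff_sub, h1, coeff_X_one, coeff_C, if_neg one_ne_zero, zero_sub, add_zero]
  have hdeg : P.degree ≠ 0 := by
    intro h0
    have h2 := eq_C_of_degree_eq_zero h0
    have h1 : P.coeff 1 = 0 := by rw [h2, coeff_C, if_neg one_ne_zero]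
    rw [hcoeff] at h1
    exact (neg_ne_zero.mpr one_ne_zero) h1
  obtain ⟨t, ht⟩ := IsAlgClosed.exists_root P hdeg
  refine ⟨t, ?_⟩
  have h1 : P.eval t = 0 := ht
  rw [hP] at h1
  simpa only [eval_add, eval_sub, eval_finset_sum, eval_mul, eval_C, eval_pow, eval_X] using h1

end Poly

section Core

variable {k : Type*} [Field k] {V : Type*} [AddCommGroup V] [Module k V]

theorem linInd_of_forall_not_mem (g : ℕ → V) (j : ℕ)
    (h : ∀ d, d < j → g d ∉ Submodule.span k (Set.range fun i : Fin d => g i)) :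
    LinearIndependent k (fun i : Fin j => g i) := by
  induction j with
  | zero => exact linearIndependent_empty_type
  | succ j ih =>
    rw [linearIndependent_fin_succ']
    refine ⟨ih fun d hd => h d (Nat.lt_succ_of_lt hd), ?_⟩
    exact h j (Nat.lt_succ_self j)

theorem exists_relation [Module.Finite k V] (g : ℕ → V) :
    ∃ d, g d ∈ Submodule.span k (Set.range fun i : Fin d => g i) := by
  by_contra hcon
  push_neg at hcon
  have h1 := linInd_of_forall_not_mem (k := k) g (Module.finrank k V + 1) (fun d _ => hcon d)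
  have h2 := h1.fintype_card_le_finrank
  rw [Fintype.card_fin] at h2
  omega

theorem core {q : ℕ} {ρ : k →+* k} (hρ : ∀ x, ρ x = x ^ q) (φ : V →ₛₗ[ρ] V)
    (g : ℕ → V) (hg : ∀ i, g (i + 1) = φ (g i)) (e : ℕ) (a : ℕ → k)
    (hrel : g (e + 1) = ∑ i ∈ Finset.range (e + 1), a i • g i)
    (ε : k) (hε : ρ ε = ε) (u : k)
    (hu : ∑ j ∈ Finset.range (e + 1), (a (e - j)) ^ (q ^ (j + 1)) * u ^ (q ^ (j + 1)) - ε = u) :
    ∃ y : ℕ → k, ρ (y e) = u ∧
      φ (∑ i ∈ Finset.range (e + 1), y i • g i) - ∑ i ∈ Finset.range (e + 1), y i • g i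
        = ε • g 0 := by
  obtain ⟨y, hy⟩ : ∃ y : ℕ → k, ∀ i, y i =
      ∑ j ∈ Finset.range (i + 1), (a (i - j)) ^ (q ^ j) * u ^ (q ^ j) - ε := ⟨_, fun _ => rfl⟩
  have hρy : ∀ i, ρ (y i) =
      ∑ j ∈ Finset.range (i + 1), (a (i - j)) ^ (q ^ (j + 1)) * u ^ (q ^ (j + 1)) - ε := by
    intro i
    rw [hy, map_sub, map_sum, hε]
    congr 1
    refine Finset.sum_congr rfl fun j _ => ?_
    rw [map_mul, hρ, hρ, ← pow_mul, ← pow_mul, ← pow_succ]
  have hy0 : y 0 = u * a 0 - ε := by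
    rw [hy]
    simp [mul_comm]
  have hysucc : ∀ i, y (i + 1) = ρ (y i) + u * a (i + 1) := by
    intro i
    rw [hρy i, hy, Finset.sum_range_succ']
    simp only [Nat.add_sub_add_right, pow_zero, pow_one, Nat.sub_zero]
    ring
  refine ⟨y, by rw [hρy e]; exact hu, ?_⟩
  have hz : ∑ i ∈ Finset.range (e + 1), y i • g i
      = ∑ i ∈ Finset.range e, (ρ (y i) + u * a (i + 1)) • g (i + 1) + (u * a 0 - ε) • g 0 := by
    rw [Finset.sum_range_succ', hy0]
    congr 1
    exact Finset.sum_congr rfl fun i _ => by rw [hysucc]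
  have hφz : φ (∑ i ∈ Finset.range (e + 1), y i • g i)
      = ∑ i ∈ Finset.range e, ρ (y i) • g (i + 1)
        + u • (∑ i ∈ Finset.range e, a (i + 1) • g (i + 1) + a 0 • g 0) := by
    rw [map_sum, Finset.sum_range_succ]
    congr 1
    · exact Finset.sum_congr rfl fun i _ => by rw [map_smulₛₗ, hg]
    · rw [map_smulₛₗ, ← hg, hrel, hρy e, hu, Finset.sum_range_succ']
  rw [hφz, hz]
  simp only [add_smul, sub_smul, mul_smul, smul_add, Finset.smul_sum, Finset.sum_add_distrib]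
  abel

variable [IsAlgClosed k] [Module.Finite k V]

theorem exists_fixed_ne_zero [Nontrivial V] {q : ℕ} (hq : 2 ≤ q)
    {ρ : k →+* k} (hρ : ∀ x, ρ x = x ^ q) (φ : V →ₛₗ[ρ] V) (hφ : Function.Injective φ) :
    ∃ w : V, w ≠ 0 ∧ φ w = w := by
  classical
  obtain ⟨v, hv⟩ := exists_ne (0 : V)
  obtain ⟨g, hgdef⟩ : ∃ g : ℕ → V, ∀ i, g i = (⇑φ)^[i] v := ⟨_, fun _ => rfl⟩
  have hg0 : g 0 = v := by rw [hgdef]; rfl
  have hg : ∀ i, g (i + 1) = φ (g i) := fun i => by
    rw [hgdef, hgdef]; exact Function.iterate_succ_apply' _ _ _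
  have hex := exists_relation (k := k) g
  obtain ⟨d, hd⟩ : ∃ d, d = Nat.find hex := ⟨_, rfl⟩
  have hdmem : g d ∈ Submodule.span k (Set.range fun i : Fin d => g i) := by
    rw [hd]; exact Nat.find_spec hex
  have hdmin : ∀ d', d' < d → g d' ∉ Submodule.span k (Set.range fun i : Fin d' => g i) := by
    intro d' hd'; rw [hd] at hd'; exact Nat.find_min hex hd'
  have hd0 : d ≠ 0 := by
    rintro rfl
    rw [Set.range_eq_empty, Submodule.span_empty, Submodule.mem_bot, hg0] at hdmem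
    exact hv hdmem
  obtain ⟨e, he⟩ : ∃ e, d = e + 1 := ⟨d - 1, by omega⟩
  clear hd
  subst he
  have hli : LinearIndependent k (fun i : Fin (e + 1) => g i) :=
    linInd_of_forall_not_mem g (e + 1) hdmin
  obtain ⟨a₀, ha₀⟩ := (Submodule.mem_span_range_iff_exists_fun k).mp hdmem
  obtain ⟨a, ha⟩ : ∃ a : ℕ → k, ∀ i, a i = if h : i < e + 1 then a₀ ⟨i, h⟩ else 0 :=
    ⟨_, fun _ => rfl⟩
  have haF : ∀ i : Fin (e + 1), a i = a₀ i := fun i => by rw [ha, dif_pos i.isLt]
  have hrel : g (e + 1) = ∑ i ∈ Finset.range (e + 1), a i • g i := by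
    rw [← Fin.sum_univ_eq_sum_range (fun i => a i • g i) (e + 1), ← ha₀]
    exact Finset.sum_congr rfl fun i _ => by rw [haF]
  have hne : ∃ i, i < e + 1 ∧ a i ≠ 0 := by
    by_contra hcon
    push_neg at hcon
    have h0 : g (e + 1) = 0 := by
      rw [hrel]
      exact Finset.sum_eq_zero fun i hi => by rw [hcon i (Finset.mem_range.mp hi), zero_smul]
    have h1 : (⇑φ)^[e + 1] v = (⇑φ)^[e + 1] 0 := by
      rw [Function.iterate_fixed (map_zero φ), ← hgdef]
      exact h0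
    exact hv ((hφ.iterate (e + 1)) h1)
  obtain ⟨i₀, hi₀, hai₀⟩ := hne
  obtain ⟨u, hu0, hu⟩ := exists_ne_zero_additive_fixed hq (e + 1)
    (fun j => (a (e - j)) ^ (q ^ (j + 1)))
    ⟨e - i₀, by omega, by
      show (a (e - (e - i₀))) ^ _ ≠ 0
      rw [Nat.sub_sub_self (by omega)]; exact pow_ne_zero _ hai₀⟩
  obtain ⟨y, hye, hfix⟩ := core hρ φ g hg e a hrel 0 (map_zero ρ) u (by rw [sub_zero]; exact hu)
  refine ⟨∑ i ∈ Finset.range (e + 1), y i • g i, ?_, ?_⟩
  · intro hzero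
    rw [← Fin.sum_univ_eq_sum_range (fun i => y i • g i) (e + 1)] at hzero
    have h1 := Fintype.linearIndependent_iff.mp hli (fun i => y i) hzero ⟨e, by omega⟩
    have hye0 : y e = 0 := h1
    rw [hye0, map_zero] at hye
    exact hu0 hye.symm
  · rw [zero_smul, sub_eq_zero] at hfix
    exact hfix

theorem exists_sub_eq {q : ℕ} (hq : 2 ≤ q)
    {ρ : k →+* k} (hρ : ∀ x, ρ x = x ^ q) (φ : V →ₛₗ[ρ] V) (r : V) : ∃ z : V, φ z - z = r := by
  classical
  obtain ⟨g, hgdef⟩ : ∃ g : ℕ → V, ∀ i, g i = (⇑φ)^[i] r := ⟨_, fun _ => rfl⟩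
  have hg0 : g 0 = r := by rw [hgdef]; rfl
  have hg : ∀ i, g (i + 1) = φ (g i) := fun i => by
    rw [hgdef, hgdef]; exact Function.iterate_succ_apply' _ _ _
  obtain ⟨d, hdmem⟩ := exists_relation (k := k) g
  rcases Nat.eq_zero_or_pos d with rfl | hdpos
  · rw [Set.range_eq_empty, Submodule.span_empty, Submodule.mem_bot, hg0] at hdmem
    exact ⟨0, by rw [map_zero, sub_zero, hdmem]⟩
  · obtain ⟨e, he⟩ : ∃ e, d = e + 1 := ⟨d - 1, by omega⟩
    subst he
    obtain ⟨a₀, ha₀⟩ := (Submodule.mem_span_range_iff_exists_fun k).mp hdmem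
    obtain ⟨a, ha⟩ : ∃ a : ℕ → k, ∀ i, a i = if h : i < e + 1 then a₀ ⟨i, h⟩ else 0 :=
      ⟨_, fun _ => rfl⟩
    have haF : ∀ i : Fin (e + 1), a i = a₀ i := fun i => by rw [ha, dif_pos i.isLt]
    have hrel : g (e + 1) = ∑ i ∈ Finset.range (e + 1), a i • g i := by
      rw [← Fin.sum_univ_eq_sum_range (fun i => a i • g i) (e + 1), ← ha₀]
      exact Finset.sum_congr rfl fun i _ => by rw [haF]
    obtain ⟨u, hu⟩ := exists_additive_root hq (e + 1) (fun j => (a (e - j)) ^ (q ^ (j + 1))) (-1)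
    obtain ⟨y, -, hfix⟩ := core hρ φ g hg e a hrel 1 (map_one ρ) u (by
      have h1 : ∑ j ∈ Finset.range (e + 1), (a (e - j)) ^ (q ^ (j + 1)) * u ^ (q ^ (j + 1))
          - u + -1 = 0 := hu
      linear_combination h1)
    exact ⟨_, by rw [hfix, one_smul, hg0]⟩

end Core

end H8Lang
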