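import Mathlib
import Groth.Prelude.Def_Isoc
import Groth.Agent.Lib.helper8.IsocBase
import Groth.Agent.Lib.helper8.IsocChain
import Groth.Agent.Lib.helper8.IsocDet
import Groth.Agent.Lib.helper8.IsocFit
import Groth.Agent.Lib.helper8.IsocLang1

/-!
# Lang's theorem for lattices in isocrystals over an algebraically closed field (helper8)
-/

set_option autoImplicit false
set_option linter.unusedSectionVars false

noncomputable section

open scoped Pointwise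

namespace H8Isoc

universe u v

variable {p : ℕ} [hp : Fact p.Prime] {k : Type u} [Field k] [CharP k p] [PerfectRing k p]

local notation "W" => WittVector p k
local notation "L" => FractionRing (WittVector p k)

variable {N : Type v} [AddCommGroup N] [Module (WittVector p k) N]
  [Module (FractionRing (WittVector p k)) N]
  [IsScalarTower (WittVector p k) (FractionRing (WittVector p k)) N]

/-! ### the twists -/

theorem frob_frob (a b : ℤ) (x : L) :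
    Isoc.frob p k a (Isoc.frob p k b x) = Isoc.frob p k (a + b) x := by
  obtain ⟨u, v, -, rfl⟩ := IsFractionRing.div_surjective (A := W) x
  simp only [map_div₀, Isoc.frob_algebraMap, zpow_add, RingAut.mul_apply]

theorem frob_pow (a : ℤ) (s : ℕ) : (Isoc.frob p k a) ^ s = Isoc.frob p k (a * s) := by
  induction s with
  | zero =>
    rw [pow_zero, Nat.cast_zero, mul_zero, Isoc.frob_zero]; rfl
  | succ s ih =>
    ext x
    rw [pow_succ', RingHom.mul_def, RingHom.comp_apply, ih, frob_frob]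
    congr 2
    push_cast; ring

theorem latImg_iter_one {τ : L →+* L} (F : N →ₛₗ[τ] N) (s : ℕ) (M : Submodule W N) :
    Isoc.latImg (Isoc.iter F s) 1 M = Isoc.latImg F s M := by
  unfold Isoc.latImg
  rw [Function.iterate_one]
  rfl

theorem map_zpow_smul {σ : L →+* L} (H : N →ₛₗ[σ] N) (r : ℤ) (x : N) :
    H (((p : L) ^ r) • x) = ((p : L) ^ r) • H x := by
  rw [map_smulₛₗ, map_zpow₀, map_natCast]

theorem map_mem_latImg_one {σ : L →+* L} (H : N →ₛₗ[σ] N) {M : Submodule W N} {y : N}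
    (hy : y ∈ M) : H y ∈ Isoc.latImg H 1 M := by
  have := iter_mem_latImg H 1 hy
  rwa [Function.iterate_one] at this

theorem exists_of_mem_latImg_one {σ : L →+* L} (hσ : Good σ) (H : N →ₛₗ[σ] N)
    {M : Submodule W N} {y : N} (hy : y ∈ Isoc.latImg H 1 M) : ∃ m ∈ M, H m = y := by
  obtain ⟨m, hm, hmy⟩ := exists_of_mem_latImg hσ H 1 hy
  rw [Function.iterate_one] at hmy
  exact ⟨m, hm, hmy⟩

/-! ### separatedness -/

theorem eq_zero_of_forall_mem_pPow [Module.Finite L N] {M : Submodule W N} (hM : M.IsLattice L)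
    {x : N} (hx : ∀ j : ℕ, x ∈ Isoc.pPow (j : ℤ) M) : x = 0 := by
  obtain ⟨h, hh⟩ : ∃ h, Module.finrank L N = h := ⟨_, rfl⟩
  let b : Module.Basis (Fin h) L N := Module.finBasisOfFinrankEq L N hh
  obtain ⟨e, he1, he2⟩ := exists_lattice_basis b hM
  by_contra hx0
  have hne : e.repr x ≠ 0 := fun h0 => hx0 (e.repr.map_eq_zero_iff.mp h0)
  obtain ⟨i, hi⟩ : ∃ i, e.repr x i ≠ 0 := by
    by_contra hcon
    push_neg at hcon
    exact hne (Finsupp.ext hcon)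
  obtain ⟨r, hr⟩ := exists_isOrdP _ hi
  obtain ⟨j, hj⟩ : ∃ j : ℕ, r < (j : ℤ) := ⟨(r + 1).toNat, by omega⟩
  have h1 := hx j
  rw [mem_pPow] at h1
  obtain ⟨w, hw⟩ := he2 _ h1 i
  rw [map_smul, Finsupp.smul_apply, smul_eq_mul] at hw
  have hw0 : w ≠ 0 := by
    rintro rfl
    rw [map_zero] at hw
    rcases mul_eq_zero.mp hw with h2 | h2
    · exact zpow_ne_zero _ pL_ne_zero h2
    · exact hi h2
  obtain ⟨m, hm⟩ := exists_isOrdP_int w hw0
  have h3 : Isoc.IsOrdP (e.repr x i) ((j : ℤ) + m) := by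
    have h4 : e.repr x i = (p : L) ^ (j : ℤ) * algebraMap W L w := by
      rw [← hw, ← mul_assoc, ← zpow_add₀ pL_ne_zero, add_neg_cancel, zpow_zero, one_mul]
    rw [h4]
    exact IsOrdP.mul (isOrdP_zpow _) hm
  have := IsOrdP.unique hr h3
  omega

/-! ### successive approximation -/

theorem cont_of_latImg_le {σ : L →+* L} (H : N →ₛₗ[σ] N) {M : Submodule W N} (c : ℕ)
    (hHM : Isoc.latImg H 1 M ≤ Isoc.pPow (-(c : ℤ)) M) (j : ℕ) {y : N}
    (hy : y ∈ Isoc.pPow ((j + c : ℕ) : ℤ) M) : H y ∈ Isoc.pPow (j : ℤ) M := by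
  have h1 : H y ∈ Isoc.latImg H 1 (Isoc.pPow ((j + c : ℕ) : ℤ) M) := map_mem_latImg_one H hy
  rw [latImg_pPow] at h1
  have h2 := pPow_mono (r := ((j + c : ℕ) : ℤ)) hHM h1
  rw [← pPow_add] at h2
  have e : ((j + c : ℕ) : ℤ) + -(c : ℤ) = (j : ℤ) := by push_cast; ring
  rw [e] at h2
  exact h2

theorem approx_surj [Module.Finite L N] {σ : L →+* L} (H : N →ₛₗ[σ] N) {M : Submodule W N}
    (hM : M.IsLattice L) (c : ℕ) (hHM : Isoc.latImg H 1 M ≤ Isoc.pPow (-(c : ℤ)) M)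
    (hstep : ∀ (j : ℕ) (d : N), d ∈ Isoc.pPow (j : ℤ) M →
      ∃ y ∈ Isoc.pPow (j : ℤ) M, H y - y - d ∈ Isoc.pPow ((j + 1 : ℕ) : ℤ) M)
    (x : N) (hx : x ∈ M) : ∃ z ∈ M, H z - z = x := by
  let S : ℕ → Set N := fun j => {z | z ∈ M ∧ H z - z - x ∈ Isoc.pPow (j : ℤ) M}
  have hS : ∀ j : ℕ, ∀ z ∈ S j, ∃ z' ∈ S (j + 1), z' - z ∈ Isoc.pPow (j : ℤ) M := by
    rintro j z ⟨hzM, hz⟩
    obtain ⟨y, hy, hy2⟩ := hstep j (-(H z - z - x)) (Submodule.neg_mem _ hz)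
    refine ⟨z + y, ⟨M.add_mem hzM (pPow_nat_le j M hy), ?_⟩, by
      rw [add_sub_cancel_left]; exact hy⟩
    have e : H (z + y) - (z + y) - x = H y - y - -(H z - z - x) := by rw [map_add]; abel
    rw [e]; exact hy2
  have h0 : (0 : N) ∈ S 0 := by
    refine ⟨M.zero_mem, ?_⟩
    rw [map_zero, Nat.cast_zero, pPow_zero, sub_zero, zero_sub]
    exact M.neg_mem hx
  obtain ⟨y, hy0, hy⟩ := exists_limit_tower hM S hS h0
  rw [sub_zero] at hy0
  refine ⟨y, hy0, ?_⟩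
  have key : ∀ j : ℕ, H y - y - x ∈ Isoc.pPow (j : ℤ) M := by
    intro j
    obtain ⟨z, ⟨hzM, hz⟩, hyz⟩ := hy (j + c)
    have h1 : H (y - z) ∈ Isoc.pPow (j : ℤ) M := cont_of_latImg_le H c hHM j hyz
    have hle : Isoc.pPow ((j + c : ℕ) : ℤ) M ≤ Isoc.pPow (j : ℤ) M :=
      pPow_le_of_le (by push_cast; omega) M
    have e : H y - y - x = (H z - z - x) + H (y - z) - (y - z) := by rw [map_sub]; abel
    rw [e]
    exact Submodule.sub_mem _ (Submodule.add_mem _ (hle hz) h1) (hle hyz)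
  have := eq_zero_of_forall_mem_pPow hM key
  exact sub_eq_zero.mp this

theorem approx_fixed [Module.Finite L N] {σ : L →+* L} (H : N →ₛₗ[σ] N) {M : Submodule W N}
    (hM : M.IsLattice L) (c : ℕ) (hHM : Isoc.latImg H 1 M ≤ Isoc.pPow (-(c : ℤ)) M)
    (hstep : ∀ (j : ℕ) (d : N), d ∈ Isoc.pPow (j : ℤ) M →
      ∃ y ∈ Isoc.pPow (j : ℤ) M, H y - y - d ∈ Isoc.pPow ((j + 1 : ℕ) : ℤ) M)
    (x₀ : N) (hx₀ : x₀ ∈ M) (hx₀' : H x₀ - x₀ ∈ Isoc.pPow 1 M) :
    ∃ y ∈ M, y - x₀ ∈ Isoc.pPow 1 M ∧ H y = y := by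
  let S : ℕ → Set N := fun j =>
    {z | z ∈ M ∧ z - x₀ ∈ Isoc.pPow 1 M ∧ H z - z ∈ Isoc.pPow ((j + 1 : ℕ) : ℤ) M}
  have hS : ∀ j : ℕ, ∀ z ∈ S j, ∃ z' ∈ S (j + 1), z' - z ∈ Isoc.pPow (j : ℤ) M := by
    rintro j z ⟨hzM, hz1, hz⟩
    obtain ⟨y, hy, hy2⟩ := hstep (j + 1) (-(H z - z)) (Submodule.neg_mem _ hz)
    have hle1 : Isoc.pPow ((j + 1 : ℕ) : ℤ) M ≤ Isoc.pPow 1 M :=
      pPow_le_of_le (by push_cast; omega) M
    have hlej : Isoc.pPow ((j + 1 : ℕ) : ℤ) M ≤ Isoc.pPow (j : ℤ) M :=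
      pPow_le_of_le (by push_cast; omega) M
    refine ⟨z + y, ⟨M.add_mem hzM (pPow_nat_le (j + 1) M hy), ?_, ?_⟩, by
      rw [add_sub_cancel_left]; exact hlej hy⟩
    · have e : z + y - x₀ = (z - x₀) + y := by abel
      rw [e]; exact Submodule.add_mem _ hz1 (hle1 hy)
    · have e : H (z + y) - (z + y) = H y - y - -(H z - z) := by rw [map_add]; abel
      rw [e]; exact hy2
  have h0 : x₀ ∈ S 0 := by
    refine ⟨hx₀, by rw [sub_self]; exact Submodule.zero_mem _, ?_⟩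
    simpa using hx₀'
  obtain ⟨y, hy0, hy⟩ := exists_limit_tower hM S hS h0
  have hyM : y ∈ M := by
    have := M.add_mem hy0 hx₀
    rwa [sub_add_cancel] at this
  refine ⟨y, hyM, ?_, ?_⟩
  · obtain ⟨z, ⟨_, hz1, _⟩, hyz⟩ := hy 1
    have e : y - x₀ = (y - z) + (z - x₀) := by abel
    rw [e]
    refine Submodule.add_mem _ ?_ hz1
    simpa using hyz
  · have key : ∀ j : ℕ, H y - y ∈ Isoc.pPow (j : ℤ) M := by
      intro j
      obtain ⟨z, ⟨hzM, _, hz⟩, hyz⟩ := hy (j + c)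
      have h1 : H (y - z) ∈ Isoc.pPow (j : ℤ) M := cont_of_latImg_le H c hHM j hyz
      have hle : Isoc.pPow ((j + c : ℕ) : ℤ) M ≤ Isoc.pPow (j : ℤ) M :=
        pPow_le_of_le (by push_cast; omega) M
      have hle' : Isoc.pPow ((j + c + 1 : ℕ) : ℤ) M ≤ Isoc.pPow (j : ℤ) M :=
        pPow_le_of_le (by push_cast; omega) M
      have e : H y - y = (H z - z) + H (y - z) - (y - z) := by rw [map_sub]; abel
      rw [e]
      exact Submodule.sub_mem _ (Submodule.add_mem _ (hle' hz) h1) (hle hyz)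
    have := eq_zero_of_forall_mem_pPow hM key
    exact sub_eq_zero.mp this

/-- scaling the mod `p` solvability to all levels -/
theorem step_of_modp {σ : L →+* L} (H : N →ₛₗ[σ] N) {M : Submodule W N}
    (hA : ∀ m ∈ M, ∃ y ∈ M, H y - y - m ∈ Isoc.pPow 1 M) :
    ∀ (j : ℕ) (d : N), d ∈ Isoc.pPow (j : ℤ) M →
      ∃ y ∈ Isoc.pPow (j : ℤ) M, H y - y - d ∈ Isoc.pPow ((j + 1 : ℕ) : ℤ) M := by
  intro j d hd
  rw [mem_pPow] at hd
  obtain ⟨y₀, hy₀, hy₀'⟩ := hA _ hd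
  refine ⟨((p : L) ^ (j : ℤ)) • y₀, smul_mem_pPow hy₀, ?_⟩
  have hd' : d = ((p : L) ^ (j : ℤ)) • (((p : L) ^ (-(j : ℤ))) • d) := by
    rw [smul_smul, ← zpow_add₀ pL_ne_zero, add_neg_cancel, zpow_zero, one_smul]
  have e : H (((p : L) ^ (j : ℤ)) • y₀) - ((p : L) ^ (j : ℤ)) • y₀ - d
      = ((p : L) ^ (j : ℤ)) • (H y₀ - y₀ - ((p : L) ^ (-(j : ℤ))) • d) := by
    rw [map_zpow_smul, smul_sub, smul_sub, ← hd']
  rw [e]
  have h1 := smul_mem_pPow (r := (j : ℤ)) hy₀'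
  rw [← pPow_add] at h1
  have e2 : ((j + 1 : ℕ) : ℤ) = (j : ℤ) + 1 := by push_cast; ring
  rw [e2]
  exact h1

end H8Isoc
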