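import Mathlib
import Groth.Prelude.Def_Isoc
import Groth.Agent.Lib.helper8.IsocBase
import Groth.Agent.Lib.helper8.IsocChain
import Groth.Agent.Lib.helper8.IsocDet
import Groth.Agent.Lib.helper8.IsocFit
import Groth.Agent.Lib.helper8.IsocLang1
import Groth.Agent.Lib.helper8.IsocLang2

/-!
# Lang's theorem for lattices, part 2: reduction modulo `p` (helper8)
-/

set_option autoImplicit false
set_option linter.unusedSectionVars false

noncomputable section

open scoped Pointwise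

namespace H8Isoc

universe u v

variable {p : ℕ} [hp : Fact p.Prime] {k : Type u} [Field k] [CharP k p] [PerfectRing k p]

local notation "W" => WittVector p k
local notation "L" => FractionRing (WittVector p k)

variable {N : Type v} [AddCommGroup N] [Module (WittVector p k) N]
  [Module (FractionRing (WittVector p k)) N]
  [IsScalarTower (WittVector p k) (FractionRing (WittVector p k)) N]

theorem coeff_zero_frobEquiv_pow (n : ℕ) (w : W) :
    ((WittVector.frobeniusEquiv p k ^ (n : ℤ)) w).coeff 0 = (w.coeff 0) ^ (p ^ n) := by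
  rw [zpow_natCast]
  induction n generalizing w with
  | zero => rw [pow_zero, pow_zero, pow_one]; rfl
  | succ n ih =>
    rw [pow_succ, RingAut.mul_apply, ih]
    show ((WittVector.frobenius w).coeff 0) ^ (p ^ n) = _
    rw [WittVector.coeff_frobenius_charP, ← pow_mul, ← pow_succ']

theorem exists_inverse (j : ℤ) (G : N →ₛₗ[Isoc.frob p k j] N) (hG : Function.Bijective G) :
    ∃ G' : N →ₛₗ[Isoc.frob p k (-j)] N, (∀ x, G (G' x) = x) ∧ (∀ x, G' (G x) = x) := by
  let E := Equiv.ofBijective G hG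
  have h1 : ∀ x, G (E.symm x) = x := fun x => Equiv.ofBijective_apply_symm_apply G hG x
  have h2 : ∀ x, E.symm (G x) = x := fun x => Equiv.ofBijective_symm_apply_apply G hG x
  refine ⟨{ toFun := E.symm, map_add' := ?_, map_smul' := ?_ }, h1, h2⟩
  · intro x y
    apply hG.1
    rw [h1 (x + y), map_add G (E.symm x) (E.symm y), h1, h1]
  · intro c x
    apply hG.1
    rw [h1, map_smulₛₗ, h1, frob_frob, add_neg_cancel, Isoc.frob_zero]
    rfl

variable [IsAlgClosed k]

theorem lang_pos [Module.Finite L N] (n : ℕ) (hn : 0 < n) {σ : L →+* L}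
    (hσ : σ = Isoc.frob p k (n : ℤ)) (G : N →ₛₗ[σ] N) (hGinj : Function.Injective G)
    {M : Submodule W N} (hM : M.IsLattice L) (hGM : Isoc.latImg G 1 M = M) :
    (∀ m ∈ M, ∃ y ∈ M, G y - y - m ∈ Isoc.pPow 1 M) ∧
    (Nontrivial N → ∃ x ∈ M, x ∉ Isoc.pPow 1 M ∧ G x - x ∈ Isoc.pPow 1 M) := by
  subst hσ
  classical
  have hσg : Good (Isoc.frob p k (n : ℤ)) := good_frob _
  obtain ⟨h, hh⟩ : ∃ h, Module.finrank L N = h := ⟨_, rfl⟩
  let b : Module.Basis (Fin h) L N := Module.finBasisOfFinrankEq L N hh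
  obtain ⟨e, he1, he2⟩ := exists_lattice_basis b hM
  obtain ⟨ic, hic⟩ : ∃ ic : L → W, ∀ w : W, ic (algebraMap W L w) = w :=
    ⟨Function.invFun (algebraMap W L),
      Function.leftInverse_invFun (IsFractionRing.injective W L)⟩
  obtain ⟨cc, hcc⟩ : ∃ cc : W →+* k, ∀ w : W, cc w = w.coeff 0 :=
    ⟨WittVector.constantCoeff, fun _ => rfl⟩
  have hccp : cc (p : W) = 0 := by rw [map_natCast]; exact CharP.cast_eq_zero k p
  obtain ⟨rd, hrd⟩ : ∃ rd : N → (Fin h → k), ∀ x i, rd x i = cc (ic (e.repr x i)) :=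
    ⟨_, fun _ _ => rfl⟩
  have hrd' : ∀ (x : N) (w : Fin h → W), (∀ i, e.repr x i = algebraMap W L (w i)) →
      ∀ i, rd x i = cc (w i) := by
    intro x w hw i
    rw [hrd, hw, hic]
  have hGM' : ∀ y ∈ M, G y ∈ M := fun y hy => by
    have := map_mem_latImg_one G hy
    rwa [hGM] at this
  choose! wc hwc using he2
  obtain ⟨A, hA⟩ : ∃ A : Matrix (Fin h) (Fin h) W, ∀ i j, A i j = wc (G (e j)) i :=
    ⟨Matrix.of fun i j => wc (G (e j)) i, fun _ _ => rfl⟩
  have hAmat : ∀ i j, mat e G i j = algebraMap W L (A i j) := by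
    intro i j
    rw [mat_apply, hA]
    exact hwc _ (hGM' _ (he1 j)) i
  let ρ : k →+* k := iterateFrobenius k p n
  have hρ : ∀ x, ρ x = x ^ (p ^ n) := fun x => rfl
  have hq : 2 ≤ p ^ n := by
    calc 2 ≤ p := hp.out.two_le
      _ = p ^ 1 := (pow_one p).symm
      _ ≤ p ^ n := Nat.pow_le_pow_right hp.out.pos hn
  let φ : (Fin h → k) →ₛₗ[ρ] (Fin h → k) :=
    { toFun := fun v i => ∑ j, cc (A i j) * ρ (v j)
      map_add' := fun v w => by
        funext i
        simp only [Pi.add_apply, map_add, mul_add, Finset.sum_add_distrib]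
      map_smul' := fun c v => by
        funext i
        simp only [Pi.smul_apply, smul_eq_mul, map_mul, Finset.mul_sum]
        exact Finset.sum_congr rfl fun j _ => by ring }
  have hφ : ∀ v i, φ v i = ∑ j, cc (A i j) * ρ (v j) := fun _ _ => rfl
  have hR4 : ∀ x ∈ M, rd (G x) = φ (rd x) := by
    intro x hx
    funext i
    have h1 : e.repr (G x) i = algebraMap W L
        (∑ j, A i j * (WittVector.frobeniusEquiv p k ^ (n : ℤ)) (wc x j)) := by
      rw [repr_map, map_sum]
      refine Finset.sum_congr rfl fun j _ => ?_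
      rw [hAmat, hwc x hx j, Isoc.frob_algebraMap, map_mul]
    rw [hrd, h1, hic, map_sum, hφ]
    refine Finset.sum_congr rfl fun j _ => ?_
    rw [map_mul, hcc ((WittVector.frobeniusEquiv p k ^ (n : ℤ)) (wc x j)),
      coeff_zero_frobEquiv_pow, hρ, hrd' x (wc x) (hwc x hx) j, hcc (wc x j)]
  have hR3 : ∀ x ∈ M, ∀ y ∈ M, rd (x - y) = rd x - rd y := by
    intro x hx y hy
    funext i
    have h1 : e.repr (x - y) i = algebraMap W L (wc x i - wc y i) := by
      rw [map_sub, Finsupp.sub_apply, hwc x hx i, hwc y hy i, map_sub]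
    rw [hrd, h1, hic, Pi.sub_apply, hrd' x (wc x) (hwc x hx) i, hrd' y (wc y) (hwc y hy) i,
      map_sub]
  have hR1a : ∀ x ∈ M, rd x = 0 → x ∈ Isoc.pPow 1 M := by
    intro x hx h0
    have hdiv : ∀ i, ∃ u : W, wc x i = (p : W) * u := by
      intro i
      have h1 : (wc x i).coeff 0 = 0 := by
        have := congrFun h0 i
        rw [hrd' x (wc x) (hwc x hx) i, hcc] at this
        exact this
      have h2 := (WittVector.mem_span_p_iff_coeff_zero_eq_zero (wc x i)).mpr h1
      rw [Ideal.mem_span_singleton] at h2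
      obtain ⟨u, hu⟩ := h2
      exact ⟨u, hu⟩
    choose u hu using hdiv
    have hxeq : x = ((p : L) ^ (1 : ℤ)) • ∑ i, u i • e i := by
      conv_lhs => rw [← e.sum_repr x]
      rw [zpow_one, Finset.smul_sum]
      refine Finset.sum_congr rfl fun i _ => ?_
      rw [hwc x hx i, hu i, map_mul, map_natCast, mul_smul, algebraMap_smul]
    rw [hxeq]
    exact smul_mem_pPow (Submodule.sum_mem _ fun i _ => M.smul_mem _ (he1 i))
  have hR1b : ∀ x, x ∈ Isoc.pPow 1 M → rd x = 0 := by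
    intro x hx
    rw [mem_pPow] at hx
    funext i
    have h1 : e.repr x i =
        algebraMap W L ((p : W) * wc (((p : L) ^ (-(1 : ℤ))) • x) i) := by
      have h2 := hwc _ hx i
      rw [map_smul, Finsupp.smul_apply, smul_eq_mul] at h2
      rw [map_mul, map_natCast, ← h2, ← mul_assoc, zpow_neg, zpow_one,
        mul_inv_cancel₀ pL_ne_zero, one_mul]
    rw [hrd, h1, hic, map_mul, hccp, zero_mul]
    rfl
  have hR2 : ∀ v : Fin h → k, ∃ x ∈ M, rd x = v := by
    intro v
    refine ⟨∑ i, (WittVector.teichmuller p (v i)) • e i,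
      Submodule.sum_mem _ fun i _ => M.smul_mem _ (he1 i), ?_⟩
    funext i
    have h1 : e.repr (∑ i, (WittVector.teichmuller p (v i)) • e i) i =
        algebraMap W L (WittVector.teichmuller p (v i)) := by
      have h2 : (∑ i, (WittVector.teichmuller p (v i)) • e i) =
          ∑ i, (algebraMap W L (WittVector.teichmuller p (v i))) • e i :=
        Finset.sum_congr rfl fun i _ => by rw [algebraMap_smul]
      rw [h2, Module.Basis.repr_sum_self]
    rw [hrd, h1, hic, hcc, WittVector.teichmuller_coeff_zero]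
  have hA_main : ∀ m ∈ M, ∃ y ∈ M, G y - y - m ∈ Isoc.pPow 1 M := by
    intro m hm
    obtain ⟨z, hz⟩ := H8Lang.exists_sub_eq hq hρ φ (rd m)
    obtain ⟨y, hy, hyz⟩ := hR2 z
    refine ⟨y, hy, hR1a _ (M.sub_mem (M.sub_mem (hGM' y hy) hy) hm) ?_⟩
    rw [hR3 _ (M.sub_mem (hGM' y hy) hy) _ hm, hR3 _ (hGM' y hy) _ hy, hR4 y hy, hyz, hz,
      sub_self]
  refine ⟨hA_main, fun hnt => ?_⟩
  haveI := hnt
  have hpos : 0 < h := by rw [← hh]; exact Module.finrank_pos
  haveI : Nonempty (Fin h) := ⟨⟨0, hpos⟩⟩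
  have hφinj : Function.Injective φ := by
    rw [injective_iff_map_eq_zero]
    intro v hv
    obtain ⟨x, hx, rfl⟩ := hR2 v
    have h1 : G x ∈ Isoc.pPow 1 M := hR1a _ (hGM' x hx) (by rw [hR4 x hx, hv])
    have h2 : G x ∈ Isoc.latImg G 1 (Isoc.pPow 1 M) := by rw [latImg_pPow, hGM]; exact h1
    obtain ⟨x', hx', hxx'⟩ := exists_of_mem_latImg_one hσg G h2
    have : x' = x := hGinj hxx'
    rw [this] at hx'
    exact hR1b x hx'
  obtain ⟨v, hv0, hv⟩ := H8Lang.exists_fixed_ne_zero hq hρ φ hφinj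
  obtain ⟨x, hx, rfl⟩ := hR2 v
  refine ⟨x, hx, fun hxp => hv0 (hR1b x hxp), hR1a _ (M.sub_mem (hGM' x hx) hx) ?_⟩
  rw [hR3 _ (hGM' x hx) _ hx, hR4 x hx, hv, sub_self]

theorem lang [Module.Finite L N] (j : ℤ) (hj : j ≠ 0) {σ : L →+* L} (hσ : σ = Isoc.frob p k j)
    (G : N →ₛₗ[σ] N) (hG : Function.Bijective G) {M : Submodule W N} (hM : M.IsLattice L)
    (hGM : Isoc.latImg G 1 M = M) :
    (∀ m ∈ M, ∃ y ∈ M, G y - y - m ∈ Isoc.pPow 1 M) ∧
    (Nontrivial N → ∃ x ∈ M, x ∉ Isoc.pPow 1 M ∧ G x - x ∈ Isoc.pPow 1 M) := by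
  rcases lt_or_gt_of_ne hj with hneg | hpos
  · subst hσ
    obtain ⟨G', hGG', hG'G⟩ := exists_inverse j G hG
    obtain ⟨n, hn⟩ : ∃ n : ℕ, -j = (n : ℤ) := ⟨(-j).toNat, by omega⟩
    have hnpos : 0 < n := by omega
    have hσg : Good (Isoc.frob p k j) := good_frob j
    have hGM' : ∀ y ∈ M, G y ∈ M := fun y hy => by
      have := map_mem_latImg_one G hy; rwa [hGM] at this
    have hG'M : ∀ y ∈ M, G' y ∈ M := by
      intro y hy
      rw [← hGM] at hy
      obtain ⟨m, hm, rfl⟩ := exists_of_mem_latImg_one hσg G hy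
      rw [hG'G]; exact hm
    have hG'M_eq : Isoc.latImg G' 1 M = M := by
      apply le_antisymm
      · rw [latImg_le_iff]; intro m hm; rw [Function.iterate_one]; exact hG'M m hm
      · intro m hm
        have := map_mem_latImg_one G' (hGM' m hm)
        rwa [hG'G] at this
    have hG'inj : Function.Injective G' := fun x y hxy => by
      have := congrArg G hxy; rwa [hGG', hGG'] at this
    have hGp : ∀ y ∈ Isoc.pPow 1 M, G y ∈ Isoc.pPow 1 M := by
      intro y hy
      have := map_mem_latImg_one G hy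
      rwa [latImg_pPow, hGM] at this
    obtain ⟨hA', hB'⟩ := lang_pos n hnpos (σ := Isoc.frob p k (-j)) (by rw [hn]) G' hG'inj hM
      hG'M_eq
    constructor
    · intro m hm
      obtain ⟨y, hy, hy'⟩ := hA' (-(G' m)) (M.neg_mem (hG'M m hm))
      refine ⟨y, hy, ?_⟩
      have h1 := hGp _ hy'
      rw [map_sub, map_sub, map_neg, hGG', hGG'] at h1
      have e : G y - y - m = -(y - G y - -m) := by abel
      rw [e]; exact Submodule.neg_mem _ h1
    · intro hnt
      obtain ⟨x, hx, hxp, hx'⟩ := hB' hnt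
      refine ⟨x, hx, hxp, ?_⟩
      have h1 := hGp _ hx'
      rw [map_sub, hGG'] at h1
      have e : G x - x = -(x - G x) := by abel
      rw [e]; exact Submodule.neg_mem _ h1
  · obtain ⟨n, rfl⟩ : ∃ n : ℕ, j = (n : ℤ) := ⟨j.toNat, by omega⟩
    exact lang_pos n (by omega) hσ G hG.1 hM hGM

theorem lang_surj [Module.Finite L N] (j : ℤ) (hj : j ≠ 0) {σ : L →+* L}
    (hσ : σ = Isoc.frob p k j)
    (G : N →ₛₗ[σ] N) (hG : Function.Bijective G) {M : Submodule W N} (hM : M.IsLattice L)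
    (hGM : Isoc.latImg G 1 M = M) : ∀ x ∈ M, ∃ z ∈ M, G z - z = x := by
  obtain ⟨hA, -⟩ := lang j hj hσ G hG hM hGM
  have hHM : Isoc.latImg G 1 M ≤ Isoc.pPow (-((0 : ℕ) : ℤ)) M := by
    rw [Nat.cast_zero, neg_zero, pPow_zero, hGM]
  exact approx_surj G hM 0 hHM (step_of_modp G hA)

theorem lang_fixed [Module.Finite L N] [Nontrivial N] (j : ℤ) (hj : j ≠ 0) {σ : L →+* L}
    (hσ : σ = Isoc.frob p k j)
    (G : N →ₛₗ[σ] N) (hG : Function.Bijective G) {M : Submodule W N} (hM : M.IsLattice L)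
    (hGM : Isoc.latImg G 1 M = M) : ∃ x ∈ M, x ∉ Isoc.pPow 1 M ∧ G x = x := by
  obtain ⟨hA, hB⟩ := lang j hj hσ G hG hM hGM
  have hHM : Isoc.latImg G 1 M ≤ Isoc.pPow (-((0 : ℕ) : ℤ)) M := by
    rw [Nat.cast_zero, neg_zero, pPow_zero, hGM]
  obtain ⟨x₀, hx₀, hx₀p, hx₀'⟩ := hB inferInstance
  obtain ⟨y, hy, hy1, hy2⟩ := approx_fixed G hM 0 hHM (step_of_modp G hA) x₀ hx₀ hx₀'
  refine ⟨y, hy, fun hyp => hx₀p ?_, hy2⟩
  have := Submodule.sub_mem _ hyp hy1
  rwa [sub_sub_cancel] at this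

end H8Isoc
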