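import Mathlib
import Groth.Prelude.Def_Isoc
import Groth.Agent.Lib.helper8.IsocBase
import Groth.Agent.Lib.helper8.IsocChain
import Groth.Agent.Lib.helper8.IsocDet
import Groth.Agent.Lib.helper8.IsocSub
import Groth.Agent.Lib.helper8.IsocFit
import Groth.Agent.Lib.helper8.IsocDecomp
import Groth.Agent.Lib.helper8.IsocLang1
import Groth.Agent.Lib.helper8.IsocLang2
import Groth.Agent.Lib.helper8.IsocLang3

/-!
# Semisimplicity of isocrystals over an algebraically closed field (helper8)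

`F - 1` is surjective on every isocrystal (twist `σ^a`, `a ≠ 0`, `k` algebraically closed); applied
to the isocrystal `Hom(N, P)` this yields stable complements.
-/

set_option autoImplicit false
set_option linter.unusedSectionVars false

noncomputable section

open scoped Pointwise

namespace H8Isoc

universe u v

variable {p : ℕ} [hp : Fact p.Prime] {k : Type u} [Field k] [CharP k p] [PerfectRing k p]
  [IsAlgClosed k]

local notation "W" => WittVector p k
local notation "L" => FractionRing (WittVector p k)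

variable {N : Type v} [AddCommGroup N] [Module (WittVector p k) N]
  [Module (FractionRing (WittVector p k)) N]
  [IsScalarTower (WittVector p k) (FractionRing (WittVector p k)) N]

theorem sub_one_surj_of_isIsoclinic (a : ℤ) (ha : a ≠ 0) (F : N →ₛₗ[Isoc.frob p k a] N)
    (hF : Isoc.IsIsoc F) {μ : ℚ} (hμ : Isoc.IsIsoclinic F μ) (x : N) : ∃ z, F z - z = x := by
  haveI := hF.finite
  have hτ := good_frob (p := p) (k := k) a
  obtain ⟨M, hM, r, s, hs, -, hFM⟩ := hμ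
  have hσg : Good ((Isoc.frob p k a) ^ s) := hτ.pow s
  obtain ⟨H, hHdef⟩ : ∃ H : N →ₛₗ[(Isoc.frob p k a) ^ s] N, H = Isoc.iter F s := ⟨_, rfl⟩
  have hH : ∀ y, H y = (⇑F)^[s] y := fun y => by rw [hHdef]; rfl
  have hHM : Isoc.latImg H 1 M = Isoc.pPow r M := by rw [hHdef, latImg_iter_one, hFM]
  have hHbij : Function.Bijective H := by
    rw [hHdef]; exact hF.bijective.iterate s
  have hHp : ∀ (j : ℤ) (y : N), y ∈ Isoc.pPow j M → H y ∈ Isoc.pPow (j + r) M := by
    intro j y hy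
    have := map_mem_latImg_one H hy
    rwa [latImg_pPow, hHM, ← pPow_add] at this
  have hsurjM : ∀ x ∈ M, ∃ z ∈ M, H z - z = x := by
    rcases lt_trichotomy r 0 with hr | hr | hr
    · obtain ⟨c, hc⟩ : ∃ c : ℕ, r = -(c : ℤ) := ⟨(-r).toNat, by omega⟩
      have hHM' : Isoc.latImg H 1 M ≤ Isoc.pPow (-(c : ℤ)) M := by rw [hHM, hc]
      refine approx_surj H hM c hHM' ?_
      intro j d hd
      have h1 : d ∈ Isoc.latImg H 1 (Isoc.pPow ((j : ℤ) - r) M) := by
        rw [latImg_pPow, hHM, ← pPow_add, sub_add_cancel]; exact hd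
      obtain ⟨d', hd', hdd'⟩ := exists_of_mem_latImg_one hσg H h1
      have hle : Isoc.pPow ((j : ℤ) - r) M ≤ Isoc.pPow ((j + 1 : ℕ) : ℤ) M :=
        pPow_le_of_le (by push_cast; omega) M
      have hle' : Isoc.pPow ((j + 1 : ℕ) : ℤ) M ≤ Isoc.pPow (j : ℤ) M :=
        pPow_le_of_le (by push_cast; omega) M
      refine ⟨d', hle' (hle hd'), ?_⟩
      have e : H d' - d' - d = -d' := by rw [hdd']; abel
      rw [e]; exact Submodule.neg_mem _ (hle hd')
    · subst hr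
      rw [pPow_zero] at hHM
      exact lang_surj (a * s) (mul_ne_zero ha (by exact_mod_cast hs.ne')) (frob_pow a s) H hHbij
        hM hHM
    · have hHM' : Isoc.latImg H 1 M ≤ Isoc.pPow (-((0 : ℕ) : ℤ)) M := by
        rw [hHM, Nat.cast_zero, neg_zero]
        exact pPow_le_of_le hr.le M
      refine approx_surj H hM 0 hHM' ?_
      intro j d hd
      refine ⟨-d, Submodule.neg_mem _ hd, ?_⟩
      have e : H (-d) - -d - d = -(H d) := by rw [map_neg]; abel
      rw [e]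
      exact Submodule.neg_mem _ (pPow_le_of_le (by push_cast; omega) M (hHp j d hd))
  obtain ⟨e, he⟩ := exists_pow_smul_mem_of_mem_span (M' := M) (x := x)
    (by rw [hM.span_eq_top]; trivial)
  obtain ⟨z, -, hz⟩ := hsurjM _ he
  obtain ⟨z', hz'⟩ : ∃ z' : N, z' = ((p : L) ^ (-(e : ℤ))) • z := ⟨_, rfl⟩
  have hz'' : H z' - z' = x := by
    rw [hz', map_zpow_smul, ← smul_sub, hz, smul_smul, ← zpow_add₀ pL_ne_zero, neg_add_cancel,
      zpow_zero, one_smul]
  refine ⟨∑ i ∈ Finset.range s, (⇑F)^[i] z', ?_⟩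
  rw [map_sum, ← Finset.sum_sub_distrib]
  have hstep : ∀ i ∈ Finset.range s, F ((⇑F)^[i] z') - (⇑F)^[i] z' =
      (⇑F)^[i + 1] z' - (⇑F)^[i] z' := fun i _ => by rw [Function.iterate_succ_apply']
  rw [Finset.sum_congr rfl hstep, Finset.sum_range_sub (fun i => (⇑F)^[i] z') s, ← hH]
  exact hz''

theorem sub_one_surj (a : ℤ) (ha : a ≠ 0) (F : N →ₛₗ[Isoc.frob p k a] N)
    (hF : Isoc.IsIsoc F) (x : N) : ∃ z, F z - z = x := by
  have htop := iSup_slopePart_eq_top a F hF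
  have hx : x ∈ ⨆ μ : ℚ, Isoc.slopePart F μ := by rw [htop]; trivial
  refine Submodule.iSup_induction (fun μ : ℚ => Isoc.slopePart F μ)
    (motive := fun x => ∃ z, F z - z = x) hx ?_ ?_ ?_
  · intro μ y hy
    obtain ⟨hP, hIso⟩ := Groth.Agent.S17151.result p k a N F hF μ
    obtain ⟨z, hz⟩ := sub_one_surj_of_isIsoclinic a ha (F.restrict hP)
      (isIsoc_restrict a F hF hP) hIso ⟨y, hy⟩
    exact ⟨z, congrArg Subtype.val hz⟩
  · exact ⟨0, by rw [map_zero, sub_zero]⟩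
  · rintro y₁ y₂ ⟨z₁, h₁⟩ ⟨z₂, h₂⟩
    exact ⟨z₁ + z₂, by rw [map_add, ← h₁, ← h₂]; abel⟩

theorem sub_one_surj_sub (a : ℤ) (ha : a ≠ 0) (F : N →ₛₗ[Isoc.frob p k a] N)
    (hF : Isoc.IsIsoc F) {Q : Submodule L N} (hQ : ∀ x ∈ Q, F x ∈ Q) (r : N) (hr : r ∈ Q) :
    ∃ z ∈ Q, F z - z = r := by
  obtain ⟨z, hz⟩ := sub_one_surj a ha (F.restrict hQ) (isIsoc_restrict a F hF hQ) ⟨r, hr⟩
  exact ⟨z, z.2, congrArg Subtype.val hz⟩

theorem exists_stable_compl (a : ℤ) (ha : a ≠ 0) (F : N →ₛₗ[Isoc.frob p k a] N)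
    (hF : Isoc.IsIsoc F) (P : Submodule L N) (hP : ∀ x ∈ P, F x ∈ P) :
    ∃ Q : Submodule L N, (∀ x ∈ Q, F x ∈ Q) ∧ IsCompl P Q := by
  haveI := hF.finite
  have hτ := good_frob (p := p) (k := k) a
  obtain ⟨F', hFF', hF'F⟩ := exists_inverse a F hF.bijective
  have hP' : ∀ x ∈ P, F' x ∈ P := by
    intro x hx
    obtain ⟨y, hy, hyx⟩ := exists_preimage_of_stable hτ F hF.bijective.1 P hP x hx
    rw [← hyx, hF'F]; exact hy
  obtain ⟨FP, hFP⟩ : ∃ FP : P →ₛₗ[Isoc.frob p k a] P, ∀ y : P, (FP y : N) = F y :=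
    ⟨F.restrict hP, fun _ => rfl⟩
  have hFPinj : Function.Injective FP := fun y₁ y₂ h =>
    Subtype.ext (hF.bijective.1 (by rw [← hFP, ← hFP, h]))
  obtain ⟨Φfun, hΦfun⟩ : ∃ Φfun : (N →ₗ[L] P) → (N →ₗ[L] P),
      ∀ f x, Φfun f x = FP (f (F' x)) :=
    ⟨fun f =>
      { toFun := fun x => FP (f (F' x))
        map_add' := fun x y => by rw [map_add, map_add, map_add]
        map_smul' := fun c x => by
          rw [map_smulₛₗ, map_smul, map_smulₛₗ, frob_frob, add_neg_cancel, Isoc.frob_zero] },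
      fun _ _ => rfl⟩
  obtain ⟨Φ, hΦ⟩ : ∃ Φ : (N →ₗ[L] P) →ₛₗ[Isoc.frob p k a] (N →ₗ[L] P),
      ∀ f x, Φ f x = FP (f (F' x)) :=
    ⟨{ toFun := Φfun
       map_add' := fun f g => by
         refine LinearMap.ext fun x => ?_
         rw [LinearMap.add_apply, hΦfun, hΦfun, hΦfun, LinearMap.add_apply, map_add]
       map_smul' := fun c f => by
         refine LinearMap.ext fun x => ?_
         rw [LinearMap.smul_apply, hΦfun, hΦfun, LinearMap.smul_apply, map_smulₛₗ] },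
     fun f x => hΦfun f x⟩
  have hΦinj : Function.Injective Φ := by
    rw [injective_iff_map_eq_zero]
    intro f hf
    refine LinearMap.ext fun x => ?_
    have h1 : Φ f (F x) = 0 := by rw [hf]; rfl
    rw [hΦ, hF'F] at h1
    have h2 : FP (f x) = FP 0 := by rw [h1, map_zero]
    rw [hFPinj h2]; rfl
  have hΦiso : Isoc.IsIsoc (N := (N →ₗ[L] P)) Φ := by
    refine ⟨inferInstance, hΦinj, ?_⟩
    intro g
    obtain ⟨f, -, hf⟩ := exists_preimage_of_stable (N := (N →ₗ[L] P)) hτ Φ hΦinj ⊤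
      (fun _ _ => trivial) g trivial
    exact ⟨f, hf⟩
  obtain ⟨H0, hH0⟩ : ∃ H0 : Submodule L (N →ₗ[L] P), ∀ f, f ∈ H0 ↔ ∀ x ∈ P, f x = 0 :=
    ⟨{ carrier := {f | ∀ x ∈ P, f x = 0}
       add_mem' := fun {f g} hf hg x hx => by
         rw [LinearMap.add_apply, hf x hx, hg x hx, add_zero]
       zero_mem' := fun x _ => rfl
       smul_mem' := fun c f hf x hx => by rw [LinearMap.smul_apply, hf x hx, smul_zero] },
     fun _ => Iff.rfl⟩
  have hH0stab : ∀ f ∈ H0, Φ f ∈ H0 := by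
    intro f hf
    rw [hH0] at hf ⊢
    intro x hx
    rw [hΦ, hf _ (hP' x hx), map_zero]
  obtain ⟨π₀, hπ₀⟩ := P.subtype.exists_leftInverse_of_injective P.ker_subtype
  have hπ₀' : ∀ y : P, π₀ (y : N) = y := fun y => by
    have := LinearMap.congr_fun hπ₀ y
    simpa using this
  have hr : π₀ - Φ π₀ ∈ H0 := by
    rw [hH0]
    intro x hx
    rw [LinearMap.sub_apply, hΦ]
    have h1 : π₀ x = ⟨x, hx⟩ := hπ₀' ⟨x, hx⟩
    have h2 : π₀ (F' x) = ⟨F' x, hP' x hx⟩ := hπ₀' ⟨F' x, hP' x hx⟩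
    rw [h1, h2, sub_eq_zero]
    apply Subtype.ext
    rw [hFP]
    exact (hFF' x).symm
  obtain ⟨f, hf0, hf⟩ := sub_one_surj_sub (N := (N →ₗ[L] P)) a ha Φ hΦiso hH0stab
    (π₀ - Φ π₀) hr
  rw [hH0] at hf0
  obtain ⟨π, hπ⟩ : ∃ π : N →ₗ[L] P, π = π₀ + f := ⟨_, rfl⟩
  have hπfix : Φ π = π := by
    rw [hπ, map_add]
    have h3 : Φ f = f + (π₀ - Φ π₀) := by rw [← hf]; abel
    rw [h3]; abel
  have hπP : ∀ y : P, π (y : N) = y := by
    intro y
    rw [hπ, LinearMap.add_apply, hπ₀', hf0 _ y.2, add_zero]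
  have hπF : ∀ x, π (F x) = FP (π x) := by
    intro x
    have h4 := LinearMap.congr_fun hπfix (F x)
    rw [hΦ, hF'F] at h4
    exact h4.symm
  refine ⟨LinearMap.ker π, ?_, LinearMap.isCompl_of_proj hπP⟩
  intro x hx
  rw [LinearMap.mem_ker] at hx ⊢
  rw [hπF, hx, map_zero]

end H8Isoc
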