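import Mathlib
import Groth.Prelude.Def_Isoc
import Groth.Agent.Lib.helper8.IsocBase
import Groth.Agent.Lib.helper8.IsocChain
import Groth.Agent.Lib.helper8.IsocDet
import Groth.Agent.Lib.helper8.IsocSub
import Groth.Agent.Lib.helper8.IsocFit
import Groth.Agent.Lib.helper8.IsocDecomp
import Groth.Agent.Lib.helper8.IsocFin
import Groth.Agent.Lib.helper8.IsocLang1
import Groth.Agent.Lib.helper8.IsocLang2
import Groth.Agent.Lib.helper8.IsocLang3
import Groth.Agent.Lib.helper8.IsocLang4
import Groth.Agent.S17139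
import Groth.Agent.S17153

/-!
# The Dieudonné–Manin classification (helper8)
-/

set_option autoImplicit false
set_option linter.unusedSectionVars false

noncomputable section

open scoped Pointwise

namespace H8Isoc

universe u v

variable {p : ℕ} [hp : Fact p.Prime] {k : Type u} [Field k] [CharP k p] [PerfectRing k p]

local notation "W" => WittVector p k
local notation "L" => FractionRing (WittVector p k)

variable {N : Type v} [AddCommGroup N] [Module (WittVector p k) N]
  [Module (FractionRing (WittVector p k)) N]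
  [IsScalarTower (WittVector p k) (FractionRing (WittVector p k)) N]

theorem latImg_le_satSeq {τ : L →+* L} (hτ : Good τ) (F : N →ₛₗ[τ] N) (M : Submodule W N) :
    ∀ j i, i ≤ j → Isoc.latImg F i M ≤ satSeq F M j := by
  intro j
  induction j with
  | zero =>
    intro i hi
    obtain rfl : i = 0 := by omega
    rw [latImg_zero]; exact le_satSeq F M 0
  | succ j ih =>
    intro i hi
    cases i with
    | zero => rw [latImg_zero]; exact le_satSeq F M _
    | succ i =>
      rw [Nat.add_comm i 1, latImg_add hτ F 1 i M]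
      exact (latImg_mono F 1 (ih i (by omega))).trans (latImg_satSeq_le F M j)

/-! ### the sub-isocrystal generated by a standard vector -/

theorem iterates_stable {τ : L →+* L} (F : N →ₛₗ[τ] N) {d : ℤ} {h : ℕ} (hh : 0 < h) {x : N}
    (hFx : (⇑F)^[h] x = ((p : L) ^ d) • x) :
    ∀ y ∈ Submodule.span L (Set.range fun j : Fin h => (⇑F)^[j] x),
      F y ∈ Submodule.span L (Set.range fun j : Fin h => (⇑F)^[j] x) := by
  intro y hy
  induction hy using Submodule.span_induction with
  | mem y hy =>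
    obtain ⟨j, rfl⟩ := hy
    have e : F ((⇑F)^[j] x) = (⇑F)^[(j : ℕ) + 1] x := (Function.iterate_succ_apply' F j x).symm
    show F ((⇑F)^[j] x) ∈ _
    rw [e]
    by_cases hj : (j : ℕ) + 1 < h
    · exact Submodule.subset_span ⟨⟨j + 1, hj⟩, rfl⟩
    · have hjh : (j : ℕ) + 1 = h := by have := j.isLt; omega
      rw [hjh, hFx]
      exact Submodule.smul_mem _ _ (Submodule.subset_span ⟨⟨0, hh⟩, rfl⟩)
  | zero => rw [map_zero]; exact Submodule.zero_mem _
  | add y z _ _ hy hz => rw [map_add]; exact Submodule.add_mem _ hy hz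
  | smul c y _ hy => rw [map_smulₛₗ]; exact Submodule.smul_mem _ _ hy

theorem iterates_isoIn {τ : L →+* L} (hτ : Good τ) (F : N →ₛₗ[τ] N) {d : ℤ} {h : ℕ}
    (hh : 0 < h) {x : N} (hFx : (⇑F)^[h] x = ((p : L) ^ d) • x) :
    IsoIn F ((d : ℚ) / (h : ℚ))
      (Submodule.span L (Set.range fun j : Fin h => (⇑F)^[j] x)) := by
  obtain ⟨S, hS⟩ : ∃ S : Set N, S = Set.range fun j : Fin h => (⇑F)^[j] x := ⟨_, rfl⟩
  have hgen : ∀ y ∈ S, (⇑F)^[h] y = ((p : L) ^ d) • y := by
    intro y hy
    rw [hS] at hy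
    obtain ⟨j, rfl⟩ := hy
    show (⇑F)^[h] ((⇑F)^[j] x) = ((p : L) ^ d) • (⇑F)^[j] x
    rw [← Function.iterate_add_apply, Nat.add_comm, Function.iterate_add_apply, hFx,
      iter_zpow_smul]
  rw [← hS]
  refine ⟨Submodule.span W S, Submodule.fg_span (by rw [hS]; exact Set.finite_range _),
    Submodule.span_span_of_tower W L S, d, h, hh, rfl, ?_⟩
  apply le_antisymm
  · rw [latImg_le_iff]
    intro m hm
    induction hm using Submodule.span_induction with
    | mem y hy => rw [hgen y hy]; exact smul_mem_pPow (Submodule.subset_span hy)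
    | zero => rw [iter_zero']; exact Submodule.zero_mem _
    | add y z _ _ hy hz => rw [iter_add']; exact Submodule.add_mem _ hy hz
    | smul w y _ hy =>
      obtain ⟨w', hw'⟩ := iter_smul_int hτ F h w y
      rw [hw']; exact Submodule.smul_mem _ _ hy
  · intro y hy
    rw [mem_pPow] at hy
    have key : ∀ z ∈ Submodule.span W S,
        ((p : L) ^ d) • z ∈ Isoc.latImg F h (Submodule.span W S) := by
      intro z hz
      induction hz using Submodule.span_induction with
      | mem z hz => rw [← hgen z hz]; exact iter_mem_latImg F h (Submodule.subset_span hz)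
      | zero => rw [smul_zero]; exact Submodule.zero_mem _
      | add z z' _ _ hz hz' => rw [smul_add]; exact Submodule.add_mem _ hz hz'
      | smul w z _ hz => rw [smul_comm]; exact Submodule.smul_mem _ _ hz
    have := key _ hy
    rwa [smul_smul, ← zpow_add₀ pL_ne_zero, add_neg_cancel, zpow_zero, one_smul] at this

theorem linearIndependent_iterates (a : ℤ) (F : N →ₛₗ[Isoc.frob p k a] N) (hF : Isoc.IsIsoc F)
    {d : ℤ} {h : ℕ} (hh : 0 < h) (hdh : Int.gcd d h = 1) {x : N} (hx : x ≠ 0)
    (hFx : (⇑F)^[h] x = ((p : L) ^ d) • x) :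
    LinearIndependent L (fun j : Fin h => (⇑F)^[j] x) := by
  haveI := hF.finite
  have hτ := good_frob (p := p) (k := k) a
  obtain ⟨P, hPdef⟩ : ∃ P : Submodule L N,
      P = Submodule.span L (Set.range fun j : Fin h => (⇑F)^[j] x) := ⟨_, rfl⟩
  have hP : ∀ y ∈ P, F y ∈ P := by rw [hPdef]; exact iterates_stable F hh hFx
  have hIso : IsoIn F ((d : ℚ) / (h : ℚ)) P := by rw [hPdef]; exact iterates_isoIn hτ F hh hFx
  have hxP : x ∈ P := by rw [hPdef]; exact Submodule.subset_span ⟨⟨0, hh⟩, rfl⟩
  haveI : Nontrivial P := ⟨⟨⟨x, hxP⟩, 0, fun h0 => hx (congrArg Subtype.val h0)⟩⟩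
  have hIsoc := isIsoc_restrict a F hF hP
  obtain ⟨M, hM, r, s, hs, hrs, hFM⟩ := isIsoclinic_restrict_of_isoIn P hP hIso
  obtain ⟨n', hn'⟩ : ∃ n', Module.finrank L P = n' := ⟨_, rfl⟩
  let b : Module.Basis (Fin n') L P := Module.finBasisOfFinrankEq L P hn'
  have hdet : Isoc.detCoeff b (F.restrict hP) ≠ 0 := by
    rw [detCoeff_eq]; exact det_mat_ne_zero_of_surjective b (F.restrict hP) hIsoc.bijective.2
  obtain ⟨δ, hδ⟩ := exists_isOrdP _ hdet
  obtain ⟨-, h1⟩ := Groth.Agent.S17139.result p k a P (F.restrict hP) hIsoc n' b δ hδ M hM r s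
    hs hFM
  have h2 : r * (h : ℤ) = d * (s : ℤ) := by
    have hsQ : ((s : ℕ) : ℚ) ≠ 0 := by exact_mod_cast hs.ne'
    have hhQ : ((h : ℕ) : ℚ) ≠ 0 := by exact_mod_cast hh.ne'
    have := (div_eq_div_iff hsQ hhQ).mp hrs
    exact_mod_cast this
  have h3 : d * (n' : ℤ) = (h : ℤ) * δ := by
    have hs' : (s : ℤ) ≠ 0 := by exact_mod_cast hs.ne'
    apply mul_left_cancel₀ hs'
    calc (s : ℤ) * (d * n') = (d * s) * n' := by ring
      _ = (r * h) * n' := by rw [h2]
      _ = h * (r * n') := by ring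
      _ = h * (s * δ) := by rw [h1]
      _ = s * (h * δ) := by ring
  have h4 : (h : ℤ) ∣ (n' : ℤ) := by
    have hgcd' : Int.gcd (h : ℤ) d = 1 := by rw [Int.gcd_comm]; exact hdh
    have h5 : (h : ℤ) ∣ (n' : ℤ) * d := ⟨δ, by rw [mul_comm]; exact h3⟩
    exact (Int.isCoprime_iff_gcd_eq_one.mpr hgcd').dvd_of_dvd_mul_right h5
  have h6 : h ∣ n' := Int.natCast_dvd_natCast.mp h4
  have hn'pos : 0 < n' := by rw [← hn']; exact Module.finrank_pos
  have h7 : h ≤ n' := Nat.le_of_dvd hn'pos h6
  have h8 : (Set.range fun j : Fin h => (⇑F)^[j] x).finrank L ≤ Fintype.card (Fin h) :=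
    finrank_range_le_card _
  have h9 : (Set.range fun j : Fin h => (⇑F)^[j] x).finrank L = n' := by
    unfold Set.finrank
    rw [← hPdef]; exact hn'
  rw [linearIndependent_iff_card_eq_finrank_span, h9, Fintype.card_fin]
  rw [h9, Fintype.card_fin] at h8
  omega

theorem exists_std_sub (a : ℤ) (F : N →ₛₗ[Isoc.frob p k a] N) (hF : Isoc.IsIsoc F)
    {d : ℤ} {h : ℕ} (hh : 0 < h) (hdh : Int.gcd d h = 1) {x : N} (hx : x ≠ 0)
    (hFx : (⇑F)^[h] x = ((p : L) ^ d) • x) :
    ∃ (P : Submodule L N) (hP : ∀ y ∈ P, F y ∈ P) (eP : P ≃ₗ[L] (Fin h → L)),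
      IsoIn F ((d : ℚ) / (h : ℚ)) P ∧ Module.finrank L P = h ∧
      ∀ y : P, eP (F.restrict hP y) = Isoc.stdIsoc (Isoc.frob p k a) d h (eP y) := by
  classical
  have hτ := good_frob (p := p) (k := k) a
  have hli := linearIndependent_iterates a F hF hh hdh hx hFx
  have hP := iterates_stable F hh hFx
  refine ⟨_, hP, (Module.Basis.span hli).equivFun, iterates_isoIn hτ F hh hFx, ?_, ?_⟩
  · rw [finrank_span_eq_card hli, Fintype.card_fin]
  · obtain ⟨n, rfl⟩ : ∃ n, h = n + 1 := ⟨h - 1, by omega⟩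
    obtain ⟨bP, hbP⟩ : ∃ bP : Module.Basis (Fin (n + 1)) L
        (Submodule.span L (Set.range fun j : Fin (n + 1) => (⇑F)^[j] x)),
        bP = Module.Basis.span hli := ⟨_, rfl⟩
    rw [← hbP]
    have hb : ∀ j : Fin (n + 1), ((bP j : _) : N) = (⇑F)^[j] x := fun j => by
      rw [hbP]; exact Module.Basis.coe_span_apply hli j
    have hsingle : ∀ j : Fin (n + 1), bP.equivFun (bP j) = Pi.single j 1 := fun j => by
      rw [Module.Basis.equivFun_apply, Module.Basis.repr_self, Finsupp.single_eq_pi_single]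
    have key : (bP.equivFun.toLinearMap).comp (F.restrict hP) =
        (Isoc.stdIsoc (Isoc.frob p k a) d (n + 1)).comp (bP.equivFun.toLinearMap) := by
      apply bP.ext
      intro j
      show bP.equivFun (F.restrict hP (bP j)) =
        Isoc.stdIsoc (Isoc.frob p k a) d (n + 1) (bP.equivFun (bP j))
      rw [hsingle]
      by_cases hj : (j : ℕ) < n
      · have e1 : F.restrict hP (bP j) = bP ⟨(j : ℕ) + 1, by omega⟩ := by
          apply Subtype.ext
          rw [hb]
          show F ((bP j : _) : N) = _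
          rw [hb]
          exact (Function.iterate_succ_apply' F j x).symm
        rw [e1, hsingle, Groth.Agent.S17153.helper8_std_step_lt _ d n j hj]
      · have hjn : j = Fin.last n := Fin.ext (by have := j.isLt; simp only [Fin.val_last]; omega)
        subst hjn
        have e1 : F.restrict hP (bP (Fin.last n)) = ((p : L) ^ d) • bP 0 := by
          apply Subtype.ext
          show F ((bP (Fin.last n) : _) : N) = ((p : L) ^ d) • ((bP 0 : _) : N)
          rw [hb, hb]
          have e2 : F ((⇑F)^[((Fin.last n : Fin (n + 1)) : ℕ)] x) = (⇑F)^[n + 1] x :=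
            (Function.iterate_succ_apply' F n x).symm
          rw [e2, hFx]
          rfl
        rw [e1, map_smul, hsingle, Groth.Agent.S17153.helper8_std_step_last]
    intro y
    exact LinearMap.congr_fun key y

end H8Isoc
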