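import Mathlib
import Groth.Prelude.Def_Isoc
import Groth.Agent.Lib.helper8.IsocBase
import Groth.Agent.Lib.helper8.IsocChain
import Groth.Agent.Lib.helper8.IsocDet
import Groth.Agent.Lib.helper8.IsocSub
import Groth.Agent.Lib.helper8.IsocFit
import Groth.Agent.Lib.helper8.IsocDecomp
import Groth.Agent.Lib.helper8.IsocFin
import Groth.Agent.Lib.helper8.IsocLang1
import Groth.Agent.Lib.helper8.IsocLang2
import Groth.Agent.Lib.helper8.IsocLang3
import Groth.Agent.Lib.helper8.IsocLang4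
import Groth.Agent.Lib.helper8.IsocLang5

/-!
# The Dieudonné–Manin classification, part 2 (helper8)
-/

set_option autoImplicit false
set_option linter.unusedSectionVars false

noncomputable section

open scoped Pointwise

namespace H8Isoc

universe u v

variable {p : ℕ} [hp : Fact p.Prime] {k : Type u} [Field k] [CharP k p] [PerfectRing k p]

local notation "W" => WittVector p k
local notation "L" => FractionRing (WittVector p k)

variable {N : Type v} [AddCommGroup N] [Module (WittVector p k) N]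
  [Module (FractionRing (WittVector p k)) N]
  [IsScalarTower (WittVector p k) (FractionRing (WittVector p k)) N]

theorem newtonMult_of_isCompl (a : ℤ) (F : N →ₛₗ[Isoc.frob p k a] N) (hF : Isoc.IsIsoc F)
    {P Q : Submodule L N} (hP : ∀ x ∈ P, F x ∈ P) (hQ : ∀ x ∈ Q, F x ∈ Q) (hPQ : IsCompl P Q)
    {μ₀ : ℚ} (hIsoP : IsoIn F μ₀ P) (μ : ℚ) :
    Isoc.newtonMult F μ =
      (if μ₀ = μ then Module.finrank L P else 0) + Isoc.newtonMult (F.restrict hQ) μ := by
  classical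
  haveI := hF.finite
  have hIsoQ := isIsoc_restrict a F hF hQ
  obtain ⟨B, hBdef⟩ : ∃ B : ℚ → Submodule L N,
      ∀ ν, B ν = (Isoc.slopePart (F.restrict hQ) ν).map Q.subtype := ⟨_, fun _ => rfl⟩
  obtain ⟨C, hCdef⟩ : ∃ C : ℚ → Submodule L N, ∀ ν, C ν = if μ₀ = ν then P else ⊥ :=
    ⟨_, fun _ => rfl⟩
  have hB : ∀ ν, B ν ≤ Isoc.slopePart F ν := fun ν => by
    rw [hBdef]; exact map_slopePart_restrict_le a F hF hQ ν
  have hC : ∀ ν, C ν ≤ Isoc.slopePart F ν := by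
    intro ν
    rw [hCdef]
    split_ifs with h
    · subst h; exact le_slopePart_of_isoIn F hP hIsoP
    · exact bot_le
  have hBQ : ∀ ν, B ν ≤ Q := fun ν => by rw [hBdef]; exact Submodule.map_subtype_le Q _
  have hCP : ∀ ν, C ν ≤ P := by
    intro ν; rw [hCdef]; split_ifs
    · exact le_rfl
    · exact bot_le
  have hsupB : ⨆ ν, B ν = Q := by
    have h1 : (fun ν => B ν) = fun ν => (Isoc.slopePart (F.restrict hQ) ν).map Q.subtype :=
      funext hBdef
    rw [h1, ← Submodule.map_iSup, iSup_slopePart_eq_top a (F.restrict hQ) hIsoQ,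
      Submodule.map_top, Submodule.range_subtype]
  have hsupC : P ≤ ⨆ ν, C ν := by
    refine le_iSup_of_le μ₀ ?_
    rw [hCdef, if_pos rfl]
  have htop : ⨆ ν, (B ν ⊔ C ν) = ⊤ := by
    rw [iSup_sup_eq, hsupB, eq_top_iff, ← hPQ.sup_eq_top]
    exact sup_le (hsupC.trans le_sup_right) le_sup_left
  have hS : B μ ⊔ C μ ≤ Isoc.slopePart F μ := sup_le (hB μ) (hC μ)
  have hS' : (⨆ (ν) (_ : ν ≠ μ), (B ν ⊔ C ν)) ≤ ⨆ (ν) (_ : ν ≠ μ), Isoc.slopePart F ν :=
    iSup₂_mono fun ν _ => sup_le (hB ν) (hC ν)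
  have hdisj : Disjoint (Isoc.slopePart F μ) (⨆ (ν) (_ : ν ≠ μ), Isoc.slopePart F ν) :=
    iSupIndep_slopePart a F hF μ
  have hsplit : (B μ ⊔ C μ) ⊔ (⨆ (ν) (_ : ν ≠ μ), (B ν ⊔ C ν)) = ⊤ := by
    rw [← iSup_split_single (fun ν => B ν ⊔ C ν) μ]; exact htop
  have hEq : Isoc.slopePart F μ = B μ ⊔ C μ := by
    apply le_antisymm _ hS
    have h1 : Isoc.slopePart F μ =
        ((B μ ⊔ C μ) ⊔ (⨆ (ν) (_ : ν ≠ μ), (B ν ⊔ C ν))) ⊓ Isoc.slopePart F μ := by
      rw [hsplit, top_inf_eq]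
    rw [sup_inf_assoc_of_le _ hS] at h1
    have h2 : (⨆ (ν) (_ : ν ≠ μ), (B ν ⊔ C ν)) ⊓ Isoc.slopePart F μ = ⊥ := by
      rw [eq_bot_iff]
      calc (⨆ (ν) (_ : ν ≠ μ), (B ν ⊔ C ν)) ⊓ Isoc.slopePart F μ
          ≤ (⨆ (ν) (_ : ν ≠ μ), Isoc.slopePart F ν) ⊓ Isoc.slopePart F μ :=
            inf_le_inf_right _ hS'
        _ = ⊥ := by rw [inf_comm]; exact hdisj.eq_bot
    rw [h2, sup_bot_eq] at h1
    exact h1.le
  have hinf : B μ ⊓ C μ = ⊥ := by
    rw [eq_bot_iff, ← hPQ.inf_eq_bot]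
    exact le_inf (inf_le_right.trans (hCP μ)) (inf_le_left.trans (hBQ μ))
  have h3 := Submodule.finrank_sup_add_finrank_inf_eq (B μ) (C μ)
  rw [hinf, finrank_bot, add_zero] at h3
  unfold Isoc.newtonMult
  rw [hEq, h3]
  by_cases hμ : μ₀ = μ
  · have hCμ : C μ = P := by rw [hCdef, if_pos hμ]
    rw [if_pos hμ, hBdef, Submodule.finrank_map_subtype_eq, hCμ, add_comm]
  · have hCμ : C μ = ⊥ := by rw [hCdef, if_neg hμ]
    rw [if_neg hμ, hBdef, Submodule.finrank_map_subtype_eq, hCμ, finrank_bot, add_comm]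

variable [IsAlgClosed k]

theorem exists_std_vector_of_isIsoclinic (a : ℤ) (ha : a ≠ 0) (F : N →ₛₗ[Isoc.frob p k a] N)
    (hF : Isoc.IsIsoc F) [Nontrivial N] {μ : ℚ} (hμ : Isoc.IsIsoclinic F μ) :
    ∃ x : N, x ≠ 0 ∧ (⇑F)^[μ.den] x = ((p : L) ^ μ.num) • x := by
  haveI := hF.finite
  have hτ := good_frob (p := p) (k := k) a
  obtain ⟨M, hM, r, s, hs, hrs, hFM⟩ := hμ
  obtain ⟨c, hc, hsc, hrc⟩ := exists_mul_of_div_eq hs hrs
  obtain ⟨h, hh⟩ : ∃ h, h = μ.den := ⟨_, rfl⟩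
  obtain ⟨d, hd⟩ : ∃ d, d = μ.num := ⟨_, rfl⟩
  rw [← hh, ← hd]
  rw [← hh] at hsc
  rw [← hd] at hrc
  have hhpos : 0 < h := by rw [hh]; exact μ.den_pos
  have hσg : Good ((Isoc.frob p k a) ^ h) := hτ.pow h
  obtain ⟨G, hGdef⟩ : ∃ G : N →ₛₗ[(Isoc.frob p k a) ^ h] N,
      G = ((p : L) ^ (-d)) • Isoc.iter F h := ⟨_, rfl⟩
  have hG : ∀ y, G y = ((p : L) ^ (-d)) • (⇑F)^[h] y := fun y => by rw [hGdef]; rfl
  have hGinj : Function.Injective G := by
    intro y₁ y₂ hy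
    rw [hG, hG] at hy
    have h1 := smul_right_injective N (zpow_ne_zero (-d) (pL_ne_zero (p := p) (k := k))) hy
    exact (hF.bijective.1.iterate h) h1
  have hGsurj : Function.Surjective G := by
    intro y
    obtain ⟨z, hz⟩ := (hF.bijective.2.iterate h) (((p : L) ^ d) • y)
    refine ⟨z, ?_⟩
    rw [hG, hz, smul_smul, ← zpow_add₀ pL_ne_zero, neg_add_cancel, zpow_zero, one_smul]
  have hGcM : Isoc.latImg G c M = M := by
    rw [hGdef, latImg_twist, ← hsc, hFM, ← pPow_add, hrc]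
    have e0 : -d * (c : ℤ) + d * (c : ℤ) = 0 := by ring
    rw [e0, pPow_zero]
  obtain ⟨c', rfl⟩ : ∃ c', c = c' + 1 := ⟨c - 1, by omega⟩
  obtain ⟨M', hM'def⟩ : ∃ M' : Submodule W N, M' = satSeq G M c' := ⟨_, rfl⟩
  have hM' : M'.IsLattice L := by
    rw [hM'def]; exact satSeq_isLattice hσg G ⟨hGinj, hGsurj⟩ hM c'
  have hMM' : M ≤ M' := by rw [hM'def]; exact le_satSeq G M c'
  have h1 : M' = M ⊔ Isoc.latImg G 1 M' := by
    have e1 : satSeq G M (c' + 1) = M ⊔ Isoc.latImg G 1 (satSeq G M c') := rfl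
    have e2 : satSeq G M (0 + c' + 1) =
        satSeq G M c' ⊔ Isoc.latImg G (c' + 1) (satSeq G M 0) := satSeq_add hσg G M 0 c'
    rw [Nat.zero_add] at e2
    have e3 : satSeq G M 0 = M := rfl
    rw [e3, hGcM, e1, ← hM'def] at e2
    rw [e2, sup_eq_left.mpr hMM']
  have hGM' : Isoc.latImg G 1 M' = M' := by
    apply le_antisymm
    · calc Isoc.latImg G 1 M' ≤ M ⊔ Isoc.latImg G 1 M' := le_sup_right
        _ = M' := h1.symm
    · have h2 : M ≤ Isoc.latImg G 1 M' := by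
        have h3 : Isoc.latImg G (1 + c') M = Isoc.latImg G 1 (Isoc.latImg G c' M) :=
          latImg_add hσg G 1 c' M
        rw [Nat.add_comm 1 c', hGcM] at h3
        calc M = Isoc.latImg G 1 (Isoc.latImg G c' M) := h3
          _ ≤ Isoc.latImg G 1 M' := latImg_mono G 1 (by
            rw [hM'def]; exact latImg_le_satSeq hσg G M c' c' le_rfl)
      calc M' = M ⊔ Isoc.latImg G 1 M' := h1
        _ ≤ Isoc.latImg G 1 M' := sup_le h2 le_rfl
  obtain ⟨x, hxM', hxp, hGx⟩ := lang_fixed (a * h)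
    (mul_ne_zero ha (by exact_mod_cast hhpos.ne')) (frob_pow a h) G ⟨hGinj, hGsurj⟩ hM' hGM'
  refine ⟨x, ?_, ?_⟩
  · rintro rfl
    exact hxp (Submodule.zero_mem _)
  · have h5 := hGx
    rw [hG] at h5
    calc (⇑F)^[h] x = ((p : L) ^ d) • (((p : L) ^ (-d)) • (⇑F)^[h] x) := by
          rw [smul_smul, ← zpow_add₀ pL_ne_zero, add_neg_cancel, zpow_zero, one_smul]
      _ = ((p : L) ^ d) • x := by rw [h5]

theorem exists_std_vector (a : ℤ) (ha : a ≠ 0) (F : N →ₛₗ[Isoc.frob p k a] N)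
    (hF : Isoc.IsIsoc F) [Nontrivial N] :
    ∃ (μ : ℚ) (x : N), x ≠ 0 ∧ (⇑F)^[μ.den] x = ((p : L) ^ μ.num) • x := by
  have htop := iSup_slopePart_eq_top a F hF
  obtain ⟨μ, hμ⟩ : ∃ μ : ℚ, Isoc.slopePart F μ ≠ ⊥ := by
    by_contra hcon
    push_neg at hcon
    rw [iSup_congr hcon, iSup_bot] at htop
    exact bot_ne_top htop
  obtain ⟨hP, hIso⟩ := Groth.Agent.S17151.result p k a N F hF μ
  haveI : Nontrivial (Isoc.slopePart F μ) := Submodule.nontrivial_iff_ne_bot.mpr hμ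
  obtain ⟨x, hx0, hx⟩ := exists_std_vector_of_isIsoclinic a ha (F.restrict hP)
    (isIsoc_restrict a F hF hP) hIso
  refine ⟨μ, (x : N), fun h0 => hx0 (Subtype.ext h0), ?_⟩
  have h1 := congrArg Subtype.val hx
  rw [coe_restrict_iterate] at h1
  exact h1

theorem classification_aux (a : ℤ) (ha : a ≠ 0) : ∀ (n : ℕ) (N : Type v) [AddCommGroup N]
    [Module (WittVector p k) N] [Module (FractionRing (WittVector p k)) N]
    [IsScalarTower (WittVector p k) (FractionRing (WittVector p k)) N]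
    (F : N →ₛₗ[Isoc.frob p k a] N) (_ : Isoc.IsIsoc F),
    Module.finrank (FractionRing (WittVector p k)) N = n →
    ∃ (t : ℕ) (d : Fin t → ℤ) (h : Fin t → ℕ)
      (e : N ≃ₗ[FractionRing (WittVector p k)]
        ((i : Fin t) → (Fin (h i) → FractionRing (WittVector p k)))),
      (∀ i, 0 < h i ∧ Int.gcd (d i) (h i) = 1) ∧
      (∀ (x : N) (i : Fin t),
        e (F x) i = Isoc.stdIsoc (Isoc.frob p k a) (d i) (h i) (e x i)) ∧
      ∀ μ : ℚ, Isoc.newtonMult F μ =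
        ∑ i : Fin t, (if ((d i : ℚ) / (h i : ℚ)) = μ then h i else 0) := by
  intro n
  induction n using Nat.strong_induction_on with
  | _ n ih =>
    intro N _ _ _ _ F hF hn
    haveI := hF.finite
    rcases subsingleton_or_nontrivial N with hsub | hnt
    · refine ⟨0, fun i => i.elim0, fun i => i.elim0, LinearEquiv.ofSubsingleton N _,
        fun i => i.elim0, fun x i => i.elim0, fun μ => ?_⟩
      rw [Finset.univ_eq_empty, Finset.sum_empty]
      unfold Isoc.newtonMult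
      exact Module.finrank_zero_of_subsingleton
    · obtain ⟨μ₀, x, hx0, hFx⟩ := exists_std_vector a ha F hF
      have hh₀ : 0 < μ₀.den := μ₀.den_pos
      have hgcd : Int.gcd μ₀.num (μ₀.den : ℤ) = 1 := by
        show Nat.gcd μ₀.num.natAbs ((μ₀.den : ℤ)).natAbs = 1
        rw [Int.natAbs_natCast]; exact μ₀.reduced
      obtain ⟨P, hP, eP, hIsoP, hfinP, hePF⟩ := exists_std_sub a F hF hh₀ hgcd hx0 hFx
      rw [Rat.num_div_den] at hIsoP
      obtain ⟨Q, hQ, hPQ⟩ := exists_stable_compl a ha F hF P hP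
      have hdim : Module.finrank L P + Module.finrank L Q = Module.finrank L N :=
        Submodule.finrank_add_eq_of_isCompl hPQ
      have hlt : Module.finrank L Q < n := by omega
      obtain ⟨t, d, h, eQ, hdh, heQF, hmult⟩ :=
        ih _ hlt Q (F.restrict hQ) (isIsoc_restrict a F hF hQ) rfl
      obtain ⟨Ψ, hΨ⟩ : ∃ Ψ : (P × Q) ≃ₗ[L] N, ∀ z : P × Q, Ψ z = (z.1 : N) + (z.2 : N) :=
        ⟨Submodule.prodEquivOfIsCompl P Q hPQ,
          fun z => Submodule.coe_prodEquivOfIsCompl' P Q hPQ z⟩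
      have hsum : ∀ y : N, ((Ψ.symm y).1 : N) + ((Ψ.symm y).2 : N) = y := fun y => by
        rw [← hΨ, LinearEquiv.apply_symm_apply]
      have hΨF : ∀ y : N, Ψ.symm (F y) =
          (F.restrict hP (Ψ.symm y).1, F.restrict hQ (Ψ.symm y).2) := by
        intro y
        rw [LinearEquiv.symm_apply_eq, hΨ]
        show F y = F ((Ψ.symm y).1 : N) + F ((Ψ.symm y).2 : N)
        rw [← map_add, hsum]
      refine ⟨t + 1, Fin.cons μ₀.num d, Fin.cons μ₀.den h,
        Ψ.symm ≪≫ₗ (eP.prodCongr eQ) ≪≫ₗ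
          (Fin.consLinearEquiv L
            (fun i : Fin (t + 1) => (Fin ((Fin.cons μ₀.den h : Fin (t + 1) → ℕ) i) → L))),
        ?_, ?_, ?_⟩
      · intro i
        refine Fin.cases ?_ (fun j => ?_) i
        · exact ⟨hh₀, hgcd⟩
        · exact hdh j
      · intro y i
        refine Fin.cases ?_ (fun j => ?_) i
        · show eP (Ψ.symm (F y)).1 =
            Isoc.stdIsoc (Isoc.frob p k a) μ₀.num μ₀.den (eP (Ψ.symm y).1)
          rw [hΨF]; exact hePF _
        · show eQ (Ψ.symm (F y)).2 j =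
            Isoc.stdIsoc (Isoc.frob p k a) (d j) (h j) (eQ (Ψ.symm y).2 j)
          rw [hΨF]; exact heQF _ j
      · intro μ
        rw [Fin.sum_univ_succ]
        simp only [Fin.cons_zero, Fin.cons_succ]
        rw [newtonMult_of_isCompl a F hF hP hQ hPQ hIsoP μ, hmult μ, hfinP, Rat.num_div_den]

end H8Isoc
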