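import Mathlib
import Groth.Prelude.Def_W4c4lgringredgrpLG

/-!
Helper library (helper8): over an LG-ring, two finite projective modules with the same local
ranks are isomorphic.
-/

set_option autoImplicit false

namespace Groth.Agent.Lib.helper8.LGIso

open LGRing

universe u v

theorem repUnit_fintype {R : Type u} [CommRing R] (hR : IsLGRing R) {σ : Type} [Fintype σ]
    (f : MvPolynomial σ R)
    (h : ∀ (𝔪 : Ideal R) [𝔪.IsMaximal], ∃ s : σ → R ⧸ 𝔪, IsUnit (MvPolynomial.aeval s f)) :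
    ∃ s : σ → R, IsUnit (MvPolynomial.aeval s f) := by
  let e : σ ≃ Fin (Fintype.card σ) := Fintype.equivFin σ
  have h' : ∀ (𝔪 : Ideal R) [𝔪.IsMaximal],
      RepresentsUnit (MvPolynomial.rename e f) (R ⧸ 𝔪) := by
    intro 𝔪 _
    obtain ⟨s, hs⟩ := h 𝔪
    refine ⟨s ∘ e.symm, ?_⟩
    rw [MvPolynomial.aeval_rename]
    have hse : (s ∘ e.symm) ∘ e = s := by
      ext i
      simp
    rwa [hse]
  obtain ⟨s, hs⟩ := hR _ _ h'
  refine ⟨s ∘ e, ?_⟩
  rwa [MvPolynomial.aeval_rename] at hs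

/-- The test polynomial expression. -/
noncomputable def Dmat {R : Type u} [CommRing R] {a b : ℕ} (EP : Matrix (Fin a) (Fin a) R)
    (EQ : Matrix (Fin b) (Fin b) R) (S : Type*) [CommRing S] [Algebra R S]
    (X : Matrix (Fin b) (Fin a) S) (Y : Matrix (Fin a) (Fin b) S) : S :=
  (EP.map (algebraMap R S) * Y * EQ.map (algebraMap R S) * X * EP.map (algebraMap R S) + 1
      - EP.map (algebraMap R S)).det *
  (EQ.map (algebraMap R S) * X * EP.map (algebraMap R S) * Y * EQ.map (algebraMap R S) + 1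
      - EQ.map (algebraMap R S)).det

theorem Dmat_nat {R : Type u} [CommRing R] {a b : ℕ} (EP : Matrix (Fin a) (Fin a) R)
    (EQ : Matrix (Fin b) (Fin b) R) {S S' : Type*} [CommRing S] [Algebra R S] [CommRing S']
    [Algebra R S'] (g : S →ₐ[R] S') (X : Matrix (Fin b) (Fin a) S)
    (Y : Matrix (Fin a) (Fin b) S) :
    g (Dmat EP EQ S X Y) = Dmat EP EQ S' (X.map g) (Y.map g) := by
  have hE : ∀ {n : ℕ} (E : Matrix (Fin n) (Fin n) R),
      (E.map (algebraMap R S)).map g = E.map (algebraMap R S') := by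
    intro n E
    ext i j
    simp
  unfold Dmat
  simp only [map_mul, AlgHom.map_det, AlgHom.mapMatrix_apply,
    Matrix.map_sub (⇑g) (map_sub g), Matrix.map_add (⇑g) (map_add g),
    Matrix.map_one (⇑g) (map_zero g) (map_one g), Matrix.map_mul, hE]

section Modules

variable {R : Type u} [CommRing R] {P Q : Type v} [AddCommGroup P] [Module R P]
  [AddCommGroup Q] [Module R Q] {a b : ℕ}
  (FP : (Fin a → R) →ₗ[R] P) (GP : P →ₗ[R] (Fin a → R)) (hP : FP ∘ₗ GP = LinearMap.id)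
  (FQ : (Fin b → R) →ₗ[R] Q) (GQ : Q →ₗ[R] (Fin b → R)) (hQ : FQ ∘ₗ GQ = LinearMap.id)

include hP hQ in
theorem global_iso (X : Matrix (Fin b) (Fin a) R) (Y : Matrix (Fin a) (Fin b) R)
    (hD : IsUnit (Dmat (LinearMap.toMatrix' (GP ∘ₗ FP)) (LinearMap.toMatrix' (GQ ∘ₗ FQ)) R X Y)) :
    Nonempty (P ≃ₗ[R] Q) := by
  have hP' : ∀ p, FP (GP p) = p := fun p => LinearMap.congr_fun hP p
  have hQ' : ∀ q, FQ (GQ q) = q := fun q => LinearMap.congr_fun hQ q
  obtain ⟨EP, hEP⟩ : ∃ E, E = LinearMap.toMatrix' (GP ∘ₗ FP) := ⟨_, rfl⟩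
  obtain ⟨EQ, hEQ⟩ : ∃ E, E = LinearMap.toMatrix' (GQ ∘ₗ FQ) := ⟨_, rfl⟩
  rw [← hEP, ← hEQ] at hD
  have hmapP : EP.map (algebraMap R R) = EP := by ext i j; rfl
  have hmapQ : EQ.map (algebraMap R R) = EQ := by ext i j; rfl
  unfold Dmat at hD
  rw [hmapP, hmapQ] at hD
  have hT := isUnit_of_mul_isUnit_left hD
  have hT' := isUnit_of_mul_isUnit_right hD
  obtain ⟨T, hTdef⟩ : ∃ T, T = EP * Y * EQ * X * EP + 1 - EP := ⟨_, rfl⟩
  obtain ⟨T', hT'def⟩ : ∃ T', T' = EQ * X * EP * Y * EQ + 1 - EQ := ⟨_, rfl⟩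
  rw [← hTdef] at hT
  rw [← hT'def] at hT'
  have hTlin : ∀ z, Matrix.toLin' T z = GP (FP (Matrix.toLin' Y (GQ (FQ (Matrix.toLin' X
      (GP (FP z))))))) + z - GP (FP z) := by
    intro z
    simp only [hTdef, hEP, hEQ, map_add, map_sub, Matrix.toLin'_mul, Matrix.toLin'_one,
      Matrix.toLin'_toMatrix', LinearMap.add_apply, LinearMap.sub_apply, LinearMap.comp_apply,
      LinearMap.id_apply]
  have hT'lin : ∀ z, Matrix.toLin' T' z = GQ (FQ (Matrix.toLin' X (GP (FP (Matrix.toLin' Y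
      (GQ (FQ z))))))) + z - GQ (FQ z) := by
    intro z
    simp only [hT'def, hEP, hEQ, map_add, map_sub, Matrix.toLin'_mul, Matrix.toLin'_one,
      Matrix.toLin'_toMatrix', LinearMap.add_apply, LinearMap.sub_apply, LinearMap.comp_apply,
      LinearMap.id_apply]
  have hinvT : ∀ z, Matrix.toLin' T⁻¹ (Matrix.toLin' T z) = z := by
    intro z
    rw [← LinearMap.comp_apply, ← Matrix.toLin'_mul, Matrix.nonsing_inv_mul T hT,
      Matrix.toLin'_one, LinearMap.id_apply]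
  have hinvT' : ∀ z, Matrix.toLin' T' (Matrix.toLin' T'⁻¹ z) = z := by
    intro z
    rw [← LinearMap.comp_apply, ← Matrix.toLin'_mul, Matrix.mul_nonsing_inv T' hT',
      Matrix.toLin'_one, LinearMap.id_apply]
  let φ : P →ₗ[R] Q := FQ ∘ₗ Matrix.toLin' X ∘ₗ GP
  refine ⟨LinearEquiv.ofBijective φ ⟨?_, ?_⟩⟩
  · rw [← LinearMap.ker_eq_bot, LinearMap.ker_eq_bot']
    intro p hp
    have hp' : FQ (Matrix.toLin' X (GP p)) = 0 := hp
    have h0 : Matrix.toLin' T (GP p) = 0 := by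
      rw [hTlin, hP', hp']
      simp
    have h1 : GP p = 0 := by rw [← hinvT (GP p), h0, map_zero]
    rw [← hP' p, h1, map_zero]
  · intro q
    refine ⟨FP (Matrix.toLin' Y (GQ (FQ (Matrix.toLin' T'⁻¹ (GQ q))))), ?_⟩
    have h2 := congrArg FQ (hinvT' (GQ q))
    rw [hT'lin, map_sub, map_add] at h2
    simp only [hQ'] at h2
    rw [add_sub_cancel_right] at h2
    exact h2

include hP hQ in
theorem local_det (𝔪 : Ideal R) [𝔪.IsPrime]
    (φ : P →ₗ[R] Q) (ψ : Q →ₗ[R] P) (u w : R) (hu : u ∉ 𝔪) (hw : w ∉ 𝔪)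
    (h : u • (ψ ∘ₗ φ) = w • LinearMap.id) :
    (LinearMap.toMatrix' (GP ∘ₗ FP) * LinearMap.toMatrix' (GP ∘ₗ ψ ∘ₗ FQ) *
      LinearMap.toMatrix' (GQ ∘ₗ FQ) * LinearMap.toMatrix' (GQ ∘ₗ φ ∘ₗ FP) *
      LinearMap.toMatrix' (GP ∘ₗ FP) + 1 - LinearMap.toMatrix' (GP ∘ₗ FP)).det ∉ 𝔪 := by
  have hP' : ∀ p, FP (GP p) = p := fun p => LinearMap.congr_fun hP p
  have hQ' : ∀ q, FQ (GQ q) = q := fun q => LinearMap.congr_fun hQ q
  obtain ⟨T, hTdef⟩ : ∃ T, T = LinearMap.toMatrix' (GP ∘ₗ FP) *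
      LinearMap.toMatrix' (GP ∘ₗ ψ ∘ₗ FQ) *
      LinearMap.toMatrix' (GQ ∘ₗ FQ) * LinearMap.toMatrix' (GQ ∘ₗ φ ∘ₗ FP) *
      LinearMap.toMatrix' (GP ∘ₗ FP) + 1 - LinearMap.toMatrix' (GP ∘ₗ FP) := ⟨_, rfl⟩
  rw [← hTdef]
  have hTlin : ∀ z, Matrix.toLin' T z = GP (ψ (φ (FP z))) + z - GP (FP z) := by
    intro z
    simp only [hTdef, map_add, map_sub, Matrix.toLin'_mul, Matrix.toLin'_one,
      Matrix.toLin'_toMatrix', LinearMap.add_apply, LinearMap.sub_apply, LinearMap.comp_apply,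
      LinearMap.id_apply, hP', hQ']
  have hψφ : ∀ p, u • ψ (φ p) = w • p := fun p => LinearMap.congr_fun h p
  obtain ⟨v, hv⟩ : ∃ v : (Fin a → R) →ₗ[R] (Fin a → R),
      v = u • (GP ∘ₗ FP) + w • (LinearMap.id - GP ∘ₗ FP) := ⟨_, rfl⟩
  have hvz : ∀ z, v z = u • GP (FP z) + w • (z - GP (FP z)) := by
    intro z
    rw [hv]
    rfl
  have hcomp : (u • Matrix.toLin' T) ∘ₗ v = (u * w) • LinearMap.id := by
    apply LinearMap.ext
    intro z
    have hA : FP (v z) = u • FP z := by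
      rw [hvz, map_add, map_smul, map_smul, map_sub, hP', sub_self, smul_zero, add_zero]
    have hC : u • GP (ψ (φ (u • FP z))) = w • u • GP (FP z) := by
      rw [← map_smul GP, hψφ, map_smul, map_smul]
    show u • Matrix.toLin' T (v z) = (u * w) • z
    rw [hTlin, hA, smul_sub, smul_add, hC, hvz, map_smul]
    module
  have hdet := congrArg LinearMap.det hcomp
  rw [LinearMap.det_comp, LinearMap.det_smul, LinearMap.det_smul, LinearMap.det_id, mul_one,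
    LinearMap.det_toLin'] at hdet
  intro hmem
  have h1 : (u * w) ^ Module.finrank R (Fin a → R) ∈ 𝔪 := by
    rw [← hdet]
    exact Ideal.mul_mem_right _ _ (Ideal.mul_mem_left _ _ hmem)
  have h2 := Ideal.IsPrime.mem_of_pow_mem ‹𝔪.IsPrime› _ h1
  rcases Ideal.IsPrime.mem_or_mem ‹𝔪.IsPrime› h2 with h3 | h3
  · exact hu h3
  · exact hw h3

end Modules

theorem local_maps {R : Type u} [CommRing R] (P Q : Type v) [AddCommGroup P] [Module R P]
    [Module.Finite R P] [Module.Projective R P] [AddCommGroup Q] [Module R Q]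
    [Module.Finite R Q] [Module.Projective R Q]
    (p : PrimeSpectrum R) (h : Module.rankAtStalk P p = Module.rankAtStalk Q p) :
    ∃ (φ : P →ₗ[R] Q) (ψ : Q →ₗ[R] P) (u w u' w' : R), u ∉ p.asIdeal ∧ w ∉ p.asIdeal ∧
      u' ∉ p.asIdeal ∧ w' ∉ p.asIdeal ∧
      u • (ψ ∘ₗ φ) = w • LinearMap.id ∧ u' • (φ ∘ₗ ψ) = w' • LinearMap.id := by
  haveI : Module.Free (Localization.AtPrime p.asIdeal)
      (LocalizedModule p.asIdeal.primeCompl P) := Module.free_of_flat_of_isLocalRing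
  haveI : Module.Free (Localization.AtPrime p.asIdeal)
      (LocalizedModule p.asIdeal.primeCompl Q) := Module.free_of_flat_of_isLocalRing
  obtain ⟨α⟩ := FiniteDimensional.nonempty_linearEquiv_of_finrank_eq
    (R := Localization.AtPrime p.asIdeal) (M := LocalizedModule p.asIdeal.primeCompl P)
    (M' := LocalizedModule p.asIdeal.primeCompl Q) h
  haveI : Module.FinitePresentation R P := Module.finitePresentation_of_projective R P
  haveI : Module.FinitePresentation R Q := Module.finitePresentation_of_projective R Q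
  let fP := LocalizedModule.mkLinearMap p.asIdeal.primeCompl P
  let fQ := LocalizedModule.mkLinearMap p.asIdeal.primeCompl Q
  let αR : LocalizedModule p.asIdeal.primeCompl P ≃ₗ[R]
      LocalizedModule p.asIdeal.primeCompl Q := α.restrictScalars R
  obtain ⟨φ, s, hφ⟩ := Module.FinitePresentation.exists_lift_of_isLocalizedModule
    p.asIdeal.primeCompl fQ (αR.toLinearMap ∘ₗ fP)
  obtain ⟨ψ, t, hψ⟩ := Module.FinitePresentation.exists_lift_of_isLocalizedModule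
    p.asIdeal.primeCompl fP (αR.symm.toLinearMap ∘ₗ fQ)
  have h1 : ∀ x, fQ (φ x) = (s : R) • αR (fP x) := fun x => LinearMap.congr_fun hφ x
  have h2 : ∀ y, fP (ψ y) = (t : R) • αR.symm (fQ y) := fun y => LinearMap.congr_fun hψ y
  have H₁ : fP ∘ₗ (ψ ∘ₗ φ) = fP ∘ₗ (((t : R) * (s : R)) • LinearMap.id) := by
    apply LinearMap.ext
    intro x
    show fP (ψ (φ x)) = fP (((t : R) * (s : R)) • x)
    rw [h2, h1, map_smul, LinearEquiv.symm_apply_apply, map_smul, mul_smul]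
  have H₂ : fQ ∘ₗ (φ ∘ₗ ψ) = fQ ∘ₗ (((s : R) * (t : R)) • LinearMap.id) := by
    apply LinearMap.ext
    intro y
    show fQ (φ (ψ y)) = fQ (((s : R) * (t : R)) • y)
    rw [h1, h2, map_smul, LinearEquiv.apply_symm_apply, map_smul, mul_smul]
  obtain ⟨c, hc⟩ := Module.Finite.exists_smul_of_comp_eq_of_isLocalizedModule
    p.asIdeal.primeCompl fP _ _ H₁
  obtain ⟨c', hc'⟩ := Module.Finite.exists_smul_of_comp_eq_of_isLocalizedModule
    p.asIdeal.primeCompl fQ _ _ H₂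
  refine ⟨φ, ψ, (c : R), ((c * (t * s) : p.asIdeal.primeCompl) : R), (c' : R),
    ((c' * (s * t) : p.asIdeal.primeCompl) : R), c.2, (c * (t * s)).2, c'.2,
    (c' * (s * t)).2, ?_, ?_⟩
  · have h3 : (c : R) • (ψ ∘ₗ φ) = (c : R) • (((t : R) * (s : R)) • LinearMap.id) := hc
    rw [h3, smul_smul]
    rfl
  · have h3 : (c' : R) • (φ ∘ₗ ψ) = (c' : R) • (((s : R) * (t : R)) • LinearMap.id) := hc'
    rw [h3, smul_smul]
    rfl

theorem iso_of_rank_eq {R : Type u} [CommRing R] (hR : IsLGRing R) (P Q : Type v)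
    [AddCommGroup P] [Module R P] [Module.Finite R P] [Module.Projective R P]
    [AddCommGroup Q] [Module R Q] [Module.Finite R Q] [Module.Projective R Q]
    (h : ∀ p : PrimeSpectrum R, Module.rankAtStalk P p = Module.rankAtStalk Q p) :
    Nonempty (P ≃ₗ[R] Q) := by
  obtain ⟨a, FP, GP, -, -, hP⟩ := Module.Finite.exists_comp_eq_id_of_projective R P
  obtain ⟨b, FQ, GQ, -, -, hQ⟩ := Module.Finite.exists_comp_eq_id_of_projective R Q
  obtain ⟨EP, hEP⟩ : ∃ E, E = LinearMap.toMatrix' (GP ∘ₗ FP) := ⟨_, rfl⟩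
  obtain ⟨EQ, hEQ⟩ : ∃ E, E = LinearMap.toMatrix' (GQ ∘ₗ FQ) := ⟨_, rfl⟩
  let Xp : Matrix (Fin b) (Fin a) (MvPolynomial ((Fin b × Fin a) ⊕ (Fin a × Fin b)) R) :=
    Matrix.of fun i j => MvPolynomial.X (Sum.inl (i, j))
  let Yp : Matrix (Fin a) (Fin b) (MvPolynomial ((Fin b × Fin a) ⊕ (Fin a × Fin b)) R) :=
    Matrix.of fun i j => MvPolynomial.X (Sum.inr (i, j))
  have heval : ∀ {S : Type u} [CommRing S] [Algebra R S] (X : Matrix (Fin b) (Fin a) S)
      (Y : Matrix (Fin a) (Fin b) S),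
      MvPolynomial.aeval (Sum.elim (fun ij : Fin b × Fin a => X ij.1 ij.2)
        (fun ij : Fin a × Fin b => Y ij.1 ij.2))
        (Dmat EP EQ (MvPolynomial ((Fin b × Fin a) ⊕ (Fin a × Fin b)) R) Xp Yp) =
        Dmat EP EQ S X Y := by
    intro S _ _ X Y
    rw [Dmat_nat]
    congr 1
    · ext i j
      simp [Xp]
    · ext i j
      simp [Yp]
  have hloc : ∀ (𝔪 : Ideal R) [𝔪.IsMaximal],
      ∃ s : ((Fin b × Fin a) ⊕ (Fin a × Fin b)) → R ⧸ 𝔪,
        IsUnit (MvPolynomial.aeval s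
          (Dmat EP EQ (MvPolynomial ((Fin b × Fin a) ⊕ (Fin a × Fin b)) R) Xp Yp)) := by
    intro 𝔪 h𝔪
    haveI : 𝔪.IsPrime := h𝔪.isPrime
    obtain ⟨φ, ψ, u, w, u', w', hu, hw, hu', hw', h1, h2⟩ :=
      local_maps P Q ⟨𝔪, h𝔪.isPrime⟩ (h _)
    obtain ⟨X, hX⟩ : ∃ X, X = LinearMap.toMatrix' (GQ ∘ₗ φ ∘ₗ FP) := ⟨_, rfl⟩
    obtain ⟨Y, hY⟩ : ∃ Y, Y = LinearMap.toMatrix' (GP ∘ₗ ψ ∘ₗ FQ) := ⟨_, rfl⟩
    have d1 := local_det FP GP hP FQ GQ hQ 𝔪 φ ψ u w hu hw h1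
    have d2 := local_det FQ GQ hQ FP GP hP 𝔪 ψ φ u' w' hu' hw' h2
    rw [← hX, ← hY, ← hEP, ← hEQ] at d1 d2
    refine ⟨Sum.elim (fun ij : Fin b × Fin a => (X.map (Ideal.Quotient.mkₐ R 𝔪)) ij.1 ij.2)
      (fun ij : Fin a × Fin b => (Y.map (Ideal.Quotient.mkₐ R 𝔪)) ij.1 ij.2), ?_⟩
    rw [heval, ← Dmat_nat EP EQ (Ideal.Quotient.mkₐ R 𝔪) X Y]
    have hD : Dmat EP EQ R X Y ∉ 𝔪 := by
      unfold Dmat
      have hmapP : EP.map (algebraMap R R) = EP := by ext i j; rfl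
      have hmapQ : EQ.map (algebraMap R R) = EQ := by ext i j; rfl
      rw [hmapP, hmapQ]
      intro hmem
      rcases Ideal.IsPrime.mem_or_mem ‹𝔪.IsPrime› hmem with h3 | h3
      · exact d1 h3
      · exact d2 h3
    letI := Ideal.Quotient.field 𝔪
    refine isUnit_iff_ne_zero.2 fun h0 => hD ?_
    exact Ideal.Quotient.eq_zero_iff_mem.1 h0
  obtain ⟨s, hs⟩ := repUnit_fintype hR _ hloc
  rw [Dmat_nat EP EQ (MvPolynomial.aeval s) Xp Yp] at hs
  subst hEP hEQ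
  exact global_iso FP GP hP FQ GQ hQ _ _ hs

end Groth.Agent.Lib.helper8.LGIso
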