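import Mathlib

/-!
# An orthogonal-decomposition lemma for positive definite integral lattices (helper8)
-/

namespace H8Lat

theorem compl_eq_zero {L N₁ N₂ : Type*} [AddCommGroup L] [AddCommGroup N₁] [AddCommGroup N₂]
    (p : L →ₗ[ℤ] N₁) (q : L →ₗ[ℤ] N₂) (hp : Function.Surjective p) (hq : Function.Surjective q)
    (b₁ : N₁ →ₗ[ℤ] N₁ →ₗ[ℤ] ℤ) (b₂ : N₂ →ₗ[ℤ] N₂ →ₗ[ℤ] ℤ)
    (hs₁ : ∀ u v, b₁ u v = b₁ v u)
    (hpos₁ : ∀ u, u ≠ 0 → 0 < b₁ u u) (hpos₂ : ∀ u, u ≠ 0 → 0 < b₂ u u)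
    (hD : ∀ z₁ z₂, ∃ x : L, ∀ x' : L, b₁ (p x') (z₁ - p x) + b₂ (q x') (z₂ - q x) = 0) :
    ∀ (n : ℕ) (w₁ : N₁) (w₂ : N₂), (∀ x' : L, b₁ (p x') w₁ + b₂ (q x') w₂ = 0) →
      b₁ w₁ w₁ + b₂ w₂ w₂ = (n : ℤ) → w₁ = 0 ∧ w₂ = 0 := by
  have hnn₁ : ∀ u, 0 ≤ b₁ u u := fun u => by
    by_cases hu : u = 0
    · rw [hu]; simp
    · exact (hpos₁ u hu).le
  have hnn₂ : ∀ u, 0 ≤ b₂ u u := fun u => by
    by_cases hu : u = 0
    · rw [hu]; simp
    · exact (hpos₂ u hu).le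
  have hdef₁ : ∀ u, b₁ u u ≤ 0 → u = 0 := fun u h => by
    by_contra hu
    exact absurd (hpos₁ u hu) (not_lt.mpr h)
  have hdef₂ : ∀ u, b₂ u u ≤ 0 → u = 0 := fun u h => by
    by_contra hu
    exact absurd (hpos₂ u hu) (not_lt.mpr h)
  intro n
  induction n using Nat.strong_induction_on with
  | _ n ih =>
    intro w₁ w₂ hw hn
    obtain ⟨x, hx⟩ := hD w₁ 0
    -- Na
    obtain ⟨Na, hNa⟩ : ∃ Na : ℤ, Na = b₁ (p x) (p x) + b₂ (q x) (q x) := ⟨_, rfl⟩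
    have hNa0 : 0 ≤ Na := by rw [hNa]; exact add_nonneg (hnn₁ _) (hnn₂ _)
    have e1 : b₁ (p x) w₁ = Na := by
      have h := hx x
      simp only [map_sub, zero_sub, map_neg] at h
      rw [hNa]; linarith
    have e2 : b₂ (q x) w₂ = -Na := by
      have h := hw x
      linarith
    -- norm of a'
    have hNa' : b₁ (w₁ - p x) (w₁ - p x) + b₂ (0 - q x) (0 - q x) = b₁ w₁ w₁ - Na := by
      simp only [map_sub, zero_sub, map_neg, LinearMap.sub_apply, LinearMap.neg_apply, neg_neg]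
      rw [hs₁ w₁ (p x), e1, hNa]
      ring
    by_cases hlt : b₁ w₁ w₁ - Na < (n : ℤ)
    · -- apply IH to a'
      have hnn : 0 ≤ b₁ w₁ w₁ - Na := by
        rw [← hNa']; exact add_nonneg (hnn₁ _) (hnn₂ _)
      have hm : ((b₁ w₁ w₁ - Na).toNat : ℤ) = b₁ w₁ w₁ - Na := Int.toNat_of_nonneg hnn
      have hmlt : (b₁ w₁ w₁ - Na).toNat < n := by
        have : ((b₁ w₁ w₁ - Na).toNat : ℤ) < (n : ℤ) := by rw [hm]; exact hlt
        exact_mod_cast this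
      obtain ⟨h1, h2⟩ := ih _ hmlt (w₁ - p x) (0 - q x) hx (by rw [hNa', hm])
      have hqx : q x = 0 := by
        have := h2
        rw [zero_sub, neg_eq_zero] at this
        exact this
      have hpx : p x = w₁ := (sub_eq_zero.mp h1).symm
      have hNa00 : Na = 0 := by
        have := e2
        rw [hqx, map_zero, LinearMap.zero_apply] at this
        linarith
      have hw₁ : w₁ = 0 := by
        apply hdef₁
        have := hNa
        rw [hqx, hpx, hNa00] at this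
        simp only [map_zero, LinearMap.zero_apply, add_zero] at this
        linarith
      refine ⟨hw₁, ?_⟩
      obtain ⟨x'', hx''⟩ := hq w₂
      apply hdef₂
      have := hw x''
      rw [hx'', hw₁, map_zero, zero_add] at this
      linarith
    · have hge : (n : ℤ) ≤ b₁ w₁ w₁ - Na := not_lt.mp hlt
      have hw₂0 : b₂ w₂ w₂ ≤ 0 := by linarith
      have hw₂ : w₂ = 0 := hdef₂ _ hw₂0
      have hNa00 : Na = 0 := by
        have := hnn₂ w₂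
        linarith
      have hpx : p x = 0 := by
        apply hdef₁
        have h1 := hnn₂ (q x)
        linarith
      refine ⟨?_, hw₂⟩
      obtain ⟨x'', hx''⟩ := hp w₁
      apply hdef₁
      have := hw x''
      rw [hx'', hw₂, map_zero, add_zero] at this
      linarith

theorem surj_of_decomp {L N₁ N₂ : Type*} [AddCommGroup L] [AddCommGroup N₁] [AddCommGroup N₂]
    (p : L →ₗ[ℤ] N₁) (q : L →ₗ[ℤ] N₂) (hp : Function.Surjective p) (hq : Function.Surjective q)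
    (b₁ : N₁ →ₗ[ℤ] N₁ →ₗ[ℤ] ℤ) (b₂ : N₂ →ₗ[ℤ] N₂ →ₗ[ℤ] ℤ)
    (hs₁ : ∀ u v, b₁ u v = b₁ v u)
    (hpos₁ : ∀ u, u ≠ 0 → 0 < b₁ u u) (hpos₂ : ∀ u, u ≠ 0 → 0 < b₂ u u)
    (hD : ∀ z₁ z₂, ∃ x : L, ∀ x' : L, b₁ (p x') (z₁ - p x) + b₂ (q x') (z₂ - q x) = 0)
    (z₁ : N₁) (z₂ : N₂) : ∃ x, p x = z₁ ∧ q x = z₂ := by
  obtain ⟨x, hx⟩ := hD z₁ z₂
  have hnn : 0 ≤ b₁ (z₁ - p x) (z₁ - p x) + b₂ (z₂ - q x) (z₂ - q x) := by
    have h1 : 0 ≤ b₁ (z₁ - p x) (z₁ - p x) := by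
      by_cases hu : z₁ - p x = 0
      · rw [hu]; simp
      · exact (hpos₁ _ hu).le
    have h2 : 0 ≤ b₂ (z₂ - q x) (z₂ - q x) := by
      by_cases hu : z₂ - q x = 0
      · rw [hu]; simp
      · exact (hpos₂ _ hu).le
    exact add_nonneg h1 h2
  obtain ⟨h1, h2⟩ := compl_eq_zero p q hp hq b₁ b₂ hs₁ hpos₁ hpos₂ hD _ (z₁ - p x) (z₂ - q x) hx
    (Int.toNat_of_nonneg hnn).symm
  exact ⟨x, (sub_eq_zero.mp h1).symm, (sub_eq_zero.mp h2).symm⟩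

end H8Lat
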