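import Mathlib

/-! helper8: length of `A ⧸ (J + (∏ f))` is at most the sum of lengths of `A ⧸ (J + (f i))`. -/

universe u v

namespace H8Len

theorem length_le_add_of_exact {R : Type*} [Ring R] {N M P : Type*} [AddCommGroup N]
    [AddCommGroup M] [AddCommGroup P] [Module R N] [Module R M] [Module R P]
    (f : N →ₗ[R] M) (g : M →ₗ[R] P) (hg : Function.Surjective g) (H : Function.Exact f g) :
    Module.length R M ≤ Module.length R N + Module.length R P := by
  have hex : Function.Exact (LinearMap.range f).subtype g := by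
    intro y
    constructor
    · intro hy
      obtain ⟨x, rfl⟩ := (H y).1 hy
      exact ⟨⟨f x, ⟨x, rfl⟩⟩, rfl⟩
    · rintro ⟨⟨_, ⟨x, rfl⟩⟩, rfl⟩
      exact (H (f x)).2 ⟨x, rfl⟩
  rw [Module.length_eq_add_of_exact (LinearMap.range f).subtype g (Submodule.subtype_injective _) hg
    hex]
  exact add_le_add_left
    (Module.length_le_of_surjective f.rangeRestrict (LinearMap.surjective_rangeRestrict f)) _

variable {A : Type u} [CommRing A]

/-- length of the quotient by an ideal -/
noncomputable def L (I : Ideal A) : ℕ∞ := Module.length A (A ⧸ I)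

theorem L_top : L (⊤ : Ideal A) = 0 := by
  unfold L
  rw [Module.length_eq_zero_iff]
  exact Submodule.Quotient.subsingleton_iff.2 rfl

theorem L_mul (J : Ideal A) (a b : A) :
    L (J ⊔ Ideal.span {a * b}) ≤ L (J ⊔ Ideal.span {a}) + L (J ⊔ Ideal.span {b}) := by
  unfold L
  have hle : J ⊔ Ideal.span {a * b} ≤ J ⊔ Ideal.span {a} := by
    apply sup_le le_sup_left
    rw [Ideal.span_le]
    intro x hx
    rw [Set.mem_singleton_iff] at hx
    rw [hx, mul_comm]
    exact Ideal.mem_sup_right (Ideal.mul_mem_left _ b (Ideal.subset_span rfl))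
  have hker : J ⊔ Ideal.span {b} ≤
      LinearMap.ker ((J ⊔ Ideal.span {a * b}).mkQ ∘ₗ LinearMap.lsmul A A a) := by
    apply sup_le
    · intro j hj
      rw [LinearMap.mem_ker, LinearMap.comp_apply, LinearMap.lsmul_apply, Submodule.mkQ_apply,
        Submodule.Quotient.mk_eq_zero, smul_eq_mul]
      exact Ideal.mem_sup_left (Ideal.mul_mem_left J a hj)
    · rw [Ideal.span_le]
      intro x hx
      rw [Set.mem_singleton_iff] at hx
      rw [hx]
      change b ∈ LinearMap.ker _
      rw [LinearMap.mem_ker, LinearMap.comp_apply, LinearMap.lsmul_apply, Submodule.mkQ_apply,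
        Submodule.Quotient.mk_eq_zero, smul_eq_mul]
      exact Ideal.mem_sup_right (Ideal.subset_span rfl)
  have hex : Function.Exact
      ((J ⊔ Ideal.span {b}).liftQ ((J ⊔ Ideal.span {a * b}).mkQ ∘ₗ LinearMap.lsmul A A a) hker)
      (Submodule.factor hle) := by
    intro y
    obtain ⟨x, rfl⟩ := Submodule.mkQ_surjective _ y
    constructor
    · intro hy
      rw [Submodule.factor_mk, Submodule.mkQ_apply, Submodule.Quotient.mk_eq_zero] at hy
      obtain ⟨j, hj, z, hz, hjz⟩ := Submodule.mem_sup.1 hy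
      obtain ⟨c, hc⟩ := Ideal.mem_span_singleton'.1 hz
      refine ⟨(J ⊔ Ideal.span {b}).mkQ c, ?_⟩
      rw [Submodule.mkQ_apply, Submodule.liftQ_apply, LinearMap.comp_apply, LinearMap.lsmul_apply,
        Submodule.mkQ_apply, Submodule.mkQ_apply, Submodule.Quotient.eq, smul_eq_mul]
      have : a * c - x = -j := by rw [← hjz, ← hc]; ring
      rw [this]
      exact neg_mem (Ideal.mem_sup_left hj)
    · rintro ⟨n, hn⟩
      obtain ⟨c, rfl⟩ := Submodule.mkQ_surjective _ n
      rw [← hn, Submodule.mkQ_apply, Submodule.liftQ_apply, LinearMap.comp_apply,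
        LinearMap.lsmul_apply, Submodule.factor_mk, Submodule.mkQ_apply,
        Submodule.Quotient.mk_eq_zero, smul_eq_mul, mul_comm]
      exact Ideal.mem_sup_right (Ideal.mul_mem_left _ c (Ideal.subset_span rfl))
  have := length_le_add_of_exact _ _ (Submodule.factor_surjective hle) hex
  rw [add_comm]
  exact this

theorem L_prod (J : Ideal A) {ι : Type*} (s : Finset ι) (f : ι → A) :
    L (J ⊔ Ideal.span {∏ i ∈ s, f i}) ≤ ∑ i ∈ s, L (J ⊔ Ideal.span {f i}) := by
  classical
  induction s using Finset.induction_on with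
  | empty =>
    rw [Finset.prod_empty, Ideal.span_singleton_one, sup_top_eq, L_top]
    exact le_of_eq (by simp)
  | insert i s his ih =>
    rw [Finset.prod_insert his, Finset.sum_insert his]
    exact (L_mul J _ _).trans (add_le_add_right ih _)

theorem sup_span_range_succ (J : Ideal A) {n : ℕ} (h : Fin (n + 1) → A) :
    J ⊔ Ideal.span (Set.range h) =
      (J ⊔ Ideal.span {h 0}) ⊔ Ideal.span (Set.range fun i : Fin n => h i.succ) := by
  rw [Fin.range_fin_succ, Ideal.span_insert, sup_assoc]
  rfl

theorem sup_span_range_succ' (J : Ideal A) {n : ℕ} (h : Fin (n + 1) → A) :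
    J ⊔ Ideal.span (Set.range h) =
      (J ⊔ Ideal.span (Set.range fun i : Fin n => h i.succ)) ⊔ Ideal.span {h 0} := by
  rw [sup_span_range_succ, sup_assoc, sup_assoc, sup_comm (Ideal.span {h 0})]

theorem L_multi {G : Type v} [Fintype G] (n : ℕ) :
    ∀ (J : Ideal A) (f : Fin n → G → A),
      L (J ⊔ Ideal.span (Set.range fun i => ∏ σ : G, f i σ)) ≤
        ∑ τ : Fin n → G, L (J ⊔ Ideal.span (Set.range fun i => f i (τ i))) := by
  induction n with
  | zero =>
    intro J f
    simp [Set.range_eq_empty]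
  | succ n ih =>
    intro J f
    rw [← Fintype.sum_equiv (Fin.consEquiv (fun _ : Fin (n + 1) => G))
      (fun p => L (J ⊔ Ideal.span (Set.range fun i =>
        f i ((Fin.cons p.1 p.2 : Fin (n + 1) → G) i)))) _ (fun p => rfl),
      Fintype.sum_prod_type]
    rw [sup_span_range_succ']
    refine (L_prod _ Finset.univ (f 0)).trans ?_
    apply Finset.sum_le_sum
    intro σ0 _
    have e1 : (J ⊔ Ideal.span (Set.range fun i : Fin n => ∏ σ : G, f i.succ σ)) ⊔
        Ideal.span {f 0 σ0} =
        (J ⊔ Ideal.span {f 0 σ0}) ⊔ Ideal.span (Set.range fun i : Fin n => ∏ σ : G, f i.succ σ) := by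
      rw [sup_assoc, sup_assoc, sup_comm (Ideal.span {f 0 σ0})]
    rw [e1]
    refine (ih (J ⊔ Ideal.span {f 0 σ0}) (fun i => f i.succ)).trans ?_
    apply le_of_eq
    apply Finset.sum_congr rfl
    intro τ' _
    rw [sup_span_range_succ]
    simp only [Fin.cons_zero, Fin.cons_succ]

end H8Len
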