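import Mathlib
import Groth.Prelude.Def_HopfRep
import Groth.Prelude.Def_Hoch
import Groth.Prelude.Def_ComodSub
import Groth.Agent.Lib.helper4.Comod
import Groth.Agent.Lib.helper9.ComodHom
import Groth.Agent.Lib.helper8.HomComodLib

/-! helper8: linear reductivity and the invariant-section criterion. -/

universe u v

open TensorProduct
open Groth.Agent.Lib.helper4

namespace H8LR

section
variable {k : Type u} [Field k] {A : Type v} [CommRing A] [HopfAlgebra k A]

theorem crit_of_linRed (hG : HopfRep.IsLinearlyReductive k A)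
    (V : Type v) [AddCommGroup V] [Module k V] [HopfRep.Comod k A V] (hfin : Module.Finite k V)
    (π : V →ₗ[k] k) (hπs : Function.Surjective π)
    (hπ : LinearMap.rTensor A π ∘ₗ HopfRep.Comod.coact (k := k) (A := A) (V := V) =
            (TensorProduct.mk k k A).flip (1 : A) ∘ₗ π) :
    ∃ v ∈ HopfRep.fixedPts k A V, π v ≠ 0 := by
  have hπapp : ∀ x : V, π.rTensor A (HopfRep.Comod.coact (k := k) (A := A) x) =
      π x ⊗ₜ[k] (1 : A) := by
    intro x
    have := LinearMap.congr_fun hπ x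
    simpa using this
  have hker : HopfRep.IsSubcomod (k := k) (A := A) (LinearMap.ker π) := by
    intro w hw
    have hex := rTensor_exact A (LinearMap.exact_subtype_ker_map π) hπs
    have h0 : π.rTensor A (HopfRep.Comod.coact (k := k) (A := A) w) = 0 := by
      rw [hπapp, LinearMap.mem_ker.1 hw, TensorProduct.zero_tmul]
    exact (hex _).1 h0
  obtain ⟨Q, hQ, hc⟩ := hG V hfin _ hker
  obtain ⟨x, hx⟩ := hπs 1
  obtain ⟨w, hw, q, hq, hwq⟩ := Submodule.mem_sup.1
    (show x ∈ LinearMap.ker π ⊔ Q by rw [hc.sup_eq_top]; trivial)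
  have hπq : π q = 1 := by
    rw [← hx, ← hwq, map_add, LinearMap.mem_ker.1 hw, zero_add]
  refine ⟨q, ?_, by rw [hπq]; exact one_ne_zero⟩
  obtain ⟨t, ht⟩ := hQ q hq
  have hinj : Function.Injective (π ∘ₗ Q.subtype) := by
    rw [← LinearMap.ker_eq_bot, LinearMap.ker_eq_bot']
    intro y hy
    have h1 : (y : V) ∈ LinearMap.ker π ⊓ Q := ⟨hy, y.2⟩
    rw [hc.inf_eq_bot] at h1
    exact Subtype.ext ((Submodule.mem_bot k).1 h1)
  have hinj' : Function.Injective ((π ∘ₗ Q.subtype).rTensor A) :=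
    Module.Flat.rTensor_preserves_injective_linearMap _ hinj
  have hd : t = (⟨q, hq⟩ : Q) ⊗ₜ[k] (1 : A) := by
    apply hinj'
    simp only [LinearMap.rTensor_comp, LinearMap.comp_apply, ht, hπapp, LinearMap.rTensor_tmul,
      Submodule.subtype_apply]
  show HopfRep.Comod.coact (k := k) (A := A) q = q ⊗ₜ[k] (1 : A)
  rw [← ht, hd, LinearMap.rTensor_tmul]
  rfl

theorem linRed_of_crit
    (H : ∀ (V : Type v) [AddCommGroup V] [Module k V] [HopfRep.Comod k A V], Module.Finite k V →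
        ∀ π : V →ₗ[k] k, Function.Surjective π →
          LinearMap.rTensor A π ∘ₗ HopfRep.Comod.coact (k := k) (A := A) (V := V) =
            (TensorProduct.mk k k A).flip (1 : A) ∘ₗ π →
          ∃ v ∈ HopfRep.fixedPts k A V, π v ≠ 0) :
    HopfRep.IsLinearlyReductive k A := by
  apply H8Hom.semisimple_of_exact k A
  intro V W _ _ cV _ _ cW φ hφ hsurj w hw
  by_cases hw0 : w = 0
  · exact ⟨0, Submodule.zero_mem _, by rw [hw0, map_zero]⟩
  obtain ⟨v0, hv0⟩ := hsurj w
  have hφ' : Hoch.IsComodHom A φ := hφ.symm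
  have hw' : cW.coact w = w ⊗ₜ[k] (1 : A) := hw
  obtain ⟨N, hNfin, hv0N, hN⟩ := h4_exists_finite_subcomod (k := k) (C := A) v0
  have hL : HopfRep.IsSubcomod (k := k) (A := A) (Submodule.span k {w}) := by
    intro y hy
    obtain ⟨c, rfl⟩ := Submodule.mem_span_singleton.1 hy
    refine ⟨(⟨c • w, hy⟩ : Submodule.span k {w}) ⊗ₜ[k] (1 : A), ?_⟩
    rw [LinearMap.rTensor_tmul, map_smul, hw', TensorProduct.smul_tmul']
    rfl
  obtain ⟨N', hN'def⟩ : ∃ N' : Submodule k V, N' = N ⊓ (Submodule.span k {w}).comap φ :=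
    ⟨_, rfl⟩
  have hN' : HopfRep.IsSubcomod (k := k) (A := A) N' := by
    rw [hN'def]
    exact H9Comod.isSubcomod_inf hN (H9Comod.isSubcomod_comap hφ' hL)
  haveI : FiniteDimensional k ↥N := hNfin
  have hN'fin : Module.Finite k ↥N' := by
    rw [hN'def]
    exact Submodule.finiteDimensional_inf_left _ _
  letI cN' : HopfRep.Comod k A ↥N' := ComodSub.Comod.restr cV N' hN'
  obtain ⟨l0, hl0⟩ : ∃ l0 : Module.Dual k W, l0 w ≠ 0 := by
    by_contra hcon
    push_neg at hcon
    exact hw0 ((Module.forall_dual_apply_eq_zero_iff k w).1 hcon)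
  obtain ⟨l, hl⟩ : ∃ l : W →ₗ[k] k, l = (l0 w)⁻¹ • l0 := ⟨_, rfl⟩
  have hlw : l w = 1 := by
    rw [hl, LinearMap.smul_apply, smul_eq_mul, inv_mul_cancel₀ hl0]
  obtain ⟨π, hπdef⟩ : ∃ π : ↥N' →ₗ[k] k, π = l ∘ₗ φ ∘ₗ N'.subtype := ⟨_, rfl⟩
  have hφn : ∀ n : ↥N', φ (n : V) = π n • w := by
    intro n
    have h1 : (n : V) ∈ N ⊓ (Submodule.span k {w}).comap φ := by
      rw [← hN'def]
      exact n.2
    obtain ⟨c, hc⟩ := Submodule.mem_span_singleton.1 h1.2
    rw [hπdef]
    simp only [LinearMap.comp_apply, Submodule.subtype_apply]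
    rw [← hc, map_smul, hlw, smul_eq_mul, mul_one]
  have hv0N' : v0 ∈ N' := by
    rw [hN'def]
    have h2 : v0 ∈ (Submodule.span k {w}).comap φ := by
      rw [Submodule.mem_comap, hv0]
      exact Submodule.mem_span_singleton_self w
    exact ⟨hv0N, h2⟩
  have hπs : Function.Surjective π := by
    intro c
    refine ⟨c • ⟨v0, hv0N'⟩, ?_⟩
    rw [map_smul, hπdef]
    simp only [LinearMap.comp_apply, Submodule.subtype_apply, hv0, hlw, smul_eq_mul, mul_one]
  have hπc : LinearMap.rTensor A π ∘ₗ cN'.coact =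
      (TensorProduct.mk k k A).flip (1 : A) ∘ₗ π := by
    apply LinearMap.ext
    intro n
    simp only [LinearMap.comp_apply, LinearMap.flip_apply, TensorProduct.mk_apply]
    have h1 : N'.subtype.rTensor A (cN'.coact n) = cV.coact (n : V) :=
      ComodSub.restr_coact_coe cV N' hN' n
    have h2 : π.rTensor A (cN'.coact n) =
        (l.rTensor A) ((φ.rTensor A) (N'.subtype.rTensor A (cN'.coact n))) := by
      rw [hπdef, LinearMap.rTensor_comp, LinearMap.rTensor_comp]
      rfl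
    rw [h2, h1]
    have h3 : φ.rTensor A (cV.coact (n : V)) = cW.coact (φ (n : V)) :=
      LinearMap.congr_fun hφ (n : V)
    rw [h3, hφn, map_smul, hw', map_smul, LinearMap.rTensor_tmul, hlw, TensorProduct.smul_tmul',
      smul_eq_mul, mul_one]
  obtain ⟨n, hnfix, hn0⟩ := @H ↥N' _ _ cN' hN'fin π hπs hπc
  have hnfixV : (n : V) ∈ HopfRep.fixedPts k A V := by
    show cV.coact (n : V) = (n : V) ⊗ₜ[k] (1 : A)
    have h1 : N'.subtype.rTensor A (cN'.coact n) = cV.coact (n : V) :=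
      ComodSub.restr_coact_coe cV N' hN' n
    have h2 : cN'.coact n = n ⊗ₜ[k] (1 : A) := hnfix
    rw [← h1, h2, LinearMap.rTensor_tmul]
    rfl
  refine ⟨(π n)⁻¹ • (n : V), Submodule.smul_mem _ _ hnfixV, ?_⟩
  rw [map_smul, hφn, smul_smul, inv_mul_cancel₀ hn0, one_smul]

end

end H8LR
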