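import Mathlib

/-!
# A lattice lemma: orthogonal decompositions of positive definite lattices (helper8)
-/

set_option autoImplicit false
open Matrix

namespace H8NLat

variable {ι κ₁ κ₂ : Type} [Fintype ι] [Fintype κ₁] [Fintype κ₂]

theorem bsplit (Ψ₁ : Matrix κ₁ κ₁ ℤ) (Ψ₂ : Matrix κ₂ κ₂ ℤ) (y z : κ₁ ⊕ κ₂ → ℤ) :
    y ⬝ᵥ (Matrix.fromBlocks Ψ₁ 0 0 Ψ₂) *ᵥ z =
      (y ∘ Sum.inl) ⬝ᵥ Ψ₁ *ᵥ (z ∘ Sum.inl) + (y ∘ Sum.inr) ⬝ᵥ Ψ₂ *ᵥ (z ∘ Sum.inr) := by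
  rw [Matrix.fromBlocks_mulVec]
  simp [dotProduct, Fintype.sum_sum_type]

theorem posdef (Ψ₁ : Matrix κ₁ κ₁ ℤ) (Ψ₂ : Matrix κ₂ κ₂ ℤ)
    (hΨ₁pos : ∀ y : κ₁ → ℤ, y ≠ 0 → 0 < y ⬝ᵥ Ψ₁.mulVec y)
    (hΨ₂pos : ∀ y : κ₂ → ℤ, y ≠ 0 → 0 < y ⬝ᵥ Ψ₂.mulVec y)
    (y : κ₁ ⊕ κ₂ → ℤ) (hy : y ≠ 0) :
    0 < y ⬝ᵥ (Matrix.fromBlocks Ψ₁ 0 0 Ψ₂) *ᵥ y := by
  rw [bsplit]
  have h1 : 0 ≤ (y ∘ Sum.inl) ⬝ᵥ Ψ₁ *ᵥ (y ∘ Sum.inl) := by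
    by_cases h : y ∘ Sum.inl = 0
    · rw [h]; simp
    · exact (hΨ₁pos _ h).le
  have h2 : 0 ≤ (y ∘ Sum.inr) ⬝ᵥ Ψ₂ *ᵥ (y ∘ Sum.inr) := by
    by_cases h : y ∘ Sum.inr = 0
    · rw [h]; simp
    · exact (hΨ₂pos _ h).le
  by_cases h : y ∘ Sum.inl = 0
  · have h' : y ∘ Sum.inr ≠ 0 := by
      intro h'
      apply hy
      funext i
      cases i with
      | inl a => exact congrFun h a
      | inr b => exact congrFun h' b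
    have := hΨ₂pos _ h'
    linarith
  · have := hΨ₁pos _ h
    linarith

theorem main (P : Matrix κ₁ ι ℤ) (Q : Matrix κ₂ ι ℤ)
    (hP : Function.Surjective P.mulVec) (hQ : Function.Surjective Q.mulVec)
    (Ψ₁ : Matrix κ₁ κ₁ ℤ) (Ψ₂ : Matrix κ₂ κ₂ ℤ) (hΨ₁ : Ψ₁.IsSymm) (hΨ₂ : Ψ₂.IsSymm)
    (hΨ₁pos : ∀ y : κ₁ → ℤ, y ≠ 0 → 0 < y ⬝ᵥ Ψ₁.mulVec y)
    (hΨ₂pos : ∀ y : κ₂ → ℤ, y ≠ 0 → 0 < y ⬝ᵥ Ψ₂.mulVec y)
    (himage : LinearMap.range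
        ((Matrix.fromRows P Q).transpose * Matrix.fromBlocks Ψ₁ 0 0 Ψ₂).mulVecLin =
      LinearMap.range ((Matrix.fromRows P Q).transpose * Matrix.fromBlocks Ψ₁ 0 0 Ψ₂ *
        Matrix.fromRows P Q).mulVecLin) :
    Function.Surjective (Matrix.fromRows P Q).mulVec := by
  obtain ⟨A, hA⟩ : ∃ A, A = Matrix.fromRows P Q := ⟨_, rfl⟩
  obtain ⟨Ψ, hΨ⟩ : ∃ Ψ, Ψ = Matrix.fromBlocks Ψ₁ 0 0 Ψ₂ := ⟨_, rfl⟩
  rw [← hA, ← hΨ] at himage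
  rw [← hA]
  have hsymm : Ψᵀ = Ψ := by
    rw [hΨ]; exact Matrix.IsSymm.fromBlocks hΨ₁ (Matrix.transpose_zero) hΨ₂
  have hpos : ∀ y : κ₁ ⊕ κ₂ → ℤ, y ≠ 0 → 0 < y ⬝ᵥ Ψ *ᵥ y := by
    intro y hy; rw [hΨ]; exact posdef Ψ₁ Ψ₂ hΨ₁pos hΨ₂pos y hy
  have hdec : ∀ y : κ₁ ⊕ κ₂ → ℤ, ∃ x k, y = A *ᵥ x + k ∧ (Aᵀ * Ψ) *ᵥ k = 0 := by
    intro y
    have h1 : (Aᵀ * Ψ).mulVecLin y ∈ LinearMap.range (Aᵀ * Ψ).mulVecLin := ⟨y, rfl⟩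
    rw [himage] at h1
    obtain ⟨x, hx⟩ := h1
    rw [Matrix.mulVecLin_apply, Matrix.mulVecLin_apply] at hx
    refine ⟨x, y - A *ᵥ x, by abel, ?_⟩
    rw [Matrix.mulVec_sub, Matrix.mulVec_mulVec, hx, sub_self]
  have hNK : ∀ (x : ι → ℤ) (k : κ₁ ⊕ κ₂ → ℤ), (Aᵀ * Ψ) *ᵥ k = 0 →
      (A *ᵥ x) ⬝ᵥ Ψ *ᵥ k = 0 ∧ k ⬝ᵥ Ψ *ᵥ (A *ᵥ x) = 0 := by
    intro x k hk
    have h1 : (A *ᵥ x) ⬝ᵥ Ψ *ᵥ k = 0 := by
      rw [dotProduct_comm (A *ᵥ x) (Ψ *ᵥ k), Matrix.dotProduct_mulVec (Ψ *ᵥ k) A x,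
        ← Matrix.mulVec_transpose, Matrix.mulVec_mulVec, hk, zero_dotProduct]
    refine ⟨h1, ?_⟩
    rw [Matrix.dotProduct_mulVec k Ψ (A *ᵥ x), ← Matrix.mulVec_transpose, hsymm,
      dotProduct_comm]
    exact h1
  have hkill : ∀ k : κ₁ ⊕ κ₂ → ℤ, (Aᵀ * Ψ) *ᵥ k = 0 → (∃ x, A *ᵥ x = k) → k = 0 := by
    rintro k hk ⟨x, hx⟩
    by_contra hne
    have h1 := (hNK x k hk).1
    rw [hx] at h1
    have := hpos k hne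
    omega
  have hK1 : ∀ k : κ₁ ⊕ κ₂ → ℤ, (Aᵀ * Ψ) *ᵥ k = 0 → k ∘ Sum.inr = 0 → k = 0 := by
    intro k hk h0
    obtain ⟨x, hx⟩ := hP (k ∘ Sum.inl)
    have h1 := (hNK x k hk).1
    rw [hΨ, bsplit, h0, hA, Matrix.fromRows_mulVec] at h1
    simp only [Sum.elim_comp_inl, Matrix.mulVec_zero, dotProduct_zero, add_zero] at h1
    rw [hx] at h1
    by_contra hne
    have h2 : k ∘ Sum.inl ≠ 0 := by
      intro h2; apply hne; funext i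
      cases i with
      | inl a => exact congrFun h2 a
      | inr b => exact congrFun h0 b
    have := hΨ₁pos _ h2
    omega
  have hK2 : ∀ k : κ₁ ⊕ κ₂ → ℤ, (Aᵀ * Ψ) *ᵥ k = 0 → k ∘ Sum.inl = 0 → k = 0 := by
    intro k hk h0
    obtain ⟨x, hx⟩ := hQ (k ∘ Sum.inr)
    have h1 := (hNK x k hk).1
    rw [hΨ, bsplit, h0, hA, Matrix.fromRows_mulVec] at h1
    simp only [Sum.elim_comp_inr, Matrix.mulVec_zero, dotProduct_zero, zero_add] at h1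
    rw [hx] at h1
    by_contra hne
    have h2 : k ∘ Sum.inr ≠ 0 := by
      intro h2; apply hne; funext i
      cases i with
      | inl a => exact congrFun h0 a
      | inr b => exact congrFun h2 b
    have := hΨ₂pos _ h2
    omega
  have hind : ∀ (m : ℕ) (y : κ₁ ⊕ κ₂ → ℤ), y ⬝ᵥ Ψ *ᵥ y < m → ∃ x, A *ᵥ x = y := by
    intro m
    induction m with
    | zero =>
      intro y hy
      exfalso
      by_cases h0 : y = 0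
      · rw [h0] at hy; simp at hy
      · have := hpos y h0; omega
    | succ m ih =>
      intro y hy
      obtain ⟨x, k, hyk, hk⟩ := hdec y
      have hk0 : k = 0 := by
        apply hkill k hk
        by_cases hn : A *ᵥ x = 0
        · have hyk' : y = k := by rw [hyk, hn, zero_add]
          by_cases h1 : k ∘ Sum.inr = 0
          · exact ⟨0, by rw [hK1 k hk h1]; simp⟩
          by_cases h2 : k ∘ Sum.inl = 0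
          · exact ⟨0, by rw [hK2 k hk h2]; simp⟩
          have hq : k ⬝ᵥ Ψ *ᵥ k = (k ∘ Sum.inl) ⬝ᵥ Ψ₁ *ᵥ (k ∘ Sum.inl) +
              (k ∘ Sum.inr) ⬝ᵥ Ψ₂ *ᵥ (k ∘ Sum.inr) := by rw [hΨ, bsplit]
          have hp1 := hΨ₁pos _ h2
          have hp2 := hΨ₂pos _ h1
          have hu : (Sum.elim (k ∘ Sum.inl) 0 : κ₁ ⊕ κ₂ → ℤ) ⬝ᵥ
              Ψ *ᵥ (Sum.elim (k ∘ Sum.inl) 0) = (k ∘ Sum.inl) ⬝ᵥ Ψ₁ *ᵥ (k ∘ Sum.inl) := by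
            rw [hΨ, bsplit]; simp
          have hv : (Sum.elim 0 (k ∘ Sum.inr) : κ₁ ⊕ κ₂ → ℤ) ⬝ᵥ
              Ψ *ᵥ (Sum.elim 0 (k ∘ Sum.inr)) = (k ∘ Sum.inr) ⬝ᵥ Ψ₂ *ᵥ (k ∘ Sum.inr) := by
            rw [hΨ, bsplit]; simp
          rw [hyk'] at hy
          obtain ⟨xu, hxu⟩ := ih (Sum.elim (k ∘ Sum.inl) 0) (by rw [hu]; omega)
          obtain ⟨xv, hxv⟩ := ih (Sum.elim 0 (k ∘ Sum.inr)) (by rw [hv]; omega)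
          refine ⟨xu + xv, ?_⟩
          rw [Matrix.mulVec_add, hxu, hxv]
          funext i
          cases i with
          | inl a => simp
          | inr b => simp
        · have hq : y ⬝ᵥ Ψ *ᵥ y = (A *ᵥ x) ⬝ᵥ Ψ *ᵥ (A *ᵥ x) + k ⬝ᵥ Ψ *ᵥ k := by
            rw [hyk, Matrix.mulVec_add, add_dotProduct, dotProduct_add, dotProduct_add,
              (hNK x k hk).1, (hNK x k hk).2]
            ring
          have hp := hpos _ hn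
          exact ih k (by omega)
      exact ⟨x, by rw [hyk, hk0, add_zero]⟩
  intro y
  exact hind ((y ⬝ᵥ Ψ *ᵥ y).toNat + 1) y (by
    have := Int.self_le_toNat (y ⬝ᵥ Ψ *ᵥ y); push_cast; omega)

end H8NLat
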