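import Mathlib

/-!
# Coefficient lemmas for `G₂ z² + 2 G₃ z + G₄` (helper8)
-/

set_option autoImplicit false
open MvPolynomial

namespace H8Prym

variable {K : Type*} [Field K]

theorem mem_vars_iff {σ : Type*} (p : MvPolynomial σ K) :
    p ∈ Ideal.span (Set.range (X : σ → MvPolynomial σ K)) ↔ constantCoeff p = 0 := by
  have h := mem_pow_idealOfVars_iff' (σ := σ) (R := K) 1 p
  rw [pow_one] at h
  rw [h, constantCoeff_eq]
  constructor
  · intro h1; exact h1 0 (by simp)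
  · intro h1 x hx
    have hx0 : Finsupp.degree x = 0 := by omega
    rw [Finsupp.degree_eq_zero_iff] at hx0
    rw [hx0]; exact h1

theorem notsupp (u : Fin 2 →₀ ℕ) :
    (2 : Fin 3) ∉ (Finsupp.mapDomain (Fin.castSucc : Fin 2 → Fin 3) u).support := by
  rw [Finsupp.notMem_support_iff]
  apply Finsupp.mapDomain_notin_range
  rintro ⟨i, hi⟩
  revert hi
  revert i
  decide

theorem coeffA (G₂ G₃ G₄ : MvPolynomial (Fin 2) K) (u : Fin 2 →₀ ℕ) :
    coeff (Finsupp.mapDomain (Fin.castSucc : Fin 2 → Fin 3) u)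
      (rename (Fin.castSucc : Fin 2 → Fin 3) G₂ * X (2 : Fin 3) ^ 2
        + 2 * rename (Fin.castSucc : Fin 2 → Fin 3) G₃ * X (2 : Fin 3)
        + rename (Fin.castSucc : Fin 2 → Fin 3) G₄) = coeff u G₄ := by
  classical
  rw [coeff_add, coeff_add, pow_two, ← mul_assoc]
  simp only [coeff_mul_X', if_neg (notsupp u), zero_add]
  exact coeff_rename_mapDomain _ (Fin.castSucc_injective 2) G₄ u

theorem coeffB (G₂ G₃ G₄ : MvPolynomial (Fin 2) K) (u : Fin 2 →₀ ℕ) :
    coeff (Finsupp.mapDomain (Fin.castSucc : Fin 2 → Fin 3) u + Finsupp.single (2 : Fin 3) 1)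
      (rename (Fin.castSucc : Fin 2 → Fin 3) G₂ * X (2 : Fin 3) ^ 2
        + 2 * rename (Fin.castSucc : Fin 2 → Fin 3) G₃ * X (2 : Fin 3)
        + rename (Fin.castSucc : Fin 2 → Fin 3) G₄) = 2 * coeff u G₃ := by
  classical
  have hu := Finsupp.notMem_support_iff.1 (notsupp u)
  have hs : (2 : Fin 3) ∈ (Finsupp.mapDomain (Fin.castSucc : Fin 2 → Fin 3) u
      + Finsupp.single (2 : Fin 3) 1).support := by
    rw [Finsupp.mem_support_iff, Finsupp.add_apply, Finsupp.single_eq_same, hu]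
    omega
  have h3 : coeff (Finsupp.mapDomain (Fin.castSucc : Fin 2 → Fin 3) u
      + Finsupp.single (2 : Fin 3) 1) (rename (Fin.castSucc : Fin 2 → Fin 3) G₄) = 0 := by
    apply coeff_rename_eq_zero
    intro u' hu'
    exfalso
    have h4 := DFunLike.congr_fun hu' 2
    rw [Finsupp.add_apply, Finsupp.single_eq_same, hu,
      Finsupp.notMem_support_iff.1 (notsupp u')] at h4
    omega
  rw [coeff_add, coeff_add, h3, add_zero, pow_two, ← mul_assoc]
  simp only [coeff_mul_X', if_pos hs, add_tsub_cancel_right, if_neg (notsupp u), zero_add]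
  rw [two_mul, two_mul, coeff_add, coeff_rename_mapDomain _ (Fin.castSucc_injective 2)]

theorem core1 (G₂ G₃ G₄ : MvPolynomial (Fin 2) K) (h2 : (2 : K) ≠ 0)
    (h : rename (Fin.castSucc : Fin 2 → Fin 3) G₂ * X (2 : Fin 3) ^ 2
        + 2 * rename (Fin.castSucc : Fin 2 → Fin 3) G₃ * X (2 : Fin 3)
        + rename (Fin.castSucc : Fin 2 → Fin 3) G₄
        ∈ (Ideal.span (Set.range (X : Fin 3 → MvPolynomial (Fin 3) K))) ^ 2) :
    G₄ ∈ (Ideal.span (Set.range (X : Fin 2 → MvPolynomial (Fin 2) K))) ^ 2 ∧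
      G₃ ∈ Ideal.span (Set.range (X : Fin 2 → MvPolynomial (Fin 2) K)) := by
  have h' := (mem_pow_idealOfVars_iff' (σ := Fin 3) (R := K) 2 _).1 h
  constructor
  · refine (mem_pow_idealOfVars_iff' (σ := Fin 2) (R := K) 2 _).2 ?_
    intro u hu
    rw [← coeffA G₂ G₃ G₄ u]
    apply h'
    rw [Finsupp.degree_mapDomain]; exact hu
  · rw [mem_vars_iff, constantCoeff_eq]
    have h5 := h' (Finsupp.mapDomain (Fin.castSucc : Fin 2 → Fin 3) 0
      + Finsupp.single (2 : Fin 3) 1) (by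
        rw [map_add, Finsupp.degree_mapDomain, Finsupp.degree_single]; simp)
    rw [coeffB] at h5
    exact (mul_eq_zero.1 h5).resolve_left h2

theorem core2 (G₂ G₃ G₄ : MvPolynomial (Fin 2) K)
    (h4 : G₄ ∈ (Ideal.span (Set.range (X : Fin 2 → MvPolynomial (Fin 2) K))) ^ 2)
    (h3 : G₃ ∈ Ideal.span (Set.range (X : Fin 2 → MvPolynomial (Fin 2) K))) :
    G₃ ^ 2 - G₂ * G₄ ∈ (Ideal.span (Set.range (X : Fin 2 → MvPolynomial (Fin 2) K))) ^ 2 :=
  Ideal.sub_mem _ (Ideal.pow_mem_pow h3 2) (Ideal.mul_mem_left _ _ h4)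

theorem rename_mem (n : ℕ) (p : MvPolynomial (Fin 2) K)
    (hp : p ∈ (Ideal.span (Set.range (X : Fin 2 → MvPolynomial (Fin 2) K))) ^ n) :
    rename (Fin.castSucc : Fin 2 → Fin 3) p ∈
      (Ideal.span (Set.range (X : Fin 3 → MvPolynomial (Fin 3) K))) ^ n := by
  have hp' := (mem_pow_idealOfVars_iff' (σ := Fin 2) (R := K) n _).1 hp
  refine (mem_pow_idealOfVars_iff' (σ := Fin 3) (R := K) n _).2 ?_
  intro x hx
  apply coeff_rename_eq_zero
  intro u hu
  apply hp'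
  rw [← hu, Finsupp.degree_mapDomain] at hx
  exact hx

theorem core3 (G₂ G₃ G₄ : MvPolynomial (Fin 2) K)
    (h4 : G₄ ∈ (Ideal.span (Set.range (X : Fin 2 → MvPolynomial (Fin 2) K))) ^ 2)
    (h3 : G₃ ∈ Ideal.span (Set.range (X : Fin 2 → MvPolynomial (Fin 2) K))) :
    rename (Fin.castSucc : Fin 2 → Fin 3) G₂ * X (2 : Fin 3) ^ 2
        + 2 * rename (Fin.castSucc : Fin 2 → Fin 3) G₃ * X (2 : Fin 3)
        + rename (Fin.castSucc : Fin 2 → Fin 3) G₄
        ∈ (Ideal.span (Set.range (X : Fin 3 → MvPolynomial (Fin 3) K))) ^ 2 := by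
  have hX : (X (2 : Fin 3) : MvPolynomial (Fin 3) K) ∈
      Ideal.span (Set.range (X : Fin 3 → MvPolynomial (Fin 3) K)) :=
    Ideal.subset_span ⟨2, rfl⟩
  have h3' := rename_mem 1 G₃ (by rwa [pow_one])
  rw [pow_one] at h3'
  refine Ideal.add_mem _ (Ideal.add_mem _ ?_ ?_) (rename_mem 2 G₄ h4)
  · exact Ideal.mul_mem_left _ _ (Ideal.pow_mem_pow hX 2)
  · rw [mul_assoc, pow_two]
    exact Ideal.mul_mem_left _ _ (Ideal.mul_mem_mul h3' hX)

end H8Prym
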