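import Mathlib
import Groth.Agent.Lib.helper8.HomElem

open CategoryTheory CategoryTheory.Limits

namespace H8Ret

universe v

/-- Abstract lifting lemma. -/
theorem exists_lift {R : Type*} [Ring R] {M N : Type*} [AddCommGroup M] [AddCommGroup N]
    [Module R M] [Module R N]
    (I : Submodule R M) (hfree : Module.Free R (M ⧸ I)) (T : M →ₗ[R] M) (hT : ∀ x ∈ I, T x ∈ I)
    (δ : N →ₗ[R] M) (hex : ∀ x : M, ∃ y : N, T x - δ y ∈ I) :
    ∃ S : M →ₗ[R] N, (∀ x ∈ I, S x = 0) ∧ ∀ x, T x - δ (S x) ∈ I := by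
  classical
  obtain ⟨b⟩ : Nonempty (Module.Basis (Module.Free.ChooseBasisIndex R (M ⧸ I)) R (M ⧸ I)) :=
    ⟨Module.Free.chooseBasis R (M ⧸ I)⟩
  have hlift : ∀ i, ∃ m : M, (Submodule.Quotient.mk m : M ⧸ I) = b i :=
    fun i => Submodule.Quotient.mk_surjective I (b i)
  choose m hm using hlift
  choose y hy using fun i => hex (m i)
  obtain ⟨Sbar, hSbar⟩ : ∃ Sbar : (M ⧸ I) →ₗ[R] N, ∀ i, Sbar (b i) = y i :=
    ⟨b.constr ℕ y, fun i => b.constr_basis ℕ y i⟩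
  obtain ⟨Φ, hΦ⟩ : ∃ Φ : M →ₗ[R] (M ⧸ I),
      ∀ x, Φ x = Submodule.Quotient.mk (T x - δ (Sbar (Submodule.Quotient.mk x))) :=
    ⟨I.mkQ ∘ₗ (T - δ ∘ₗ (Sbar ∘ₗ I.mkQ)), fun x => rfl⟩
  have hker : I ≤ LinearMap.ker Φ := by
    intro x hx
    rw [LinearMap.mem_ker, hΦ]
    have h0 : (Submodule.Quotient.mk x : M ⧸ I) = 0 := (Submodule.Quotient.mk_eq_zero I).mpr hx
    rw [h0, map_zero, map_zero, sub_zero]
    exact (Submodule.Quotient.mk_eq_zero I).mpr (hT x hx)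
  have hbar : I.liftQ Φ hker = 0 := by
    apply b.ext
    intro i
    rw [← hm i, Submodule.liftQ_apply, LinearMap.zero_apply, hΦ, hm i, hSbar i]
    exact (Submodule.Quotient.mk_eq_zero I).mpr (hy i)
  refine ⟨Sbar ∘ₗ I.mkQ, ?_, ?_⟩
  · intro x hx
    show Sbar (Submodule.Quotient.mk x) = 0
    rw [(Submodule.Quotient.mk_eq_zero I).mpr hx, map_zero]
  · intro x
    rw [← Submodule.Quotient.mk_eq_zero I]
    show (Submodule.Quotient.mk (T x - δ (Sbar (Submodule.Quotient.mk x))) : M ⧸ I) = 0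
    rw [← hΦ]
    have h1 : Φ x = I.liftQ Φ hker (Submodule.Quotient.mk x) := (Submodule.liftQ_apply I Φ x).symm
    rw [h1, hbar, LinearMap.zero_apply]

/-- Dependent sequence. -/
noncomputable def depSeq {Ty : ℕ → Type*} {G : ∀ q, Ty q → Prop} (s0 : {s : Ty 0 // G 0 s})
    (next : ∀ q, {s : Ty q // G q s} → {s : Ty (q+1) // G (q+1) s}) :
    ∀ q, {s : Ty q // G q s}
  | 0 => s0
  | q+1 => next q (depSeq s0 next q)

theorem dep_choice {Ty : ℕ → Type*} (G : ∀ q, Ty q → Prop) (P0 : Ty 0 → Prop)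
    (Ps : ∀ q, Ty q → Ty (q+1) → Prop)
    (base : ∃ s : Ty 0, P0 s ∧ G 0 s)
    (step : ∀ q (s : Ty q), G q s → ∃ s' : Ty (q+1), Ps q s s' ∧ G (q+1) s') :
    ∃ S : ∀ q, Ty q, P0 (S 0) ∧ (∀ q, Ps q (S q) (S (q+1))) ∧ ∀ q, G q (S q) := by
  classical
  obtain ⟨s0, h0, g0⟩ := base
  let nxt : ∀ q, {s : Ty q // G q s} → {s : Ty (q+1) // G (q+1) s} := fun q s =>
    ⟨Classical.choose (step q s.1 s.2), (Classical.choose_spec (step q s.1 s.2)).2⟩
  refine ⟨fun q => (depSeq ⟨s0, g0⟩ nxt q).1, h0, ?_, fun q => (depSeq ⟨s0, g0⟩ nxt q).2⟩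
  intro q
  exact (Classical.choose_spec (step q (depSeq ⟨s0, g0⟩ nxt q).1 (depSeq ⟨s0, g0⟩ nxt q).2)).1

section cx

theorem comm_apply {C D : ChainComplex (ModuleCat.{v} ℤ) ℕ} (f : C ⟶ D) (i j : ℕ) (a : C.X i) :
    (D.d i j).hom ((f.f i).hom a) = (f.f j).hom ((C.d i j).hom a) := by
  have h := congrArg (fun φ => φ.hom a) (f.comm i j)
  simpa only [ModuleCat.hom_comp, LinearMap.comp_apply] using h

theorem dd_apply (C : ChainComplex (ModuleCat.{v} ℤ) ℕ) (i j k : ℕ) (a : C.X i) :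
    (C.d j k).hom ((C.d i j).hom a) = 0 := by
  have h := congrArg (fun φ => φ.hom a) (C.d_comp_d i j k)
  simpa only [ModuleCat.hom_comp, LinearMap.comp_apply, ModuleCat.hom_zero,
    LinearMap.zero_apply] using h

variable {A' A : ChainComplex (ModuleCat.{v} ℤ) ℕ} (f : A' ⟶ A)

theorem acyc_zero [QuasiIso f] (x : A.X 0) :
    ∃ y : A.X 1, ∃ c' : A'.X 0, x - (A.d 1 0).hom y = (f.f 0).hom c' := by
  have hepi : Epi (HomologicalComplex.homologyMap f 0) := inferInstance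
  rw [H8HE.epi_homologyMap_iff f 1 0 0 (ChainComplex.prev ℕ 0) ChainComplex.next_nat_zero] at hepi
  obtain ⟨x', _, w, hw⟩ := hepi x
    (by rw [A.shape 0 0 (by simp), ModuleCat.hom_zero, LinearMap.zero_apply])
  refine ⟨w, x', ?_⟩
  rw [hw]; abel

theorem acyc_succ (hf : ∀ q, Function.Injective (f.f q).hom) [QuasiIso f] (q : ℕ)
    (x : A.X (q+1)) (a' : A'.X q) (ha' : (f.f q).hom a' = (A.d (q+1) q).hom x) :
    ∃ y : A.X (q+1+1), ∃ c' : A'.X (q+1),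
      x - (A.d (q+1+1) (q+1)).hom y = (f.f (q+1)).hom c' := by
  have hmono : Mono (HomologicalComplex.homologyMap f q) := inferInstance
  rw [H8HE.mono_homologyMap_iff f (q+1) q ((ComplexShape.down ℕ).next q)
    (ChainComplex.prev ℕ q) rfl] at hmono
  have hcyc : (A'.d q ((ComplexShape.down ℕ).next q)).hom a' = 0 := by
    apply hf
    rw [← comm_apply, ha', dd_apply, map_zero]
  obtain ⟨b', hb'⟩ := hmono a' hcyc ⟨x, ha'.symm⟩
  have hepi : Epi (HomologicalComplex.homologyMap f (q+1)) := inferInstance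
  rw [H8HE.epi_homologyMap_iff f (q+1+1) (q+1) q (ChainComplex.prev ℕ (q+1))
    (ChainComplex.next_nat_succ q)] at hepi
  have hz : (A.d (q+1) q).hom (x - (f.f (q+1)).hom b') = 0 := by
    rw [map_sub, comm_apply, hb', ha', sub_self]
  obtain ⟨x', _, w, hw⟩ := hepi _ hz
  refine ⟨w, b' + x', ?_⟩
  rw [map_add]
  have : x = (f.f (q+1)).hom b' + ((f.f (q+1)).hom x' + (A.d (q+1+1) (q+1)).hom w) := by
    rw [← hw]; abel
  rw [this]; abel

theorem exists_seq (hf : ∀ q, Function.Injective (f.f q).hom)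
    (hq : ∀ q, Module.Free ℤ ((A.X q) ⧸ LinearMap.range (f.f q).hom)) [QuasiIso f] :
    ∃ S : (q : ℕ) → (A.X q →ₗ[ℤ] A.X (q+1)),
      (∀ q (a' : A'.X q), S q ((f.f q).hom a') = 0) ∧
      (∀ x : A.X 0, ∃ a' : A'.X 0, x - (A.d 1 0).hom (S 0 x) = (f.f 0).hom a') ∧
      (∀ q (x : A.X (q+1)), ∃ a' : A'.X (q+1),
        x - S q ((A.d (q+1) q).hom x) - (A.d (q+1+1) (q+1)).hom (S (q+1) x) =
          (f.f (q+1)).hom a') := by
  have hq' : ∀ q, @Module.Free ℤ (A.X q ⧸ LinearMap.range (f.f q).hom) _ _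
      (Submodule.Quotient.module _) := by
    intro q
    have h := hq q
    convert h
    · rfl
    · exact Subsingleton.elim _ _
  have key := dep_choice (Ty := fun q => (A.X q →ₗ[ℤ] A.X (q+1)))
    (fun q S => (∀ a' : A'.X q, S ((f.f q).hom a') = 0) ∧
      (∀ x : A.X (q+1), ∃ a' : A'.X q,
        (A.d (q+1) q).hom x - (A.d (q+1) q).hom (S ((A.d (q+1) q).hom x)) = (f.f q).hom a'))
    (fun S => ∀ x : A.X 0, ∃ a' : A'.X 0, x - (A.d 1 0).hom (S x) = (f.f 0).hom a')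
    (fun q S S' => ∀ x : A.X (q+1), ∃ a' : A'.X (q+1),
        x - S ((A.d (q+1) q).hom x) - (A.d (q+1+1) (q+1)).hom (S' x) = (f.f (q+1)).hom a')
    ?_ ?_
  · obtain ⟨S, h0, hs, hG⟩ := key
    exact ⟨S, fun q => (hG q).1, h0, hs⟩
  · -- base
    obtain ⟨S0, hv, hS0⟩ := exists_lift (LinearMap.range (f.f 0).hom) (hq' 0) LinearMap.id
      (fun x hx => hx) (A.d 1 0).hom (fun x => by
        obtain ⟨y, c', h⟩ := acyc_zero f x
        exact ⟨y, c', h.symm⟩)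
    have hP0 : ∀ x : A.X 0, ∃ a' : A'.X 0, x - (A.d 1 0).hom (S0 x) = (f.f 0).hom a' := by
      intro x
      obtain ⟨a', ha'⟩ := hS0 x
      exact ⟨a', ha'.symm⟩
    refine ⟨S0, hP0, fun a' => hv _ (LinearMap.mem_range_self _ a'), ?_⟩
    intro x
    exact hP0 _
  · -- step
    intro q S hG
    obtain ⟨hvS, hGS⟩ := hG
    obtain ⟨T, hTdef⟩ : ∃ T : A.X (q+1) →ₗ[ℤ] A.X (q+1),
        ∀ x, T x = x - S ((A.d (q+1) q).hom x) :=
      ⟨LinearMap.id - S ∘ₗ (A.d (q+1) q).hom, fun x => rfl⟩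
    obtain ⟨S', hv, hS'⟩ := exists_lift (LinearMap.range (f.f (q+1)).hom) (hq' (q+1)) T
      (fun x hx => by
        obtain ⟨a', rfl⟩ := hx
        rw [hTdef, comm_apply, hvS, sub_zero]
        exact LinearMap.mem_range_self _ a')
      (A.d (q+1+1) (q+1)).hom
      (fun x => by
        obtain ⟨a', ha'⟩ := hGS x
        have hd : (f.f q).hom a' = (A.d (q+1) q).hom (T x) := by
          rw [hTdef, map_sub, ← ha']
        obtain ⟨y, c', h⟩ := acyc_succ f hf q _ a' hd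
        exact ⟨y, c', h.symm⟩)
    have hPs : ∀ x : A.X (q+1), ∃ a' : A'.X (q+1),
        x - S ((A.d (q+1) q).hom x) - (A.d (q+1+1) (q+1)).hom (S' x) = (f.f (q+1)).hom a' := by
      intro x
      obtain ⟨a', ha'⟩ := hS' x
      rw [hTdef] at ha'
      exact ⟨a', ha'.symm⟩
    refine ⟨S', hPs, fun a' => hv _ (LinearMap.mem_range_self _ a'), ?_⟩
    intro x
    obtain ⟨a', ha'⟩ := hPs ((A.d (q+1+1) (q+1)).hom x)
    refine ⟨a', ?_⟩
    rw [← ha', dd_apply, map_zero, sub_zero]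

/-- The endomorphisms `1 - dS - Sd`. -/
def Emap (S : (q : ℕ) → (A.X q →ₗ[ℤ] A.X (q+1))) : (q : ℕ) → (A.X q →ₗ[ℤ] A.X q)
  | 0 => LinearMap.id - (A.d 1 0).hom ∘ₗ S 0
  | q+1 => LinearMap.id - S q ∘ₗ (A.d (q+1) q).hom - (A.d (q+1+1) (q+1)).hom ∘ₗ S (q+1)

theorem Emap_zero (S : (q : ℕ) → (A.X q →ₗ[ℤ] A.X (q+1))) (x : A.X 0) :
    Emap S 0 x = x - (A.d 1 0).hom (S 0 x) := rfl

theorem Emap_succ (S : (q : ℕ) → (A.X q →ₗ[ℤ] A.X (q+1))) (q : ℕ) (x : A.X (q+1)) :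
    Emap S (q+1) x =
      x - S q ((A.d (q+1) q).hom x) - (A.d (q+1+1) (q+1)).hom (S (q+1) x) := rfl

theorem d_Emap (S : (q : ℕ) → (A.X q →ₗ[ℤ] A.X (q+1))) (j : ℕ) (x : A.X (j+1)) :
    (A.d (j+1) j).hom (Emap S (j+1) x) = Emap S j ((A.d (j+1) j).hom x) := by
  cases j with
  | zero =>
    rw [Emap_succ, Emap_zero, map_sub, map_sub, dd_apply, sub_zero]
  | succ q =>
    rw [Emap_succ, Emap_succ, map_sub, map_sub, dd_apply, dd_apply, map_zero, sub_zero, sub_zero]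

theorem Emap_f (S : (q : ℕ) → (A.X q →ₗ[ℤ] A.X (q+1)))
    (hv : ∀ q (a' : A'.X q), S q ((f.f q).hom a') = 0) (q : ℕ) (a' : A'.X q) :
    Emap S q ((f.f q).hom a') = (f.f q).hom a' := by
  cases q with
  | zero => rw [Emap_zero, hv, map_zero, sub_zero]
  | succ q => rw [Emap_succ, comm_apply, hv, hv, map_zero, sub_zero, sub_zero]

theorem Emap_mem (S : (q : ℕ) → (A.X q →ₗ[ℤ] A.X (q+1)))
    (h0 : ∀ x : A.X 0, ∃ a' : A'.X 0, x - (A.d 1 0).hom (S 0 x) = (f.f 0).hom a')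
    (hs : ∀ q (x : A.X (q+1)), ∃ a' : A'.X (q+1),
        x - S q ((A.d (q+1) q).hom x) - (A.d (q+1+1) (q+1)).hom (S (q+1) x) =
          (f.f (q+1)).hom a') (q : ℕ) (x : A.X q) :
    ∃ a' : A'.X q, (f.f q).hom a' = Emap S q x := by
  cases q with
  | zero => obtain ⟨a', h⟩ := h0 x; exact ⟨a', by rw [Emap_zero, h]⟩
  | succ q => obtain ⟨a', h⟩ := hs q x; exact ⟨a', by rw [Emap_succ, h]⟩

end cx

end H8Ret
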