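import Mathlib

/-!
# Trace of `h²` on irreducible `sl₂`-modules (helper8)
-/

set_option autoImplicit false
open LieModule

namespace H8Sl2

theorem two_mul_choose_two (n : ℕ) : 2 * (n + 1).choose 2 = n * (n + 1) := by
  induction n with
  | zero => decide
  | succ n ih =>
    have h1 : (n + 1 + 1).choose (1 + 1) = (n + 1).choose 1 + (n + 1).choose (1 + 1) :=
      Nat.choose_succ_succ (n + 1) 1
    rw [Nat.choose_one_right] at h1
    have h2 : (n + 1 + 1).choose 2 = (n + 1) + (n + 1).choose 2 := h1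
    rw [h2]; nlinarith [ih]

theorem six_mul_choose_three (n : ℕ) : 6 * (n + 2).choose 3 = n * (n + 1) * (n + 2) := by
  induction n with
  | zero => decide
  | succ n ih =>
    have h1 : (n + 2 + 1).choose (2 + 1) = (n + 2).choose 2 + (n + 2).choose (2 + 1) :=
      Nat.choose_succ_succ (n + 2) 2
    have h2 : (n + 1 + 2).choose 3 = (n + 2).choose 2 + (n + 2).choose 3 := h1
    have h3 : 2 * (n + 2).choose 2 = (n + 1) * (n + 2) := two_mul_choose_two (n + 1)
    rw [h2]
    nlinarith [ih, h3]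

theorem sum_sq (K : Type*) [Field K] (a : K) (N : ℕ) :
    3 * ∑ j ∈ Finset.range N, (a - 2 * (j : K)) ^ 2 =
      3 * N * a ^ 2 - 6 * a * N * (N - 1) + 2 * N * (N - 1) * (2 * N - 1) := by
  induction N with
  | zero => simp
  | succ N ih =>
    rw [Finset.sum_range_succ, mul_add, ih]
    push_cast
    ring

section
variable (k : Type*) [Field k] (L : Type*) [LieRing L] [LieAlgebra k L]
  {h e f : L} (t : IsSl2Triple h e f) (hspan : t.toLieSubalgebra k = ⊤)
  (M : Type*) [AddCommGroup M] [Module k M] [LieRingModule L M] [LieModule k L M]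

include hspan in
theorem lie_mem_span (s : Set M)
    (hs : ∀ y ∈ s, ⁅e, y⁆ ∈ Submodule.span k s ∧ ⁅f, y⁆ ∈ Submodule.span k s ∧
      ⁅h, y⁆ ∈ Submodule.span k s)
    (x : L) (y : M) (hy : y ∈ Submodule.span k s) : ⁅x, y⁆ ∈ Submodule.span k s := by
  have hx : x ∈ t.toLieSubalgebra k := by rw [hspan]; exact LieSubalgebra.mem_top x
  obtain ⟨c₁, c₂, c₃, rfl⟩ := IsSl2Triple.mem_toLieSubalgebra_iff.1 hx
  rw [t.lie_e_f]
  induction hy using Submodule.span_induction with
  | mem y hy =>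
    obtain ⟨h1, h2, h3⟩ := hs y hy
    rw [add_lie, add_lie, smul_lie, smul_lie, smul_lie]
    exact Submodule.add_mem _ (Submodule.add_mem _ (Submodule.smul_mem _ _ h1)
      (Submodule.smul_mem _ _ h2)) (Submodule.smul_mem _ _ h3)
  | zero => rw [lie_zero]; exact Submodule.zero_mem _
  | add y z _ _ hy hz => rw [lie_add]; exact Submodule.add_mem _ hy hz
  | smul c y _ hy => rw [lie_smul]; exact Submodule.smul_mem _ _ hy

end

theorem trace_sq_irr (k : Type*) [Field k] [IsAlgClosed k] [CharZero k]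
    (L : Type*) [LieRing L] [LieAlgebra k L] (h e f : L) (t : IsSl2Triple h e f)
    (hspan : t.toLieSubalgebra k = ⊤)
    (M : Type*) [AddCommGroup M] [Module k M] [LieRingModule L M] [LieModule k L M]
    [FiniteDimensional k M] [LieModule.IsIrreducible k L M] :
    LinearMap.trace k M ((toEnd k L M h) ^ 2) =
      2 * (((Module.finrank k M + 1).choose 3 : ℕ) : k) := by
  classical
  haveI : Nontrivial M := (LieSubmodule.nontrivial_iff k L M).1 inferInstance
  obtain ⟨μ, m, hm0, P⟩ := t.exists_hasPrimitiveVectorWith (R := k) (M := M)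
  obtain ⟨n, hn⟩ := P.exists_nat
  obtain ⟨v, hv⟩ : ∃ v : ℕ → M, v = fun j => ((toEnd k L M f) ^ j) m := ⟨_, rfl⟩
  have hvh : ∀ j, ⁅h, v j⁆ = (μ - 2 * (j : k)) • v j := by
    intro j; rw [hv]; exact P.lie_h_pow_toEnd_f j
  have hvf : ∀ j, ⁅f, v j⁆ = v (j + 1) := by
    intro j; rw [hv]; exact P.lie_f_pow_toEnd_f j
  have hve : ∀ j, ⁅e, v (j + 1)⁆ = (((j : k) + 1) * (μ - (j : k))) • v j := by
    intro j; rw [hv]; exact P.lie_e_pow_succ_toEnd_f j
  have hve0 : ⁅e, v 0⁆ = 0 := by rw [hv]; simpa using P.lie_e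
  have hvne : ∀ j, j ≤ n → v j ≠ 0 := by
    intro j hj; rw [hv]; exact P.pow_toEnd_f_ne_zero_of_eq_nat hn hj
  have hvz : v (n + 1) = 0 := by rw [hv]; exact P.pow_toEnd_f_eq_zero_of_eq_nat hn
  obtain ⟨w, hw⟩ : ∃ w : Fin (n + 1) → M, w = fun j : Fin (n + 1) => v (j : ℕ) := ⟨_, rfl⟩
  have hwj : ∀ j : Fin (n + 1), w j = v (j : ℕ) := by intro j; rw [hw]
  have hvN : ∀ j, j ≤ n → v j ∈ Submodule.span k (Set.range w) := fun j hj =>
    Submodule.subset_span ⟨⟨j, by omega⟩, hwj _⟩
  have hgen : ∀ y ∈ Set.range w, ⁅e, y⁆ ∈ Submodule.span k (Set.range w) ∧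
      ⁅f, y⁆ ∈ Submodule.span k (Set.range w) ∧ ⁅h, y⁆ ∈ Submodule.span k (Set.range w) := by
    rintro y ⟨j, rfl⟩
    have hjlt := j.isLt
    rw [hwj]
    refine ⟨?_, ?_, ?_⟩
    · rcases Nat.eq_zero_or_pos (j : ℕ) with h0 | hpos
      · rw [h0, hve0]; exact Submodule.zero_mem _
      · obtain ⟨j', hj'⟩ : ∃ j', (j : ℕ) = j' + 1 := ⟨j - 1, by omega⟩
        rw [hj', hve]; exact Submodule.smul_mem _ _ (hvN j' (by omega))
    · rw [hvf]
      by_cases hjn : (j : ℕ) + 1 ≤ n
      · exact hvN _ hjn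
      · have h1 : (j : ℕ) + 1 = n + 1 := by omega
        rw [h1, hvz]; exact Submodule.zero_mem _
    · rw [hvh]; exact Submodule.smul_mem _ _ (hvN j (by omega))
  let NL : LieSubmodule k L M :=
    { Submodule.span k (Set.range w) with
      lie_mem := fun {x y} hy => lie_mem_span k L t hspan M (Set.range w) hgen x y hy }
  have hNL : (NL : Submodule k M) = Submodule.span k (Set.range w) := rfl
  have hNLne : NL ≠ ⊥ := by
    intro hbot
    have h0 : v 0 ∈ (NL : Submodule k M) := by rw [hNL]; exact hvN 0 (Nat.zero_le n)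
    rw [hbot] at h0
    exact hvne 0 (Nat.zero_le n) (by simpa using h0)
  have hNLtop : NL = ⊤ := (IsSimpleOrder.eq_bot_or_eq_top NL).resolve_left hNLne
  have hsp : ⊤ ≤ Submodule.span k (Set.range w) := by
    rw [← hNL, hNLtop]; simp
  have hli : LinearIndependent k w := by
    apply Module.End.eigenvectors_linearIndependent' (toEnd k L M h)
      (fun j : Fin (n + 1) => μ - 2 * ((j : ℕ) : k))
    · intro a b hab
      have hab' : μ - 2 * ((a : ℕ) : k) = μ - 2 * ((b : ℕ) : k) := hab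
      have h3 : (2 : k) * ((a : ℕ) : k) = 2 * ((b : ℕ) : k) := by linear_combination (-1 : k) * hab'
      have h4 : ((a : ℕ) : k) = ((b : ℕ) : k) := mul_left_cancel₀ two_ne_zero h3
      exact Fin.ext (Nat.cast_injective h4)
    · intro j
      rw [Module.End.hasEigenvector_iff, Module.End.mem_eigenspace_iff, hwj]
      exact ⟨hvh j, hvne j (by have := j.isLt; omega)⟩
  let b : Module.Basis (Fin (n + 1)) k M := Module.Basis.mk hli hsp
  have hbj : ∀ j, b j = w j := fun j => Module.Basis.mk_apply hli hsp j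
  have hfin : Module.finrank k M = n + 1 := by
    rw [Module.finrank_eq_card_basis b, Fintype.card_fin]
  have hdiag : ∀ j : Fin (n + 1),
      (LinearMap.toMatrix b b ((toEnd k L M h) ^ 2)) j j = (μ - 2 * ((j : ℕ) : k)) ^ 2 := by
    intro j
    have hF : ((toEnd k L M h) ^ 2) (b j) = ((μ - 2 * ((j : ℕ) : k)) ^ 2) • b j := by
      rw [hbj, hwj, pow_two, Module.End.mul_apply, LieModule.toEnd_apply_apply,
        LieModule.toEnd_apply_apply, hvh, lie_smul, hvh, smul_smul, pow_two]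
    rw [LinearMap.toMatrix_apply, hF, map_smul, Module.Basis.repr_self, Finsupp.smul_apply,
      Finsupp.single_eq_same, smul_eq_mul, mul_one]
  rw [LinearMap.trace_eq_matrix_trace k b, Matrix.trace]
  simp only [Matrix.diag_apply, hdiag]
  rw [Fin.sum_univ_eq_sum_range (fun j => (μ - 2 * (j : k)) ^ 2) (n + 1), hfin, hn]
  have e2 : n + 1 + 1 = n + 2 := rfl
  rw [e2]
  have h6 : (6 : k) * (((n + 2).choose 3 : ℕ) : k) = (n : k) * ((n : k) + 1) * ((n : k) + 2) := by
    have h7 := six_mul_choose_three n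
    exact_mod_cast h7
  have h3 := sum_sq k (n : k) (n + 1)
  push_cast at h3
  apply mul_left_cancel₀ (three_ne_zero : (3 : k) ≠ 0)
  rw [h3]
  linear_combination (-1 : k) * h6

end H8Sl2
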