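import Mathlib

/-! Helper lemmas for the weighted Gaussian map statement (S16152). -/

namespace H8WG
open MvPolynomial

variable {k : Type*} [Field k] [CharZero k] {ι : Type*} [Fintype ι] [DecidableEq ι]

/-- the Gaussian tuple -/
noncomputable def G (a b : ℕ) (σ τ : MvPolynomial ι k) : ι → MvPolynomial ι k :=
  fun i => (b : k) • (τ * pderiv i σ) - (a : k) • (σ * pderiv i τ)

/-- `P * (X_j e_i - X_i e_j)` as a linear map in `P`. -/
noncomputable def PK (i j : ι) : MvPolynomial ι k →ₗ[k] (ι → MvPolynomial ι k) :=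
  LinearMap.pi fun l =>
    LinearMap.mulRight k ((if i = l then X j else 0) - (if j = l then X i else 0))

theorem PK_apply (i j : ι) (P : MvPolynomial ι k) (l : ι) :
    PK i j P l = P * ((if i = l then X j else 0) - (if j = l then X i else 0)) := rfl

theorem leibniz (a b : ℕ) (S T : MvPolynomial ι k) (i j : ι) :
    G a b (X i * S) (X j * T) - G a b (X j * S) (X i * T) = ((a : k) + b) • PK i j (S * T) := by
  funext l
  simp only [G, Pi.sub_apply, Pi.smul_apply, PK_apply, Derivation.leibniz, pderiv_X,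
    Pi.single_apply, smul_eq_mul, smul_eq_C_mul, map_add]
  split_ifs with h1 h2 <;> (try subst h1) <;> (try subst h2) <;> ring

theorem PK_mem (a b e A B : ℕ) (ha : 0 < a) (hA : a * e = A + 1) (hB : b * e = B + 1)
    (S T : MvPolynomial ι k) (hS : S.IsHomogeneous A) (hT : T.IsHomogeneous B) (i j : ι) :
    PK i j (S * T) ∈ Submodule.span k {g : ι → MvPolynomial ι k |
      ∃ σ τ : MvPolynomial ι k, σ.IsHomogeneous (a * e) ∧ τ.IsHomogeneous (b * e) ∧
        g = fun i => (b : k) • (τ * pderiv i σ) - (a : k) • (σ * pderiv i τ)} := by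
  have hne : ((a : k) + b) ≠ 0 := by
    have h0 : a + b ≠ 0 := by omega
    exact_mod_cast h0
  have h := leibniz (k := k) a b S T i j
  have e1 : PK i j (S * T) =
      ((a : k) + b)⁻¹ • (G a b (X i * S) (X j * T) - G a b (X j * S) (X i * T)) := by
    rw [h, smul_smul, inv_mul_cancel₀ hne, one_smul]
  rw [e1]
  have hXS : ∀ i : ι, (X i * S).IsHomogeneous (a * e) := fun i => by
    rw [hA, add_comm]; exact (isHomogeneous_X _ i).mul hS
  have hXT : ∀ i : ι, (X i * T).IsHomogeneous (b * e) := fun i => by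
    rw [hB, add_comm]; exact (isHomogeneous_X _ i).mul hT
  exact Submodule.smul_mem _ _ (Submodule.sub_mem _
    (Submodule.subset_span ⟨_, _, hXS i, hXT j, rfl⟩)
    (Submodule.subset_span ⟨_, _, hXS j, hXT i, rfl⟩))

theorem split_deg (s : ℕ) (d : ι →₀ ℕ) (hs : s ≤ d.degree) :
    ∃ δ δ' : ι →₀ ℕ, d = δ + δ' ∧ δ.degree = s := by
  induction s with
  | zero => exact ⟨0, d, (zero_add d).symm, map_zero _⟩
  | succ s ih =>
    obtain ⟨δ, δ', hd, hδ⟩ := ih (Nat.le_of_succ_le hs)
    have hδ' : δ'.degree ≠ 0 := by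
      have h1 : d.degree = δ.degree + δ'.degree := by rw [hd, map_add]
      omega
    have hne : δ' ≠ 0 := fun h => hδ' (by rw [h, map_zero])
    obtain ⟨i, hi⟩ : ∃ i, δ' i ≠ 0 := by
      by_contra hcon
      push Not at hcon
      exact hne (Finsupp.ext hcon)
    have hsplit : δ' = Finsupp.single i 1 + (δ' - Finsupp.single i 1) := by
      ext j
      simp only [Finsupp.coe_add, Finsupp.coe_tsub, Pi.add_apply, Pi.sub_apply,
        Finsupp.single_apply]
      split_ifs with h
      · subst h; omega
      · omega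
    refine ⟨δ + Finsupp.single i 1, δ' - Finsupp.single i 1, ?_, ?_⟩
    · rw [hd, add_assoc, ← hsplit]
    · rw [map_add, hδ, Finsupp.degree_single]

theorem PK_mem_hom (a b e A B : ℕ) (ha : 0 < a) (hA : a * e = A + 1) (hB : b * e = B + 1)
    (P : MvPolynomial ι k) (hP : P.IsHomogeneous (A + B)) (i j : ι) :
    PK i j P ∈ Submodule.span k {g : ι → MvPolynomial ι k |
      ∃ σ τ : MvPolynomial ι k, σ.IsHomogeneous (a * e) ∧ τ.IsHomogeneous (b * e) ∧
        g = fun i => (b : k) • (τ * pderiv i σ) - (a : k) • (σ * pderiv i τ)} := by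
  rw [← support_sum_monomial_coeff P, map_sum]
  refine Submodule.sum_mem _ fun d hd => ?_
  have hc : coeff d P ≠ 0 := mem_support_iff.mp hd
  have hdeg : d.degree = A + B := by rw [Finsupp.degree_eq_weight_one]; exact hP hc
  obtain ⟨δ, δ', hdd, hδ⟩ := split_deg A d (by omega)
  have hδ' : δ'.degree = B := by
    have h1 : d.degree = δ.degree + δ'.degree := by rw [hdd, map_add]
    omega
  have e1 : monomial d (coeff d P) = coeff d P • (monomial δ 1 * monomial δ' (1 : k)) := by
    rw [monomial_mul, one_mul, ← hdd, smul_monomial, smul_eq_mul, mul_one]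
  rw [e1, map_smul]
  exact Submodule.smul_mem _ _ (PK_mem a b e A B ha hA hB _ _
    (isHomogeneous_monomial _ hδ) (isHomogeneous_monomial _ hδ') i j)

theorem euler_decomp (t : ℕ) (f : ι → MvPolynomial ι k) (hf : ∀ i, (f i).IsHomogeneous t)
    (hE : ∑ i, X i * f i = 0) :
    ((t + 1 : ℕ) : k) • f = ∑ j, ∑ l, PK l j (pderiv j (f l)) := by
  funext m
  simp only [Pi.smul_apply, Finset.sum_apply, PK_apply]
  have h1 : ∑ j, ∑ l, pderiv j (f l) * ((if l = m then X j else 0) - (if j = m then X l else 0))
      = ∑ j, pderiv j (f m) * X j - ∑ l, pderiv m (f l) * X l := by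
    simp only [mul_sub, Finset.sum_sub_distrib, mul_ite, mul_zero]
    congr 1
    · refine Finset.sum_congr rfl fun j _ => ?_
      simp only [Finset.sum_ite_eq', Finset.mem_univ, if_true]
    · rw [Finset.sum_comm]
      refine Finset.sum_congr rfl fun l _ => ?_
      simp only [Finset.sum_ite_eq', Finset.mem_univ, if_true]
  rw [h1]
  have h2 : ∑ j, pderiv j (f m) * X j = (t : MvPolynomial ι k) * f m := by
    have h := (hf m).sum_X_mul_pderiv
    rw [nsmul_eq_mul] at h
    rw [← h]; exact Finset.sum_congr rfl fun j _ => mul_comm _ _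
  have h3 : ∑ l, pderiv m (f l) * X l = - f m := by
    have h := congrArg (pderiv m) hE
    rw [map_sum, map_zero] at h
    simp only [Derivation.leibniz, pderiv_X, smul_eq_mul, Pi.single_apply] at h
    rw [Finset.sum_add_distrib] at h
    simp only [mul_ite, mul_one, mul_zero, Finset.sum_ite_eq', Finset.mem_univ, if_true] at h
    rw [eq_neg_iff_add_eq_zero, ← h]
    congr 1
    exact Finset.sum_congr rfl fun l _ => mul_comm _ _
  rw [h2, h3, smul_eq_C_mul]
  simp only [Nat.cast_add, Nat.cast_one, map_add, map_one, map_natCast]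
  ring

end H8WG
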