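import Mathlib
import Groth.Agent.Lib.helper8.IsocLang1

/-!
# Lang's theorem for unit-root F-crystals over `W(k)`, `k` algebraically closed (helper8)

A finite free `W(k)`-module with a bijective Frobenius-power-semilinear endomorphism has a basis of
fixed vectors.
-/

set_option autoImplicit false

namespace H8Witt

universe u v

section FieldPart

variable {k : Type*} [Field k] [IsAlgClosed k] {V : Type*} [AddCommGroup V] [Module k V]
  [Module.Finite k V]

/-- The fixed vectors of an injective Frobenius-semilinear endomorphism span the space. -/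
theorem span_fixed_eq_top {q : ℕ} (hq : 2 ≤ q) {ρ : k →+* k} (hρ : ∀ x, ρ x = x ^ q)
    (φ : V →ₛₗ[ρ] V) (hφ : Function.Injective φ) :
    Submodule.span k {v : V | φ v = v} = ⊤ := by
  classical
  obtain ⟨V₀, hV₀⟩ : ∃ V₀ : Submodule k V, V₀ = Submodule.span k {v : V | φ v = v} := ⟨_, rfl⟩
  rw [← hV₀]
  have hgen : ∀ x : V, φ x = x → x ∈ V₀ := fun x hx => by
    rw [hV₀]; exact Submodule.subset_span hx
  have hA : ∀ x ∈ V₀, ∃ v' ∈ V₀, φ v' = x := by
    intro x hx
    rw [hV₀] at hx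
    induction hx using Submodule.span_induction with
    | mem x hx => exact ⟨x, hgen x hx, hx⟩
    | zero => exact ⟨0, V₀.zero_mem, map_zero φ⟩
    | add x y _ _ hx hy =>
      obtain ⟨x', hx', rfl⟩ := hx
      obtain ⟨y', hy', rfl⟩ := hy
      exact ⟨x' + y', V₀.add_mem hx' hy', map_add φ x' y'⟩
    | smul a x _ hx =>
      obtain ⟨x', hx', rfl⟩ := hx
      obtain ⟨b, hb⟩ := IsAlgClosed.exists_pow_nat_eq a (by omega : 0 < q)
      refine ⟨b • x', V₀.smul_mem b hx', ?_⟩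
      rw [map_smulₛₗ, hρ, hb]
  have hB : ∀ x ∈ V₀, ∃ v' ∈ V₀, φ v' - v' = x := by
    intro x hx
    rw [hV₀] at hx
    have key : ∀ c : k, ∃ v' ∈ V₀, φ v' - v' = c • x := by
      induction hx using Submodule.span_induction with
      | mem x hx =>
        intro c
        obtain ⟨u, hu⟩ := H8Lang.exists_additive_root hq 1 (fun _ => (1 : k)) (-c)
        refine ⟨u • x, V₀.smul_mem u (hgen x hx), ?_⟩
        have hx' : φ x = x := hx
        rw [map_smulₛₗ, hρ, hx', ← sub_smul]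
        congr 1
        simp only [Finset.sum_range_one, zero_add, pow_one, one_mul] at hu
        linear_combination hu
      | zero => intro c; exact ⟨0, V₀.zero_mem, by rw [map_zero, sub_zero, smul_zero]⟩
      | add x y _ _ hx hy =>
        intro c
        obtain ⟨x', hx', ex⟩ := hx c
        obtain ⟨y', hy', ey⟩ := hy c
        exact ⟨x' + y', V₀.add_mem hx' hy', by rw [map_add, smul_add, ← ex, ← ey]; abel⟩
      | smul a x _ hx =>
        intro c
        obtain ⟨x', hx', ex⟩ := hx (c * a)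
        exact ⟨x', hx', by rw [ex, mul_smul]⟩
    obtain ⟨v', hv', e⟩ := key 1
    exact ⟨v', hv', by rw [e, one_smul]⟩
  by_contra hne
  have hnt : Nontrivial (V ⧸ V₀) := Submodule.Quotient.nontrivial_iff.mpr hne
  have hle : V₀ ≤ V₀.comap φ := by
    rw [hV₀]
    apply Submodule.span_le.mpr
    intro x hx
    show φ x ∈ Submodule.span k {v : V | φ v = v}
    have hx' : φ x = x := hx
    rw [hx']
    exact Submodule.subset_span hx
  obtain ⟨φq, hφq⟩ : ∃ φq : (V ⧸ V₀) →ₛₗ[ρ] (V ⧸ V₀),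
      ∀ v : V, φq (Submodule.Quotient.mk v) = Submodule.Quotient.mk (φ v) :=
    ⟨V₀.mapQ V₀ φ hle, fun v => Submodule.mapQ_apply _ _ _ _⟩
  have hφqinj : Function.Injective φq := by
    rw [injective_iff_map_eq_zero]
    intro w hw
    obtain ⟨v, rfl⟩ := Submodule.Quotient.mk_surjective V₀ w
    rw [hφq, Submodule.Quotient.mk_eq_zero] at hw
    obtain ⟨v', hv', hvv'⟩ := hA _ hw
    have := hφ hvv'
    rw [Submodule.Quotient.mk_eq_zero, ← this]
    exact hv'
  obtain ⟨w, hw0, hw⟩ := H8Lang.exists_fixed_ne_zero hq hρ φq hφqinj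
  obtain ⟨v, rfl⟩ := Submodule.Quotient.mk_surjective V₀ w
  rw [hφq, ← sub_eq_zero, ← Submodule.Quotient.mk_sub, Submodule.Quotient.mk_eq_zero] at hw
  obtain ⟨v', hv', hvv'⟩ := hB _ hw
  have hfix : φ (v - v') = v - v' := by
    rw [map_sub]
    have : φ v = φ v' - v' + v := by rw [hvv']; abel
    rw [this]; abel
  have h1 := V₀.add_mem (hgen _ hfix) hv'
  rw [sub_add_cancel] at h1
  exact hw0 ((Submodule.Quotient.mk_eq_zero V₀).mpr h1)

end FieldPart

section WittPart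

variable {p : ℕ} [hp : Fact p.Prime] {k : Type u} [Field k] [CharP k p] [IsAlgClosed k]

local notation "W" => WittVector p k

theorem coeff_zero_iterate_frobenius (ν : ℕ) (a : W) :
    ((⇑(WittVector.frobenius : W →+* W))^[ν] a).coeff 0 = a.coeff 0 ^ p ^ ν := by
  induction ν with
  | zero => simp
  | succ ν ih =>
    rw [Function.iterate_succ_apply', WittVector.coeff_frobenius_charP, ih, ← pow_mul, pow_succ]

theorem w_haus (x : W) (hx : ∀ j : ℕ, (p : W) ^ j ∣ x) : x = 0 := by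
  refine IsHausdorff.haus (I := Ideal.span {(p : W)}) inferInstance x ?_
  intro n
  rw [SModEq.zero, smul_eq_mul, Ideal.mul_top, Ideal.span_singleton_pow, Ideal.mem_span_singleton]
  exact hx n

theorem w_prec (f : ℕ → W) (hf : ∀ j : ℕ, (p : W) ^ j ∣ f (j + 1) - f j) :
    ∃ L : W, ∀ j : ℕ, (p : W) ^ j ∣ L - f j := by
  have hmn : ∀ m n : ℕ, m ≤ n → (p : W) ^ m ∣ f n - f m := by
    intro m n hmn
    induction n, hmn using Nat.le_induction with
    | base => rw [sub_self]; exact dvd_zero _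
    | succ n hmn ih =>
      have e : f (n + 1) - f m = (f (n + 1) - f n) + (f n - f m) := by ring
      rw [e]
      exact dvd_add (dvd_trans (pow_dvd_pow _ hmn) (hf n)) ih
  obtain ⟨L, hL⟩ := IsPrecomplete.prec (I := Ideal.span {(p : W)}) inferInstance (f := f) (by
    intro m n hmn'
    rw [SModEq.sub_mem, smul_eq_mul, Ideal.mul_top, Ideal.span_singleton_pow,
      Ideal.mem_span_singleton]
    exact dvd_sub_comm.mp (hmn m n hmn'))
  refine ⟨L, fun j => ?_⟩
  have := hL j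
  rw [SModEq.sub_mem, smul_eq_mul, Ideal.mul_top, Ideal.span_singleton_pow,
    Ideal.mem_span_singleton] at this
  exact dvd_sub_comm.mp this

variable {M : Type v} [AddCommGroup M] [Module (WittVector p k) M]

theorem m_haus {n : ℕ} (b : Module.Basis (Fin n) W M) (x : M)
    (hx : ∀ j : ℕ, ∃ m : M, x = (p : W) ^ j • m) : x = 0 := by
  apply b.equivFun.injective
  rw [map_zero]
  funext i
  rw [Pi.zero_apply]
  apply w_haus
  intro j
  obtain ⟨m, rfl⟩ := hx j
  rw [map_smul, Pi.smul_apply, smul_eq_mul]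
  exact dvd_mul_right _ _

theorem m_prec {n : ℕ} (b : Module.Basis (Fin n) W M) (f : ℕ → M)
    (hf : ∀ j : ℕ, ∃ m : M, f (j + 1) - f j = (p : W) ^ j • m) :
    ∃ y : M, ∀ j : ℕ, ∃ m : M, y - f j = (p : W) ^ j • m := by
  have h1 : ∀ i : Fin n, ∃ L : W, ∀ j : ℕ, (p : W) ^ j ∣ L - b.equivFun (f j) i := by
    intro i
    apply w_prec (fun j => b.equivFun (f j) i)
    intro j
    obtain ⟨m, hm⟩ := hf j
    show (p : W) ^ j ∣ b.equivFun (f (j + 1)) i - b.equivFun (f j) i
    rw [← Pi.sub_apply, ← map_sub, hm, map_smul, Pi.smul_apply, smul_eq_mul]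
    exact dvd_mul_right _ _
  choose L hL using h1
  refine ⟨b.equivFun.symm L, fun j => ?_⟩
  have h2 : ∀ i, ∃ u : W, L i - b.equivFun (f j) i = (p : W) ^ j * u := fun i => hL i j
  choose u hu using h2
  refine ⟨b.equivFun.symm u, ?_⟩
  apply b.equivFun.injective
  rw [map_sub, map_smul, LinearEquiv.apply_symm_apply, LinearEquiv.apply_symm_apply]
  funext i
  rw [Pi.sub_apply, Pi.smul_apply, smul_eq_mul]
  exact hu i

theorem exists_limit_tower {n : ℕ} (b : Module.Basis (Fin n) W M) (S : ℕ → Set M)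
    (hS : ∀ j : ℕ, ∀ z ∈ S j, ∃ z' ∈ S (j + 1), ∃ m : M, z' - z = (p : W) ^ j • m)
    (z₀ : M) (h0 : z₀ ∈ S 0) :
    ∃ y : M, ∀ j : ℕ, ∃ z ∈ S j, ∃ m : M, y - z = (p : W) ^ j • m := by
  classical
  let g : (j : ℕ) → {z : M // z ∈ S j} := fun j =>
    Nat.rec (motive := fun j => {z : M // z ∈ S j}) ⟨z₀, h0⟩
      (fun j z => ⟨Classical.choose (hS j z.1 z.2), (Classical.choose_spec (hS j z.1 z.2)).1⟩) j
  have hg : ∀ j, ∃ m : M, (g (j + 1)).1 - (g j).1 = (p : W) ^ j • m := fun j =>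
    (Classical.choose_spec (hS j (g j).1 (g j).2)).2
  obtain ⟨y, hy⟩ := m_prec b (fun j => (g j).1) hg
  exact ⟨y, fun j => ⟨(g j).1, (g j).2, hy j⟩⟩

theorem exists_fixed_basis (ν : ℕ) (hν : 1 ≤ ν) [Module.Finite W M] [Module.Free W M]
    (F : M →+ M)
    (hF : ∀ (a : W) (m : M),
      F (a • m) = ((⇑(WittVector.frobenius : W →+* W))^[ν] a) • F m)
    (hbij : Function.Bijective F) :
    ∃ (ι : Type v) (b : Module.Basis ι W M), ∀ i, F (b i) = b i := by
  classical
  obtain ⟨n, hn⟩ : ∃ n, Module.finrank W M = n := ⟨_, rfl⟩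
  obtain ⟨b⟩ : Nonempty (Module.Basis (Fin n) W M) := ⟨Module.finBasisOfFinrankEq W M hn⟩
  obtain ⟨σ, hσ⟩ : ∃ σ : W →+* W, ∀ a, σ a = (⇑(WittVector.frobenius : W →+* W))^[ν] a :=
    ⟨WittVector.frobenius ^ ν, fun a => by rw [RingHom.coe_pow]⟩
  have hF' : ∀ (a : W) (m : M), F (a • m) = σ a • F m := fun a m => by rw [hσ]; exact hF a m
  obtain ⟨cc, hcc⟩ : ∃ cc : W →+* k, ∀ w : W, cc w = w.coeff 0 :=
    ⟨WittVector.constantCoeff, fun _ => rfl⟩
  obtain ⟨q, hqdef⟩ : ∃ q : ℕ, q = p ^ ν := ⟨_, rfl⟩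
  have hq : 2 ≤ q := by
    rw [hqdef]
    calc 2 ≤ p := hp.out.two_le
      _ = p ^ 1 := (pow_one p).symm
      _ ≤ p ^ ν := Nat.pow_le_pow_right hp.out.pos hν
  obtain ⟨ρ, hρ⟩ : ∃ ρ : k →+* k, ∀ x, ρ x = x ^ q :=
    ⟨iterateFrobenius k p ν, fun x => by rw [iterateFrobenius_def, hqdef]⟩
  have hccσ : ∀ a, cc (σ a) = ρ (cc a) := fun a => by
    rw [hcc, hσ, coeff_zero_iterate_frobenius, hρ, hcc, hqdef]
  have hccp : cc (p : W) = 0 := by rw [map_natCast]; exact CharP.cast_eq_zero k p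
  have hσp : σ (p : W) = p := map_natCast σ p
  have hcc_surj : ∀ x : k, ∃ w : W, cc w = x := fun x =>
    ⟨WittVector.teichmuller p x, by rw [hcc, WittVector.teichmuller_coeff_zero]⟩
  have hcc_ker : ∀ w : W, cc w = 0 → ∃ w', w = (p : W) * w' := by
    intro w hw
    rw [hcc] at hw
    have := (WittVector.mem_span_p_iff_coeff_zero_eq_zero w).mpr hw
    rw [Ideal.mem_span_singleton] at this
    exact this
  -- the reduction map
  obtain ⟨π, hπ_apply⟩ : ∃ π : M →ₛₗ[cc] (Fin n → k), ∀ m i, π m i = cc (b.equivFun m i) :=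
    ⟨{ toFun := fun m i => cc (b.equivFun m i)
       map_add' := fun x y => by funext i; simp only [map_add, Pi.add_apply]
       map_smul' := fun a x => by
        funext i; simp only [map_smul, Pi.smul_apply, smul_eq_mul, map_mul] }, fun _ _ => rfl⟩
  have hπ_ker : ∀ m, π m = 0 → ∃ m', m = (p : W) • m' := by
    intro m hm
    have h1 : ∀ i, ∃ w', b.equivFun m i = (p : W) * w' := fun i =>
      hcc_ker _ (by rw [← hπ_apply, hm]; rfl)
    choose u hu using h1
    refine ⟨b.equivFun.symm u, ?_⟩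
    apply b.equivFun.injective
    rw [map_smul, LinearEquiv.apply_symm_apply]
    funext i
    rw [Pi.smul_apply, smul_eq_mul]
    exact hu i
  have hπ_p : ∀ m, π ((p : W) • m) = 0 := fun m => by rw [map_smulₛₗ, hccp, zero_smul]
  have hπ_surj : ∀ v, ∃ m, π m = v := by
    intro v
    choose w hw using fun i => hcc_surj (v i)
    refine ⟨b.equivFun.symm w, ?_⟩
    funext i
    rw [hπ_apply, LinearEquiv.apply_symm_apply, hw]
  have hFp : ∀ m, F ((p : W) • m) = (p : W) • F m := fun m => by rw [hF', hσp]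
  have hFpow : ∀ (j : ℕ) (m : M), F ((p : W) ^ j • m) = (p : W) ^ j • F m := fun j m => by
    rw [hF', map_pow, hσp]
  have hFker : ∀ m, π m = 0 → π (F m) = 0 := by
    intro m hm
    obtain ⟨m', rfl⟩ := hπ_ker m hm
    rw [hFp, hπ_p]
  choose s hs using hπ_surj
  have hsπ : ∀ m, π (F (s (π m))) = π (F m) := by
    intro m
    have h1 : π (s (π m) - m) = 0 := by rw [map_sub, hs, sub_self]
    have h2 := hFker _ h1
    rw [map_sub, map_sub, sub_eq_zero] at h2
    exact h2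
  obtain ⟨φ, hφπ⟩ : ∃ φ : (Fin n → k) →ₛₗ[ρ] (Fin n → k), ∀ m, φ (π m) = π (F m) :=
    ⟨{ toFun := fun v => π (F (s v))
       map_add' := fun v v' => by
        have e : v + v' = π (s v + s v') := by rw [map_add, hs, hs]
        show π (F (s (v + v'))) = π (F (s v)) + π (F (s v'))
        rw [e, hsπ, map_add, map_add]
       map_smul' := fun c v => by
        obtain ⟨a, rfl⟩ := hcc_surj c
        have e : cc a • v = π (a • s v) := by rw [map_smulₛₗ, hs]
        show π (F (s (cc a • v))) = ρ (cc a) • π (F (s v))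
        rw [e, hsπ, hF', map_smulₛₗ, hccσ] }, hsπ⟩
  have hφinj : Function.Injective φ := by
    rw [injective_iff_map_eq_zero]
    intro v hv
    obtain ⟨m, rfl⟩ : ∃ m, π m = v := ⟨s v, hs v⟩
    rw [hφπ] at hv
    obtain ⟨m', hm'⟩ := hπ_ker _ hv
    obtain ⟨m'', rfl⟩ := hbij.2 m'
    rw [← hFp] at hm'
    have := hbij.1 hm'
    rw [this, hπ_p]
  have hstep : ∀ m : M, ∃ y e : M, F y - y - m = (p : W) • e := by
    intro m
    obtain ⟨z, hz⟩ := H8Lang.exists_sub_eq hq hρ φ (π m)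
    obtain ⟨y, rfl⟩ : ∃ y, π y = z := ⟨s z, hs z⟩
    have h1 : π (F y - y - m) = 0 := by rw [map_sub, map_sub, ← hφπ, hz, sub_self]
    obtain ⟨e, he⟩ := hπ_ker _ h1
    exact ⟨y, e, he⟩
  have hlift : ∀ x₀ e₀ : M, F x₀ - x₀ = (p : W) • e₀ →
      ∃ y : M, F y = y ∧ ∃ m, y - x₀ = (p : W) • m := by
    intro x₀ e₀ h0
    obtain ⟨S, hSdef⟩ : ∃ S : ℕ → Set M, ∀ j z, z ∈ S j ↔
        ((∃ m, z - x₀ = (p : W) • m) ∧ ∃ e, F z - z = (p : W) ^ (j + 1) • e) :=
      ⟨fun j => {z | (∃ m, z - x₀ = (p : W) • m) ∧ ∃ e, F z - z = (p : W) ^ (j + 1) • e},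
        fun _ _ => Iff.rfl⟩
    have hS : ∀ j : ℕ, ∀ z ∈ S j, ∃ z' ∈ S (j + 1), ∃ m : M, z' - z = (p : W) ^ j • m := by
      intro j z hz
      obtain ⟨⟨m, hm⟩, e, he⟩ := (hSdef j z).mp hz
      obtain ⟨y, e', hy⟩ := hstep (-e)
      refine ⟨z + (p : W) ^ (j + 1) • y, (hSdef _ _).mpr ⟨⟨m + (p : W) ^ j • y, ?_⟩, e', ?_⟩,
        (p : W) • y, ?_⟩
      · rw [smul_add, ← hm, smul_smul, ← pow_succ']; abel
      · rw [map_add, hFpow, pow_succ (p : W) (j + 1), mul_smul, ← hy]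
        have : F z = z + (p : W) ^ (j + 1) • e := by rw [← he]; abel
        rw [this, smul_sub, smul_sub, smul_neg]; abel
      · rw [add_sub_cancel_left, smul_smul, ← pow_succ]
    have h0' : x₀ ∈ S 0 := (hSdef _ _).mpr
      ⟨⟨0, by rw [sub_self, smul_zero]⟩, e₀, by rw [zero_add, pow_one]; exact h0⟩
    obtain ⟨y, hy⟩ := exists_limit_tower b S hS x₀ h0'
    have key : ∀ j : ℕ, ∃ m : M, F y - y = (p : W) ^ j • m := by
      intro j
      obtain ⟨z, hz, m, hm⟩ := hy j
      obtain ⟨-, e, he⟩ := (hSdef j z).mp hz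
      have hy' : y = z + (p : W) ^ j • m := by rw [← hm]; abel
      refine ⟨(p : W) • e + F m - m, ?_⟩
      have hz' : F z = z + (p : W) ^ (j + 1) • e := by rw [← he]; abel
      rw [hy', map_add, hFpow, hz', smul_sub, smul_add, smul_smul, ← pow_succ]; abel
    have hfix := m_haus b (F y - y) key
    refine ⟨y, sub_eq_zero.mp hfix, ?_⟩
    obtain ⟨z, hz, m, hm⟩ := hy 1
    obtain ⟨⟨m', hm'⟩, -⟩ := (hSdef 1 z).mp hz
    refine ⟨m + m', ?_⟩
    rw [pow_one] at hm
    rw [smul_add, ← hm, ← hm']; abel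
  have hlift2 : ∀ v : Fin n → k, φ v = v → ∃ y : M, F y = y ∧ π y = v := by
    intro v hv
    have hx : π (F (s v) - s v) = 0 := by rw [map_sub, ← hφπ, hs, hv, sub_self]
    obtain ⟨e₀, he₀⟩ := hπ_ker _ hx
    obtain ⟨y, hy1, m, hm⟩ := hlift (s v) e₀ he₀
    refine ⟨y, hy1, ?_⟩
    have : y = s v + (p : W) • m := by rw [← hm]; abel
    rw [this, map_add, hπ_p, add_zero, hs]
  choose! Y hY using hlift2
  -- a basis of fixed vectors mod p
  have hspanV : Submodule.span k {v : Fin n → k | φ v = v} = ⊤ :=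
    span_fixed_eq_top hq hρ φ hφinj
  obtain ⟨B, hBS, hBspan, hBli⟩ := exists_linearIndependent k {v : Fin n → k | φ v = v}
  rw [hspanV] at hBspan
  obtain ⟨bV, hbV⟩ : ∃ bV : Module.Basis B k (Fin n → k), ∀ i : B, bV i = (i : Fin n → k) :=
    ⟨Module.Basis.mk hBli (le_of_eq (by rw [Subtype.range_coe, hBspan])),
      fun i => Module.Basis.mk_apply _ _ i⟩
  obtain ⟨eB⟩ : Nonempty (B ≃ Fin n) := ⟨bV.indexEquiv (Pi.basisFun k (Fin n))⟩
  obtain ⟨bV', hbV'⟩ : ∃ bV' : Module.Basis (Fin n) k (Fin n → k),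
      ∀ j, bV' j = ((eB.symm j : B) : Fin n → k) :=
    ⟨bV.reindex eB, fun j => by rw [Module.Basis.reindex_apply, hbV]⟩
  obtain ⟨y, hydef⟩ : ∃ y : Fin n → M, ∀ j, y j = Y ((eB.symm j : B) : Fin n → k) :=
    ⟨_, fun _ => rfl⟩
  have hyfix : ∀ j, F (y j) = y j := fun j => by
    rw [hydef]; exact (hY _ (hBS (eB.symm j).2)).1
  have hyπ : ∀ j, π (y j) = ((eB.symm j : B) : Fin n → k) := fun j => by
    rw [hydef]; exact (hY _ (hBS (eB.symm j).2)).2
  have hspanM : (⊤ : Submodule W M) ≤ Submodule.span W (Set.range y) := by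
    apply Submodule.le_of_le_smul_of_le_jacobson_bot (I := Ideal.span {(p : W)})
      Module.Finite.fg_top (IsAdicComplete.le_jacobson_bot _)
    intro m _
    obtain ⟨a, ha⟩ : ∃ a : Fin n → W, ∀ j, cc (a j) = bV'.repr (π m) j := by
      choose a ha using fun j => hcc_surj (bV'.repr (π m) j)
      exact ⟨a, ha⟩
    have h2 : π (m - ∑ j, a j • y j) = 0 := by
      rw [map_sub, map_sum, sub_eq_zero]
      conv_lhs => rw [← bV'.sum_repr (π m)]
      refine Finset.sum_congr rfl fun j _ => ?_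
      rw [map_smulₛₗ, ha, hyπ, hbV']
    obtain ⟨m'', hm''⟩ := hπ_ker _ h2
    have e : m = ∑ j, a j • y j + (p : W) • m'' := by rw [← hm'']; abel
    rw [e]
    exact Submodule.add_mem_sup
      (Submodule.sum_mem _ fun j _ =>
        Submodule.smul_mem _ _ (Submodule.subset_span ⟨j, rfl⟩))
      (Submodule.smul_mem_smul (Ideal.subset_span rfl) Submodule.mem_top)
  have hcard : Fintype.card (Fin n) = Module.finrank W M := by rw [Fintype.card_fin, hn]
  refine ⟨ULift.{v} (Fin n),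
    (basisOfTopLeSpanOfCardEqFinrank y hspanM hcard).reindex Equiv.ulift.symm, fun i => ?_⟩
  rw [Module.Basis.reindex_apply, coe_basisOfTopLeSpanOfCardEqFinrank]
  exact hyfix _

end WittPart

end H8Witt
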