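import Mathlib

/-!
# The operator `P ↦ X(X-1)P' - ((a+b)X - a)P` and the linear system `V` (helper8)
-/

set_option autoImplicit false

namespace Groth.Agent.Lib.helper8.WronskLib

open Polynomial

variable {k : Type*} [Field k] [CharZero k]

/-- `D · (P / (X^a (X-1)^b))'` where `D = X^(a+1) (X-1)^(b+1)`. -/
noncomputable def TT (a b : ℕ) (P : k[X]) : k[X] :=
  X * (X - 1) * derivative P - (C ((a : k) + (b : k)) * X - C (a : k)) * P

theorem TT_add (a b : ℕ) (P Q : k[X]) : TT a b (P + Q) = TT a b P + TT a b Q := by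
  unfold TT; rw [derivative_add]; ring

theorem TT_sub (a b : ℕ) (P Q : k[X]) : TT a b (P - Q) = TT a b P - TT a b Q := by
  unfold TT; rw [derivative_sub]; ring

theorem TT_C_mul (a b : ℕ) (c : k) (P : k[X]) : TT a b (C c * P) = C c * TT a b P := by
  unfold TT; rw [derivative_C_mul]; ring

theorem TT_zero (a b : ℕ) : TT a b (0 : k[X]) = 0 := by
  unfold TT; rw [derivative_zero]; ring

theorem deriv_Xm1_pow (n : ℕ) :
    derivative ((X - 1 : k[X]) ^ (n + 1)) = C ((n + 1 : ℕ) : k) * (X - 1) ^ n := by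
  have h := derivative_X_sub_C_pow (1 : k) (n + 1)
  rw [C_1, Nat.add_sub_cancel] at h
  exact h

theorem natDeg_Xm1_pow (n : ℕ) : ((X - 1 : k[X]) ^ n).natDegree = n := by
  rw [← C_1, natDegree_pow, natDegree_X_sub_C, mul_one]

theorem Xm1_pow_ne_zero (n : ℕ) : ((X - 1 : k[X]) ^ n) ≠ 0 := by
  apply pow_ne_zero
  rw [← C_1]
  exact X_sub_C_ne_zero 1

theorem TT_A (a b : ℕ) (G : k[X]) :
    TT (a + 1) b (X ^ (a + 1) * G) =
      X ^ (a + 1 + 1) * ((X - 1) * derivative G - C (b : k) * G) := by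
  unfold TT
  rw [derivative_mul, derivative_X_pow, Nat.add_sub_cancel]
  simp only [Nat.cast_add, Nat.cast_one, C_add, C_1]
  ring

theorem TT_B (a b : ℕ) (H : k[X]) :
    TT a (b + 1) ((X - 1) ^ (b + 1) * H) =
      (X - 1) ^ (b + 1 + 1) * (X * derivative H - C (a : k) * H) := by
  unfold TT
  rw [derivative_mul, deriv_Xm1_pow]
  simp only [Nat.cast_add, Nat.cast_one, C_add, C_1]
  ring

theorem TT_C' (a b : ℕ) :
    TT (a + 1) (b + 1) (X ^ (a + 1 + 1) * (X - 1) ^ (b + 1)) =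
      (X : k[X]) ^ (a + 1 + 1) * (X - 1) ^ (b + 1 + 1) := by
  unfold TT
  rw [derivative_mul, derivative_X_pow, Nat.add_sub_cancel, deriv_Xm1_pow]
  simp only [Nat.cast_add, Nat.cast_one, C_add, C_1]
  ring

theorem TT_K (a b : ℕ) :
    TT (a + 1) (b + 1) ((X : k[X]) ^ (a + 1) * (X - 1) ^ (b + 1)) = 0 := by
  unfold TT
  rw [derivative_mul, derivative_X_pow, Nat.add_sub_cancel, deriv_Xm1_pow]
  simp only [Nat.cast_add, Nat.cast_one, C_add, C_1]
  ring

theorem natDeg_sub_lead (g : k[X]) (d : ℕ) (hg : g.natDegree ≤ d + 1) :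
    (g - C (g.coeff (d + 1)) * X ^ (d + 1)).natDegree ≤ d := by
  rw [natDegree_le_iff_coeff_eq_zero]
  intro N hN
  rw [coeff_sub, coeff_C_mul, coeff_X_pow]
  by_cases h : N = d + 1
  · rw [if_pos h, mul_one, h, sub_self]
  · rw [if_neg h, mul_zero, sub_zero]
    exact coeff_eq_zero_of_natDegree_lt (by omega)

theorem solve (c : k) (n : ℕ) : ∀ d : ℕ, d < n → ∀ g : k[X], g.natDegree ≤ d →
    ∃ G : k[X], G.natDegree ≤ d ∧ (X - C c) * derivative G - C (n : k) * G = g := by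
  intro d
  induction d with
  | zero =>
    intro hd g hg
    have hn : (n : k) ≠ 0 := Nat.cast_ne_zero.2 (by omega)
    obtain ⟨g0, rfl⟩ : ∃ g0, g = C g0 := ⟨_, eq_C_of_natDegree_le_zero hg⟩
    refine ⟨C (-(g0 / n)), by rw [natDegree_C], ?_⟩
    rw [derivative_C, mul_zero, zero_sub, ← C_mul, ← C_neg]
    congr 1
    field_simp
  | succ d ih =>
    intro hd g hg
    have hne : ((d + 1 : ℕ) : k) - (n : k) ≠ 0 := by
      rw [sub_ne_zero]
      intro h
      have := Nat.cast_injective h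
      omega
    obtain ⟨β, hβ⟩ : ∃ β : k, β * (((d + 1 : ℕ) : k) - n) = g.coeff (d + 1) :=
      ⟨g.coeff (d + 1) / (((d + 1 : ℕ) : k) - n), div_mul_cancel₀ _ hne⟩
    have hS : (X - C c) * derivative (C β * X ^ (d + 1)) - C (n : k) * (C β * X ^ (d + 1)) =
        C (g.coeff (d + 1)) * X ^ (d + 1) - C (c * β * ((d + 1 : ℕ) : k)) * X ^ d := by
      rw [derivative_C_mul, derivative_X_pow, Nat.add_sub_cancel, ← hβ]
      simp only [C_mul, C_sub]
      ring
    have hdeg : (g - C (g.coeff (d + 1)) * X ^ (d + 1) +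
        C (c * β * ((d + 1 : ℕ) : k)) * X ^ d).natDegree ≤ d := by
      refine (natDegree_add_le _ _).trans (max_le (natDeg_sub_lead g d hg) ?_)
      exact natDegree_C_mul_X_pow_le _ _
    obtain ⟨G', hG'deg, hG'⟩ := ih (by omega) _ hdeg
    refine ⟨C β * X ^ (d + 1) + G', ?_, ?_⟩
    · exact (natDegree_add_le _ _).trans
        (max_le (natDegree_C_mul_X_pow_le _ _) (hG'deg.trans (Nat.le_succ d)))
    · rw [derivative_add, mul_add, mul_add]
      have e : (X - C c) * derivative (C β * X ^ (d + 1)) + (X - C c) * derivative G' -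
          (C (n : k) * (C β * X ^ (d + 1)) + C (n : k) * G') =
          ((X - C c) * derivative (C β * X ^ (d + 1)) - C (n : k) * (C β * X ^ (d + 1))) +
          ((X - C c) * derivative G' - C (n : k) * G') := by ring
      rw [e, hS, hG']
      ring

/-- every member of `V` is `TT P` with `deg P ≤ a + b + 1` -/
theorem repr_V (a b : ℕ) (V : Submodule k k[X])
    (hV : V = ((Ideal.span {(X : k[X]) ^ (a + 1 + 1)}).restrictScalars k ⊓
        Polynomial.degreeLE k ↑(a + 1 + (b + 1))) ⊔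
      ((Ideal.span {((X : k[X]) - 1) ^ (b + 1 + 1)}).restrictScalars k ⊓
        Polynomial.degreeLE k ↑(a + 1 + (b + 1))) ⊔
      Submodule.span k {(X : k[X]) ^ (a + 1 + 1) * (X - 1) ^ (b + 1 + 1)})
    (f : k[X]) (hf : f ∈ V) :
    ∃ P : k[X], P.natDegree ≤ a + b + 3 ∧ TT (a + 1) (b + 1) P = f := by
  rw [hV] at hf
  obtain ⟨f12, hf12, f3, hf3, rfl⟩ := Submodule.mem_sup.1 hf
  obtain ⟨f1, hf1, f2, hf2, rfl⟩ := Submodule.mem_sup.1 hf12
  -- first piece
  obtain ⟨hf1a, hf1b⟩ := Submodule.mem_inf.1 hf1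
  obtain ⟨g, rfl⟩ := Ideal.mem_span_singleton.1 ((Submodule.restrictScalars_mem _ _ _).1 hf1a)
  have hgdeg : g.natDegree ≤ b := by
    by_cases hg0 : g = 0
    · rw [hg0, natDegree_zero]; exact Nat.zero_le _
    · have h1 := natDegree_le_of_degree_le (mem_degreeLE.1 hf1b)
      rw [natDegree_mul (pow_ne_zero _ X_ne_zero) hg0, natDegree_X_pow] at h1
      omega
  obtain ⟨G, hGdeg, hG⟩ := solve (1 : k) (b + 1) b (Nat.lt_succ_self b) g hgdeg
  rw [C_1] at hG
  -- second piece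
  obtain ⟨hf2a, hf2b⟩ := Submodule.mem_inf.1 hf2
  obtain ⟨h, rfl⟩ := Ideal.mem_span_singleton.1 ((Submodule.restrictScalars_mem _ _ _).1 hf2a)
  have hhdeg : h.natDegree ≤ a := by
    by_cases hh0 : h = 0
    · rw [hh0, natDegree_zero]; exact Nat.zero_le _
    · have h1 := natDegree_le_of_degree_le (mem_degreeLE.1 hf2b)
      rw [natDegree_mul (Xm1_pow_ne_zero _) hh0, natDeg_Xm1_pow] at h1
      omega
  obtain ⟨H, hHdeg, hH⟩ := solve (0 : k) (a + 1) a (Nat.lt_succ_self a) h hhdeg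
  rw [C_0, sub_zero] at hH
  -- third piece
  obtain ⟨γ, rfl⟩ := Submodule.mem_span_singleton.1 hf3
  refine ⟨X ^ (a + 1) * G + (X - 1) ^ (b + 1) * H +
    C γ * (X ^ (a + 1 + 1) * (X - 1) ^ (b + 1)), ?_, ?_⟩
  · have d1 : (X ^ (a + 1) * G : k[X]).natDegree ≤ a + 1 + b :=
      natDegree_mul_le.trans (add_le_add (natDegree_X_pow_le _) hGdeg)
    have d2 : ((X - 1) ^ (b + 1) * H : k[X]).natDegree ≤ b + 1 + a :=
      natDegree_mul_le.trans (add_le_add (natDeg_Xm1_pow _).le hHdeg)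
    have d3 : (C γ * (X ^ (a + 1 + 1) * (X - 1) ^ (b + 1)) : k[X]).natDegree ≤ a + 1 + 1 + (b + 1) :=
      (natDegree_C_mul_le _ _).trans
        (natDegree_mul_le.trans (add_le_add (natDegree_X_pow_le _) (natDeg_Xm1_pow _).le))
    refine (natDegree_add_le _ _).trans (max_le ((natDegree_add_le _ _).trans (max_le ?_ ?_)) ?_)
    · omega
    · omega
    · omega
  · rw [TT_add, TT_add, TT_A, TT_B, TT_C_mul, TT_C', hG, hH, smul_eq_C_mul]

theorem dvd_step (a b : ℕ) (p : k) (hp0 : p ≠ 0) (hp1 : p ≠ 1) (m : ℕ) (R : k[X])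
    (h : (X - C p) ^ (m + 1) ∣ TT a b ((X - C p) ^ (m + 1) * R)) : (X - C p) ∣ R := by
  have hne : (X - C p : k[X]) ^ m ≠ 0 := pow_ne_zero _ (X_sub_C_ne_zero p)
  have e : TT a b ((X - C p) ^ (m + 1) * R) =
      (X - C p) ^ m * (C ((m + 1 : ℕ) : k) * (X * (X - 1)) * R) +
      (X - C p) ^ (m + 1) * (X * (X - 1) * derivative R -
        (C ((a : k) + (b : k)) * X - C (a : k)) * R) := by
    unfold TT
    rw [derivative_mul, derivative_X_sub_C_pow, Nat.add_sub_cancel]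
    ring
  rw [e] at h
  have h2 : (X - C p) ^ (m + 1) ∣ (X - C p) ^ m * (C ((m + 1 : ℕ) : k) * (X * (X - 1)) * R) :=
    (dvd_add_left (dvd_mul_right _ _)).1 h
  rw [pow_succ, mul_dvd_mul_iff_left hne] at h2
  rw [dvd_iff_isRoot, IsRoot.def] at h2 ⊢
  simp only [eval_mul, eval_C, eval_X, eval_sub, eval_one] at h2
  have hm : ((m + 1 : ℕ) : k) ≠ 0 := Nat.cast_ne_zero.2 (Nat.succ_ne_zero m)
  have hp1' : p - 1 ≠ 0 := sub_ne_zero.2 hp1
  rcases mul_eq_zero.1 h2 with h3 | h3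
  · exfalso
    rcases mul_eq_zero.1 h3 with h4 | h4
    · exact hm h4
    · rcases mul_eq_zero.1 h4 with h5 | h5
      · exact hp0 h5
      · exact hp1' h5
  · exact h3

theorem pow_dvd_of (a b : ℕ) (p : k) (hp0 : p ≠ 0) (hp1 : p ≠ 1) (P : k[X]) (n : ℕ)
    (h0 : P.eval p = 0) (hdiv : (X - C p) ^ n ∣ TT a b P) : (X - C p) ^ (n + 1) ∣ P := by
  have key : ∀ m, m ≤ n → (X - C p) ^ (m + 1) ∣ P := by
    intro m
    induction m with
    | zero =>
      intro _
      rw [zero_add, pow_one, dvd_iff_isRoot]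
      exact h0
    | succ m ih =>
      intro hm
      obtain ⟨R, hR⟩ := ih (by omega)
      have h1 : (X - C p) ^ (m + 1) ∣ TT a b ((X - C p) ^ (m + 1) * R) := by
        rw [← hR]
        exact (pow_dvd_pow _ hm).trans hdiv
      obtain ⟨R', hR'⟩ := dvd_step a b p hp0 hp1 m R h1
      refine ⟨R', ?_⟩
      rw [hR, hR']
      ring
  exact key n le_rfl

/-- the final degree argument -/
theorem final (p q' : k) (hpq : p ≠ q') (D e1 e2 : ℕ) (hD : D < e1 + e2) (P1 P2 : k[X])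
    (hP1 : P1.natDegree ≤ D) (hP2 : P2.natDegree ≤ D)
    (h1 : (X - C p) ^ e1 ∣ P1) (h2 : (X - C p) ^ e1 ∣ P2)
    (hq : ∀ α β : k, (C α * P1 + C β * P2).eval q' = 0 →
      (X - C q') ^ e2 ∣ C α * P1 + C β * P2) :
    ∃ α β : k, (α ≠ 0 ∨ β ≠ 0) ∧ C α * P1 + C β * P2 = 0 := by
  obtain ⟨α, β, hαβ, hev⟩ : ∃ α β : k, (α ≠ 0 ∨ β ≠ 0) ∧
      α * P1.eval q' + β * P2.eval q' = 0 := by
    by_cases h : P1.eval q' = 0
    · exact ⟨1, 0, Or.inl one_ne_zero, by rw [h]; ring⟩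
    · exact ⟨-P2.eval q', P1.eval q', Or.inr h, by ring⟩
  refine ⟨α, β, hαβ, ?_⟩
  have hev' : (C α * P1 + C β * P2).eval q' = 0 := by
    rw [eval_add, eval_mul, eval_mul, eval_C, eval_C]
    exact hev
  have d1 : (X - C p) ^ e1 ∣ C α * P1 + C β * P2 :=
    dvd_add (dvd_mul_of_dvd_right h1 _) (dvd_mul_of_dvd_right h2 _)
  have d2 := hq α β hev'
  have hcop : IsCoprime ((X - C p : k[X]) ^ e1) ((X - C q') ^ e2) := by
    apply IsCoprime.pow
    exact isCoprime_X_sub_C_of_isUnit_sub (isUnit_iff_ne_zero.2 (sub_ne_zero.2 hpq))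
  have d3 := hcop.mul_dvd d1 d2
  apply eq_zero_of_dvd_of_natDegree_lt d3
  have hdeg : ((X - C p : k[X]) ^ e1 * (X - C q') ^ e2).natDegree = e1 + e2 := by
    rw [natDegree_mul (pow_ne_zero _ (X_sub_C_ne_zero p)) (pow_ne_zero _ (X_sub_C_ne_zero q')),
      natDegree_pow, natDegree_pow, natDegree_X_sub_C, natDegree_X_sub_C, mul_one, mul_one]
  rw [hdeg]
  have hle : (C α * P1 + C β * P2).natDegree ≤ D :=
    (natDegree_add_le _ _).trans (max_le ((natDegree_C_mul_le _ _).trans hP1)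
      ((natDegree_C_mul_le _ _).trans hP2))
  omega

end Groth.Agent.Lib.helper8.WronskLib
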