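import Mathlib
import Groth.Prelude.Def_W4c2invhilbsl2

/-! Helper lemmas for the `W4c2invhilbsl2` weight-piece statements. -/

namespace H8WP
open MvPolynomial W4c2invhilbsl2

variable {k : Type*} [Field k]

theorem piece_le_of_monomials {σ : Type*} {M : Type*} [AddCommMonoid M] (w : σ → M)
    (I : Ideal (MvPolynomial σ k)) (ν : M) (S : Submodule k (MvPolynomial σ k ⧸ I))
    (hS : ∀ d : σ →₀ ℕ, Finsupp.weight w d = ν → Ideal.Quotient.mk I (monomial d 1) ∈ S) :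
    piece k w I ν ≤ S := by
  rintro _ ⟨φ, hφ, rfl⟩
  have hφ' : IsWeightedHomogeneous w φ ν := hφ
  change Ideal.Quotient.mk I φ ∈ S
  have h := (MvPolynomial.support_sum_monomial_coeff φ).symm
  rw [h, map_sum]
  refine Submodule.sum_mem _ fun d hd => ?_
  have hc : coeff d φ ≠ 0 := MvPolynomial.mem_support_iff.mp hd
  have hw := hφ' hc
  have e : (monomial d (coeff d φ) : MvPolynomial σ k) = C (coeff d φ) * monomial d 1 := by
    rw [MvPolynomial.C_mul_monomial, mul_one]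
  have e2 : Ideal.Quotient.mk I (C (coeff d φ) * monomial d 1) =
      coeff d φ • Ideal.Quotient.mk I (monomial d 1) := by
    rw [← MvPolynomial.smul_eq_C_mul]; rfl
  rw [e, e2]
  exact S.smul_mem _ (hS d hw)

theorem rank_piece_le_one {σ : Type*} {M : Type*} [AddCommMonoid M] (w : σ → M)
    (I : Ideal (MvPolynomial σ k)) (ν : M)
    (h : ∀ d d' : σ →₀ ℕ, Finsupp.weight w d = ν → Finsupp.weight w d' = ν →
      ∃ c : k, Ideal.Quotient.mk I (monomial d 1) = c • Ideal.Quotient.mk I (monomial d' 1) ∨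
               Ideal.Quotient.mk I (monomial d' 1) = c • Ideal.Quotient.mk I (monomial d 1)) :
    Module.rank k (piece k w I ν) ≤ 1 := by
  have : Module.Free k (piece k w I ν) := Module.Free.of_divisionRing k _
  rw [rank_submodule_le_one_iff']
  by_cases hz : ∀ d : σ →₀ ℕ, Finsupp.weight w d = ν → Ideal.Quotient.mk I (monomial d 1) = 0
  · refine ⟨0, piece_le_of_monomials w I ν _ fun d hd => ?_⟩
    rw [hz d hd]; exact Submodule.zero_mem _
  · push_neg at hz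
    obtain ⟨d₀, hd₀, hne⟩ := hz
    refine ⟨Ideal.Quotient.mk I (monomial d₀ 1), piece_le_of_monomials w I ν _ fun d hd => ?_⟩
    rw [Submodule.mem_span_singleton]
    obtain ⟨c, hc | hc⟩ := h d d₀ hd hd₀
    · exact ⟨c, hc.symm⟩
    · have hc0 : c ≠ 0 := by
        rintro rfl
        rw [zero_smul] at hc
        exact hne hc
      refine ⟨c⁻¹, ?_⟩
      rw [hc, smul_smul, inv_mul_cancel₀ hc0, one_smul]

theorem smul_mk {σ : Type*} (I : Ideal (MvPolynomial σ k)) (c : k) (y : MvPolynomial σ k ⧸ I) :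
    c • y = Ideal.Quotient.mk I (C c) * y := by
  obtain ⟨y, rfl⟩ := Ideal.Quotient.mk_surjective y
  rw [← map_mul, ← MvPolynomial.smul_eq_C_mul]; rfl

theorem monomial_fin5 (d : Fin 5 →₀ ℕ) : (monomial d (1:k) : MvPolynomial (Fin 5) k) =
    X 0 ^ d 0 * X 1 ^ d 1 * X 2 ^ d 2 * X 3 ^ d 3 * X 4 ^ d 4 := by
  rw [MvPolynomial.monomial_eq, C_1, one_mul, Finsupp.prod_fintype _ _ (fun i => pow_zero _),
    Fin.prod_univ_five]

theorem monomial_fin3 (d : Fin 3 →₀ ℕ) : (monomial d (1:k) : MvPolynomial (Fin 3) k) =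
    X 0 ^ d 0 * X 1 ^ d 1 * X 2 ^ d 2 := by
  rw [MvPolynomial.monomial_eq, C_1, one_mul, Finsupp.prod_fintype _ _ (fun i => pow_zero _),
    Fin.prod_univ_three]

theorem weight_wt5_fst (p q m : ℕ) (d : Fin 5 →₀ ℕ) :
    (Finsupp.weight (wt5 p q m) d).1 =
      (d 0 : ℤ) - p * d 1 - p * d 2 + q * d 3 + q * d 4 := by
  rw [Finsupp.weight_apply, Finsupp.sum_fintype d (fun i c => c • wt5 p q m i) (fun i => zero_smul ℕ _), Fin.sum_univ_five]
  simp [wt5]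
  ring

theorem weight_wt5_snd (p q m : ℕ) (d : Fin 5 →₀ ℕ) :
    (Finsupp.weight (wt5 p q m) d).2 =
      (((d 3 : ℤ) + d 4 - d 1 - d 2 : ℤ) : ZMod m) := by
  rw [Finsupp.weight_apply, Finsupp.sum_fintype d (fun i c => c • wt5 p q m i) (fun i => zero_smul ℕ _), Fin.sum_univ_five]
  simp [wt5]
  ring

theorem weight_wt3_fst (p q m : ℕ) (d : Fin 3 →₀ ℕ) :
    (Finsupp.weight (wt3 p q m) d).1 = (d 0 : ℤ) - p * d 1 + q * d 2 := by
  rw [Finsupp.weight_apply, Finsupp.sum_fintype d (fun i c => c • wt3 p q m i) (fun i => zero_smul ℕ _), Fin.sum_univ_three]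
  simp [wt3]
  ring

theorem weight_wt3_snd (p q m : ℕ) (d : Fin 3 →₀ ℕ) :
    (Finsupp.weight (wt3 p q m) d).2 = (((d 2 : ℤ) - d 1 : ℤ) : ZMod m) := by
  rw [Finsupp.weight_apply, Finsupp.sum_fintype d (fun i c => c • wt3 p q m i) (fun i => zero_smul ℕ _), Fin.sum_univ_three]
  simp [wt3]
  ring

theorem lemmaA {R : Type*} [CommRing R] (x0 x1 x4 : R) (p q : ℕ) (hpq : p < q)
    (hrel : x0 ^ (q - p) = x1 * x4) (a b c a' b' c' : ℕ)
    (h1 : (a : ℤ) - p * b + q * c = a' - p * b' + q * c')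
    (h2 : (c : ℤ) - b = c' - b') (hcc : c ≤ c') :
    x0 ^ a * x1 ^ b * x4 ^ c = x0 ^ a' * x1 ^ b' * x4 ^ c' := by
  obtain ⟨e, he⟩ := Nat.exists_eq_add_of_le hcc
  subst he
  have hb : b' = b + e := by push_cast at h2; omega
  subst hb
  have ha : a = a' + (q - p) * e := by
    have hc : ((q - p : ℕ) : ℤ) = q - p := Nat.cast_sub hpq.le
    zify
    rw [hc]
    push_cast at h1
    linarith
  subst ha
  rw [pow_add, pow_mul, hrel]
  ring

theorem lemmaI {R : Type*} [CommRing R] (x0 x1 x4 S : R) (p q m : ℕ) (hpq : p < q)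
    (hrel : x0 ^ (q - p) = x1 * x4) (hS : S = x0 ^ (m * p) * x1 ^ m)
    (a b c a' b' c' t : ℕ)
    (h1 : (a : ℤ) - p * b + q * c = a' - p * b' + q * c')
    (h2 : (c' : ℤ) - b' = c - b + m * t) :
    x0 ^ a * x1 ^ b * x4 ^ c = S ^ t * (x0 ^ a' * x1 ^ b' * x4 ^ c') := by
  have key : x0 ^ a * x1 ^ b * x4 ^ c =
      x0 ^ (a' + m * p * t) * x1 ^ (b' + m * t) * x4 ^ c' := by
    rcases le_total c c' with hcc | hcc
    · exact lemmaA x0 x1 x4 p q hpq hrel _ _ _ _ _ _ (by push_cast; linarith)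
        (by push_cast; linarith) hcc
    · exact (lemmaA x0 x1 x4 p q hpq hrel _ _ _ _ _ _ (by push_cast; linarith)
        (by push_cast; linarith) hcc).symm
  rw [key, hS]
  ring

theorem lemmaJ {R : Type*} [CommRing R] (x0 x1 x3 S : R) (p q m : ℕ) (hp : 0 < p) (hpq : p < q)
    (hcop : Nat.Coprime p q) (hm : 0 < m)
    (hS : S = x1 ^ (m / Nat.gcd m (q - p) * q) * x3 ^ (m / Nat.gcd m (q - p) * p))
    (a0 b c a0' b' c' : ℕ) (h0 : a0 < Nat.gcd m (q - p)) (h0' : a0' < Nat.gcd m (q - p))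
    (h1 : (a0 : ℤ) - p * b + q * c = a0' - p * b' + q * c')
    (h2 : (m : ℤ) ∣ ((c' : ℤ) - b') - (c - b)) :
    ∃ n : ℕ, x0 ^ a0 * x1 ^ b * x3 ^ c = S ^ n * (x0 ^ a0' * x1 ^ b' * x3 ^ c') ∨
             x0 ^ a0' * x1 ^ b' * x3 ^ c' = S ^ n * (x0 ^ a0 * x1 ^ b * x3 ^ c) := by
  obtain ⟨g, hg⟩ : ∃ g, g = Nat.gcd m (q - p) := ⟨_, rfl⟩
  rw [← hg] at hS h0 h0'
  have hgpos : 0 < g := by rw [hg]; exact Nat.gcd_pos_of_pos_left _ hm
  have hgm' : g ∣ m := by rw [hg]; exact Nat.gcd_dvd_left _ _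
  have hgq' : g ∣ q - p := by rw [hg]; exact Nat.gcd_dvd_right _ _
  have hcast : ((q - p : ℕ) : ℤ) = (q : ℤ) - p := Nat.cast_sub hpq.le
  have hgm : (g : ℤ) ∣ m := Int.natCast_dvd_natCast.mpr hgm'
  have hgqp : (g : ℤ) ∣ (q : ℤ) - p := by
    rw [← hcast]; exact Int.natCast_dvd_natCast.mpr hgq'
  have hdvd : (g : ℤ) ∣ (a0 : ℤ) - a0' := by
    have e : (a0 : ℤ) - a0' = p * (((c' : ℤ) - b') - (c - b)) + ((q:ℤ) - p) * (c' - c) := by
      linarith
    rw [e]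
    exact dvd_add (Dvd.dvd.mul_left (hgm.trans h2) _) (Dvd.dvd.mul_right hgqp _)
  have ha : a0 = a0' := by
    have : (a0 : ℤ) - a0' = 0 :=
      Int.eq_zero_of_abs_lt_dvd hdvd (by rw [abs_lt]; constructor <;> omega)
    omega
  subst ha
  have hcop' : IsCoprime (q : ℤ) (p : ℤ) := Nat.isCoprime_iff_coprime.mpr hcop.symm
  have hq : (q : ℤ) ∣ (b : ℤ) - b' := by
    apply hcop'.dvd_of_dvd_mul_left
    exact ⟨(c : ℤ) - c', by linarith⟩
  obtain ⟨j, hj⟩ := hq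
  have hqpos : (0 : ℤ) < q := by exact_mod_cast (hp.trans hpq)
  have hcj : (c : ℤ) - c' = p * j := by
    have h3 : (q : ℤ) * ((c : ℤ) - c') = q * (p * j) := by
      have h4 : (p : ℤ) * ((b : ℤ) - b') = q * ((c : ℤ) - c') := by linarith
      rw [← h4, hj]; ring
    exact mul_left_cancel₀ hqpos.ne' h3
  have hmj : (m : ℤ) ∣ ((q : ℤ) - p) * j := by
    have h3 : ((q : ℤ) - p) * j = ((c' : ℤ) - b') - (c - b) := by linarith
    rw [h3]; exact h2
  obtain ⟨a, ha⟩ : ∃ a, a = m / g := ⟨_, rfl⟩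
  obtain ⟨bb, hbb⟩ : ∃ bb, bb = (q - p) / g := ⟨_, rfl⟩
  rw [← ha] at hS
  have hmag : m = a * g := by rw [ha]; exact (Nat.div_mul_cancel hgm').symm
  have hqbg : q - p = bb * g := by rw [hbb]; exact (Nat.div_mul_cancel hgq').symm
  have hab : Nat.Coprime a bb := by
    rw [ha, hbb, hg]; exact Nat.coprime_div_gcd_div_gcd (by rw [← hg]; exact hgpos)
  have haj : (a : ℤ) ∣ j := by
    have hab' : IsCoprime (a : ℤ) (bb : ℤ) := Nat.isCoprime_iff_coprime.mpr hab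
    apply hab'.dvd_of_dvd_mul_left
    have hgne : (g : ℤ) ≠ 0 := by exact_mod_cast hgpos.ne'
    have h3 : (a : ℤ) * g ∣ ((bb : ℤ) * j) * g := by
      have e1 : ((a : ℤ) * g) = (m : ℤ) := by exact_mod_cast hmag.symm
      have e2 : ((bb : ℤ) * j) * g = ((q : ℤ) - p) * j := by
        have h4 : (q : ℤ) - p = bb * g := by rw [← hcast]; exact_mod_cast hqbg
        rw [h4]; ring
      rw [e1, e2]; exact hmj
    exact (mul_dvd_mul_iff_right hgne).mp h3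
  obtain ⟨t, rfl⟩ := haj
  rcases le_total 0 t with ht | ht
  · obtain ⟨n, rfl⟩ := Int.eq_ofNat_of_zero_le ht
    refine ⟨n, Or.inl ?_⟩
    have hb : b = b' + a * q * n := by zify; linarith
    have hc : c = c' + a * p * n := by zify; linarith
    rw [hb, hc, hS]; ring
  · obtain ⟨n, hn⟩ := Int.eq_ofNat_of_zero_le (neg_nonneg.mpr ht)
    have htn : t = -(n : ℤ) := by linarith
    rw [htn] at hj hcj
    refine ⟨n, Or.inr ?_⟩
    have hb : b' = b + a * q * n := by zify; linarith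
    have hc : c' = c + a * p * n := by zify; linarith
    rw [hb, hc, hS]; ring

theorem le_of_monomials {σ : Type*} {M : Type*} [AddCommMonoid M] (w : σ → M) (ν : M)
    (N : Submodule k (MvPolynomial σ k))
    (hN : ∀ d : σ →₀ ℕ, Finsupp.weight w d = ν → (monomial d (1:k)) ∈ N) :
    weightedHomogeneousSubmodule k w ν ≤ N := by
  intro φ hφ
  have hφ' : IsWeightedHomogeneous w φ ν := hφ
  have h := (MvPolynomial.support_sum_monomial_coeff φ).symm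
  rw [h]
  refine Submodule.sum_mem _ fun d hd => ?_
  have hc : coeff d φ ≠ 0 := MvPolynomial.mem_support_iff.mp hd
  have hw := hφ' hc
  have e : (monomial d (coeff d φ) : MvPolynomial σ k) = coeff d φ • monomial d 1 := by
    rw [MvPolynomial.smul_monomial, smul_eq_mul, mul_one]
  rw [e]
  exact N.smul_mem _ (hN d hw)

noncomputable def mk3 (a b c : ℕ) : Fin 3 →₀ ℕ := Finsupp.equivFunOnFinite.symm ![a, b, c]
@[simp] theorem mk3_0 (a b c : ℕ) : mk3 a b c 0 = a := rfl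
@[simp] theorem mk3_1 (a b c : ℕ) : mk3 a b c 1 = b := rfl
@[simp] theorem mk3_2 (a b c : ℕ) : mk3 a b c 2 = c := rfl

noncomputable def mk5 (a b c d e : ℕ) : Fin 5 →₀ ℕ :=
  Finsupp.equivFunOnFinite.symm ![a, b, c, d, e]
@[simp] theorem mk5_0 (a b c d e : ℕ) : mk5 a b c d e 0 = a := rfl
@[simp] theorem mk5_1 (a b c d e : ℕ) : mk5 a b c d e 1 = b := rfl
@[simp] theorem mk5_2 (a b c d e : ℕ) : mk5 a b c d e 2 = c := rfl
@[simp] theorem mk5_3 (a b c d e : ℕ) : mk5 a b c d e 3 = d := rfl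
@[simp] theorem mk5_4 (a b c d e : ℕ) : mk5 a b c d e 4 = e := rfl

theorem pow3_mem (p q m a b c : ℕ) (h1 : (a:ℤ) - p * b + q * c = 0)
    (h2 : (m:ℤ) ∣ (c:ℤ) - b) :
    (X 0 ^ a * X 1 ^ b * X 2 ^ c : MvPolynomial (Fin 3) k) ∈
      weightedHomogeneousSubmodule k (wt3 p q m) 0 := by
  have e : (X 0 ^ a * X 1 ^ b * X 2 ^ c : MvPolynomial (Fin 3) k) = monomial (mk3 a b c) 1 := by
    rw [monomial_fin3]; rfl
  rw [e, mem_weightedHomogeneousSubmodule]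
  apply isWeightedHomogeneous_monomial
  apply Prod.ext
  · rw [weight_wt3_fst]; exact h1
  · rw [weight_wt3_snd]; exact (CharP.intCast_eq_zero_iff (ZMod m) m _).mpr h2

theorem pow5_mem (p q m a b c d e : ℕ)
    (h1 : (a:ℤ) - p * b - p * c + q * d + q * e = 0)
    (h2 : (m:ℤ) ∣ (d:ℤ) + e - b - c) :
    (X 0 ^ a * X 1 ^ b * X 2 ^ c * X 3 ^ d * X 4 ^ e : MvPolynomial (Fin 5) k) ∈
      weightedHomogeneousSubmodule k (wt5 p q m) 0 := by
  have e : (X 0 ^ a * X 1 ^ b * X 2 ^ c * X 3 ^ d * X 4 ^ e : MvPolynomial (Fin 5) k) =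
      monomial (mk5 a b c d e) 1 := by
    rw [monomial_fin5]; rfl
  rw [e, mem_weightedHomogeneousSubmodule]
  apply isWeightedHomogeneous_monomial
  apply Prod.ext
  · rw [weight_wt5_fst]; exact h1
  · rw [weight_wt5_snd]; exact (CharP.intCast_eq_zero_iff (ZMod m) m _).mpr h2

section comb
variable {A : Type*} [CommRing A] [Algebra k A]

def comb2 (W : Submodule k A) (P : Ideal A) (u v : A) : Submodule k A where
  carrier := {f | ∃ a b : A, a ∈ W ∧ b ∈ W ∧ f - (a * u + b * v) ∈ P}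
  add_mem' := by
    rintro f f' ⟨a, b, ha, hb, h⟩ ⟨a', b', ha', hb', h'⟩
    refine ⟨a + a', b + b', W.add_mem ha ha', W.add_mem hb hb', ?_⟩
    have e : f + f' - ((a + a') * u + (b + b') * v) =
        (f - (a * u + b * v)) + (f' - (a' * u + b' * v)) := by ring
    rw [e]; exact P.add_mem h h'
  zero_mem' := ⟨0, 0, W.zero_mem, W.zero_mem, by simp⟩
  smul_mem' := by
    rintro c f ⟨a, b, ha, hb, h⟩
    refine ⟨c • a, c • b, W.smul_mem c ha, W.smul_mem c hb, ?_⟩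
    have e : c • f - (c • a * u + c • b * v) = algebraMap k A c * (f - (a * u + b * v)) := by
      simp only [Algebra.smul_def]; ring
    rw [e]; exact P.mul_mem_left _ h

theorem mem_comb2 (W : Submodule k A) (P : Ideal A) (u v f : A) :
    f ∈ comb2 W P u v ↔ ∃ a b : A, a ∈ W ∧ b ∈ W ∧ f - (a * u + b * v) ∈ P := Iff.rfl

def comb4 (W : Submodule k A) (P : Ideal A) (u1 u2 u3 u4 : A) : Submodule k A where
  carrier := {f | ∃ a1 a2 a3 a4 : A, a1 ∈ W ∧ a2 ∈ W ∧ a3 ∈ W ∧ a4 ∈ W ∧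
    f - (a1 * u1 + a2 * u2 + a3 * u3 + a4 * u4) ∈ P}
  add_mem' := by
    rintro f f' ⟨a1, a2, a3, a4, h1, h2, h3, h4, h⟩ ⟨b1, b2, b3, b4, g1, g2, g3, g4, h'⟩
    refine ⟨a1 + b1, a2 + b2, a3 + b3, a4 + b4, W.add_mem h1 g1, W.add_mem h2 g2,
      W.add_mem h3 g3, W.add_mem h4 g4, ?_⟩
    have e : f + f' - ((a1 + b1) * u1 + (a2 + b2) * u2 + (a3 + b3) * u3 + (a4 + b4) * u4) =
        (f - (a1 * u1 + a2 * u2 + a3 * u3 + a4 * u4)) +
          (f' - (b1 * u1 + b2 * u2 + b3 * u3 + b4 * u4)) := by ring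
    rw [e]; exact P.add_mem h h'
  zero_mem' := ⟨0, 0, 0, 0, W.zero_mem, W.zero_mem, W.zero_mem, W.zero_mem, by simp⟩
  smul_mem' := by
    rintro c f ⟨a1, a2, a3, a4, h1, h2, h3, h4, h⟩
    refine ⟨c • a1, c • a2, c • a3, c • a4, W.smul_mem c h1, W.smul_mem c h2, W.smul_mem c h3,
      W.smul_mem c h4, ?_⟩
    have e : c • f - (c • a1 * u1 + c • a2 * u2 + c • a3 * u3 + c • a4 * u4) =
        algebraMap k A c * (f - (a1 * u1 + a2 * u2 + a3 * u3 + a4 * u4)) := by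
      simp only [Algebra.smul_def]; ring
    rw [e]; exact P.mul_mem_left _ h

theorem mem_comb4 (W : Submodule k A) (P : Ideal A) (u1 u2 u3 u4 f : A) :
    f ∈ comb4 W P u1 u2 u3 u4 ↔ ∃ a1 a2 a3 a4 : A, a1 ∈ W ∧ a2 ∈ W ∧ a3 ∈ W ∧ a4 ∈ W ∧
      f - (a1 * u1 + a2 * u2 + a3 * u3 + a4 * u4) ∈ P := Iff.rfl

theorem mem_of_eq_zero (P : Ideal A) {x : A} (h : x = 0) : x ∈ P := h ▸ P.zero_mem

theorem mem_of_eq_mul (P : Ideal A) (g w : A) {x : A} (hg : g ∈ P) (h : x = w * g) : x ∈ P :=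
  h ▸ P.mul_mem_left _ hg

end comb

theorem mono_sub_mem (I : Ideal (MvPolynomial (Fin 3) k)) (p q : ℕ) (hpq : p < q)
    (hI : (X 0 ^ (q - p) - X 1 * X 2 : MvPolynomial (Fin 3) k) ∈ I) (d0 d1 d2 e0 e1 e2 : ℕ)
    (hn : (e0 : ℤ) - p * e1 + q * e2 = d0 - p * d1 + q * d2)
    (hcc : (d1 : ℤ) - d2 = e1 - e2) :
    (X 0 ^ d0 * X 1 ^ d1 * X 2 ^ d2 - X 0 ^ e0 * X 1 ^ e1 * X 2 ^ e2 :
      MvPolynomial (Fin 3) k) ∈ I := by
  rw [← Ideal.Quotient.eq]
  simp only [map_mul, map_pow]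
  have hrel : Ideal.Quotient.mk I (X 0) ^ (q - p) =
      Ideal.Quotient.mk I (X 1) * Ideal.Quotient.mk I (X 2) := by
    rw [← map_pow, ← map_mul]; exact Ideal.Quotient.eq.mpr hI
  rcases le_total d2 e2 with h | h
  · exact lemmaA _ _ _ p q hpq hrel _ _ _ _ _ _ (by linarith) (by linarith) h
  · exact (lemmaA _ _ _ p q hpq hrel _ _ _ _ _ _ (by linarith) (by linarith) h).symm

theorem mono_eq_pow_mul (I : Ideal (MvPolynomial (Fin 3) k)) (p q m : ℕ) (hpq : p < q)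
    (hI : (X 0 ^ (q - p) - X 1 * X 2 : MvPolynomial (Fin 3) k) ∈ I) (d0 d1 d2 e0 e1 e2 t : ℕ)
    (hn : (e0 : ℤ) - p * e1 + q * e2 = d0 - p * d1 + q * d2)
    (ht : (d1 : ℤ) - d2 - ((e1 : ℤ) - e2) = m * t) :
    Ideal.Quotient.mk I (X 0 ^ d0 * X 1 ^ d1 * X 2 ^ d2) =
      (Ideal.Quotient.mk I (X 0 ^ (m * p) * X 1 ^ m)) ^ t *
        Ideal.Quotient.mk I (X 0 ^ e0 * X 1 ^ e1 * X 2 ^ e2) := by
  have hrel : Ideal.Quotient.mk I (X 0) ^ (q - p) =
      Ideal.Quotient.mk I (X 1) * Ideal.Quotient.mk I (X 2) := by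
    rw [← map_pow, ← map_mul]; exact Ideal.Quotient.eq.mpr hI
  simp only [map_mul, map_pow]
  exact lemmaI _ _ _ _ p q m hpq hrel rfl _ _ _ _ _ _ t (by linarith) (by linarith)

theorem arithJ (p q m : ℕ) (hp : 0 < p) (hpq : p < q) (hcop : Nat.Coprime p q) (hm : 0 < m)
    (a0 b c a0' b' c' : ℕ) (h0 : a0 < Nat.gcd m (q - p)) (h0' : a0' < Nat.gcd m (q - p))
    (h1 : (a0 : ℤ) - p * b + q * c = a0' - p * b' + q * c')
    (h2 : (m : ℤ) ∣ ((c' : ℤ) - b') - (c - b)) :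
    a0 = a0' ∧ ∃ t : ℤ, (b : ℤ) - b' = q * (((m / Nat.gcd m (q - p) : ℕ) : ℤ) * t) ∧
      (c : ℤ) - c' = p * (((m / Nat.gcd m (q - p) : ℕ) : ℤ) * t) := by
  obtain ⟨g, hg⟩ : ∃ g, g = Nat.gcd m (q - p) := ⟨_, rfl⟩
  rw [← hg] at h0 h0' ⊢
  have hgpos : 0 < g := by rw [hg]; exact Nat.gcd_pos_of_pos_left _ hm
  have hgm' : g ∣ m := by rw [hg]; exact Nat.gcd_dvd_left _ _
  have hgq' : g ∣ q - p := by rw [hg]; exact Nat.gcd_dvd_right _ _
  have hcast : ((q - p : ℕ) : ℤ) = (q : ℤ) - p := Nat.cast_sub hpq.le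
  have hgm : (g : ℤ) ∣ m := Int.natCast_dvd_natCast.mpr hgm'
  have hgqp : (g : ℤ) ∣ (q : ℤ) - p := by
    rw [← hcast]; exact Int.natCast_dvd_natCast.mpr hgq'
  have hdvd : (g : ℤ) ∣ (a0 : ℤ) - a0' := by
    have e : (a0 : ℤ) - a0' = p * (((c' : ℤ) - b') - (c - b)) + ((q:ℤ) - p) * (c' - c) := by
      linarith
    rw [e]
    exact dvd_add (Dvd.dvd.mul_left (hgm.trans h2) _) (Dvd.dvd.mul_right hgqp _)
  have ha : a0 = a0' := by
    have : (a0 : ℤ) - a0' = 0 :=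
      Int.eq_zero_of_abs_lt_dvd hdvd (by rw [abs_lt]; constructor <;> omega)
    omega
  refine ⟨ha, ?_⟩
  subst ha
  have hcop' : IsCoprime (q : ℤ) (p : ℤ) := Nat.isCoprime_iff_coprime.mpr hcop.symm
  have hq : (q : ℤ) ∣ (b : ℤ) - b' := by
    apply hcop'.dvd_of_dvd_mul_left
    exact ⟨(c : ℤ) - c', by linarith⟩
  obtain ⟨j, hj⟩ := hq
  have hqpos : (0 : ℤ) < q := by exact_mod_cast (hp.trans hpq)
  have hcj : (c : ℤ) - c' = p * j := by
    have h3 : (q : ℤ) * ((c : ℤ) - c') = q * (p * j) := by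
      have h4 : (p : ℤ) * ((b : ℤ) - b') = q * ((c : ℤ) - c') := by linarith
      rw [← h4, hj]; ring
    exact mul_left_cancel₀ hqpos.ne' h3
  have hmj : (m : ℤ) ∣ ((q : ℤ) - p) * j := by
    have h3 : ((q : ℤ) - p) * j = ((c' : ℤ) - b') - (c - b) := by linarith
    rw [h3]; exact h2
  obtain ⟨a, ha⟩ : ∃ a, a = m / g := ⟨_, rfl⟩
  obtain ⟨bb, hbb⟩ : ∃ bb, bb = (q - p) / g := ⟨_, rfl⟩
  rw [← ha]
  have hmag : m = a * g := by rw [ha]; exact (Nat.div_mul_cancel hgm').symm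
  have hqbg : q - p = bb * g := by rw [hbb]; exact (Nat.div_mul_cancel hgq').symm
  have hab : Nat.Coprime a bb := by
    rw [ha, hbb, hg]; exact Nat.coprime_div_gcd_div_gcd (by rw [← hg]; exact hgpos)
  have haj : (a : ℤ) ∣ j := by
    have hab' : IsCoprime (a : ℤ) (bb : ℤ) := Nat.isCoprime_iff_coprime.mpr hab
    apply hab'.dvd_of_dvd_mul_left
    have hgne : (g : ℤ) ≠ 0 := by exact_mod_cast hgpos.ne'
    have h3 : (a : ℤ) * g ∣ ((bb : ℤ) * j) * g := by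
      have e1 : ((a : ℤ) * g) = (m : ℤ) := by exact_mod_cast hmag.symm
      have e2 : ((bb : ℤ) * j) * g = ((q : ℤ) - p) * j := by
        have h4 : (q : ℤ) - p = bb * g := by rw [← hcast]; exact_mod_cast hqbg
        rw [h4]; ring
      rw [e1, e2]; exact hmj
    exact (mul_dvd_mul_iff_right hgne).mp h3
  obtain ⟨t, rfl⟩ := haj
  exact ⟨t, hj, hcj⟩

end H8WP
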